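/-
The radicals at singular points of a quadratic space acting on a finite set: fixers, their trace
duals and the orbits of the radicals.
-/
import Cfsg.Agent.Lib.Classical.QuadEichler
import Mathlib.RingTheory.Trace.Basic
import Mathlib.FieldTheory.Separable
import Mathlib.LinearAlgebra.BilinearForm.Properties
import Mathlib.LinearAlgebra.BilinearForm.Orthogonal

set_option autoImplicit false

namespace CfsgLib.OrthMinIndex

open CfsgLib.Classical

variable {F V : Type*} [Field F] [AddCommGroup V] [Module F V] {Q : QuadraticForm F V}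

local notation "pl" => QuadraticMap.polar Q

theorem eich_mem_any (u w : V) : eich Q u w ∈ eichGroup Q := by
  by_cases h : Q u = 0 ∧ pl u w = 0
  · exact eich_mem Q h.1 h.2
  · rw [eich, dif_neg h]
    exact one_mem _

variable (Q) in
/-- The Eichler transformation, in the group they generate. -/
noncomputable def eG (u w : V) : eichGroup Q := ⟨eich Q u w, eich_mem_any u w⟩

/-- The image of a vector. -/
abbrev act (g : eichGroup Q) (x : V) : V := (g : qAut Q).1 x

theorem act_mul (g h : eichGroup Q) (x : V) : act (g * h) x = act g (act h x) := rfl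

theorem act_one (x : V) : act (1 : eichGroup Q) x = x := rfl

theorem act_inv_act (g : eichGroup Q) (x : V) : act g⁻¹ (act g x) = x := by
  rw [← act_mul, inv_mul_cancel, act_one]

theorem act_act_inv (g : eichGroup Q) (x : V) : act g (act g⁻¹ x) = x := by
  rw [← act_mul, mul_inv_cancel, act_one]

theorem act_polar (g : eichGroup Q) (x y : V) : pl (act g x) (act g y) = pl x y :=
  qAut_polar _ x y

theorem act_quad (g : eichGroup Q) (x : V) : Q (act g x) = Q x := qAut_map _ x

theorem act_ne_zero (g : eichGroup Q) {x : V} (hx : x ≠ 0) : act g x ≠ 0 :=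
  fun e => hx ((g : qAut Q).1.map_eq_zero_iff.1 e)

theorem eG_apply {u w : V} (hu : Q u = 0) (h : pl u w = 0) (x : V) :
    act (eG Q u w) x = x + pl x u • w - (pl x w + Q w * pl x u) • u := eich_apply Q hu h x

theorem eG_fix {u w : V} (hu : Q u = 0) (h : pl u w = 0) : act (eG Q u w) u = u := eich_fix Q hu h

theorem eG_fix_of {u w x : V} (hu : Q u = 0) (h : pl u w = 0) (h1 : pl x u = 0) (h2 : pl x w = 0) :
    act (eG Q u w) x = x := by
  simp [eG_apply hu h, h1, h2]

theorem eG_mul {u w w' : V} (hu : Q u = 0) (h : pl u w = 0) (h' : pl u w' = 0) :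
    eG Q u w * eG Q u w' = eG Q u (w + w') := Subtype.ext (eich_mul Q hu h h')

theorem eG_zero {u : V} (hu : Q u = 0) : eG Q u 0 = 1 := Subtype.ext (eich_zero Q hu)

theorem eG_inv {u w : V} (hu : Q u = 0) (h : pl u w = 0) : (eG Q u w)⁻¹ = eG Q u (-w) :=
  Subtype.ext (eich_inv Q hu h)

theorem eG_smul_left {u w : V} (hu : Q u = 0) (h : pl u w = 0) (t : F) :
    eG Q (t • u) w = eG Q u (t • w) := Subtype.ext (eich_smul_left Q hu h t)

theorem eG_add_self {u w : V} (hu : Q u = 0) (h : pl u w = 0) (s : F) :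
    eG Q u (w + s • u) = eG Q u w := Subtype.ext (eich_add_self Q hu h s)

theorem eG_self {u : V} (hu : Q u = 0) (t : F) : eG Q u (t • u) = 1 := by
  rw [← zero_add (t • u), eG_add_self hu (QuadraticMap.polar_zero_right Q u), eG_zero hu]

theorem eG_conj' (g : eichGroup Q) {u w : V} (hu : Q u = 0) (h : pl u w = 0) :
    g * eG Q u w = eG Q (act g u) (act g w) * g := by
  rw [← mul_inv_eq_iff_eq_mul]
  exact Subtype.ext (eich_conj Q (g : qAut Q) hu h)

/-- Exchanging two orthogonal singular vectors inverts the transformation. -/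
theorem eG_symm {u w : V} (hu : Q u = 0) (hw : Q w = 0) (h : pl u w = 0) :
    eG Q u w = eG Q w (-u) := by
  have h' : pl w u = 0 := (QuadraticMap.polar_comm Q w u).trans h
  refine Subtype.ext (qAut_ext fun x => ?_)
  change act (eG Q u w) x = act (eG Q w (-u)) x
  rw [eG_apply hu h, eG_apply hw (by rw [QuadraticMap.polar_neg_right, h', neg_zero]),
    QuadraticMap.map_neg, QuadraticMap.polar_neg_right, hw, hu]
  module

variable {Ω : Type*} [MulAction (eichGroup Q) Ω]

variable (Q) in
/-- The parameters at `u` fixing `ω`. -/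
def afix (u : V) (ω : Ω) : AddSubgroup V where
  carrier := {w | pl u w = 0 ∧ (Q u = 0 → eG Q u w • ω = ω)}
  zero_mem' := ⟨QuadraticMap.polar_zero_right Q u, fun hu => by rw [eG_zero hu, one_smul]⟩
  add_mem' := by
    rintro a b ⟨ha, ha'⟩ ⟨hb, hb'⟩
    refine ⟨by rw [QuadraticMap.polar_add_right, ha, hb, add_zero], fun hu => ?_⟩
    rw [← eG_mul hu ha hb, mul_smul, hb' hu, ha' hu]
  neg_mem' := by
    rintro a ⟨ha, ha'⟩
    refine ⟨by rw [QuadraticMap.polar_neg_right, ha, neg_zero], fun hu => ?_⟩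
    rw [← eG_inv hu ha, inv_smul_eq_iff, ha' hu]

theorem mem_afix {u : V} (hu : Q u = 0) {ω : Ω} {w : V} :
    w ∈ afix Q u ω ↔ pl u w = 0 ∧ eG Q u w • ω = ω :=
  ⟨fun h => ⟨h.1, h.2 hu⟩, fun h => ⟨h.1, fun _ => h.2⟩⟩

theorem smul_self_mem_afix {u : V} (hu : Q u = 0) (ω : Ω) (t : F) : t • u ∈ afix Q u ω :=
  (mem_afix hu).2 ⟨by rw [QuadraticMap.polar_smul_right, quad_polar_self, hu]; simp,
    by rw [eG_self hu, one_smul]⟩

theorem add_smul_self_mem_afix {u : V} (hu : Q u = 0) {ω : Ω} {w : V} (h : w ∈ afix Q u ω) (t : F) :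
    w + t • u ∈ afix Q u ω := add_mem h (smul_self_mem_afix hu ω t)

/-- Transport along the group. -/
theorem act_mem_afix (g : eichGroup Q) {u : V} (hu : Q u = 0) {ω : Ω} {w : V}
    (h : w ∈ afix Q u ω) : act g w ∈ afix Q (act g u) (g • ω) := by
  rw [mem_afix hu] at h
  rw [mem_afix (by rw [act_quad, hu])]
  refine ⟨by rw [act_polar, h.1], ?_⟩
  rw [← mul_smul, ← eG_conj' g hu h.1, mul_smul, h.2]

theorem act_mem_afix_iff (g : eichGroup Q) {u : V} (hu : Q u = 0) {ω : Ω} {w : V} :
    act g w ∈ afix Q (act g u) (g • ω) ↔ w ∈ afix Q u ω := by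
  refine ⟨fun h => ?_, act_mem_afix g hu⟩
  have := act_mem_afix g⁻¹ (by rw [act_quad, hu]) h
  rwa [act_inv_act, act_inv_act, inv_smul_smul] at this

theorem mem_afix_smul {u : V} (hu : Q u = 0) {ω : Ω} {t : F} (ht : t ≠ 0) {w : V} :
    w ∈ afix Q (t • u) ω ↔ t • w ∈ afix Q u ω := by
  rw [mem_afix (by rw [quad_smul, hu, mul_zero]), mem_afix hu, QuadraticMap.polar_smul_left,
    QuadraticMap.polar_smul_right, smul_eq_mul]
  constructor <;> rintro ⟨h1, h2⟩ <;> refine ⟨h1, ?_⟩
  · rwa [eG_smul_left hu ((mul_eq_zero.1 h1).resolve_left ht)] at h2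
  · rwa [eG_smul_left hu ((mul_eq_zero.1 h1).resolve_left ht)]

/-! ### Trace duality -/

variable (p : ℕ) [Algebra (ZMod p) F]

variable (Q) in
/-- The vectors with trace zero product on `A`. -/
def dualV (A : AddSubgroup V) : AddSubgroup V where
  carrier := {b | ∀ a ∈ A, Algebra.trace (ZMod p) F (pl b a) = 0}
  zero_mem' := fun a _ => by rw [QuadraticMap.polar_zero_left, map_zero]
  add_mem' := fun h h' a ha => by
    rw [QuadraticMap.polar_add_left, map_add, h a ha, h' a ha, add_zero]
  neg_mem' := fun h a ha => by rw [QuadraticMap.polar_neg_left, map_neg, h a ha, neg_zero]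

theorem mem_dualV {A : AddSubgroup V} {b : V} :
    b ∈ dualV Q p A ↔ ∀ a ∈ A, Algebra.trace (ZMod p) F (pl b a) = 0 := Iff.rfl

theorem dualV_mono {A A' : AddSubgroup V} (h : A ≤ A') : dualV Q p A' ≤ dualV Q p A :=
  fun _ hb a ha => hb a (h ha)

variable [Fact p.Prime] [Finite F]

theorem exists_trace_ne' : ∃ a : F, Algebra.trace (ZMod p) F a ≠ 0 := by
  haveI : Module.Finite (ZMod p) F := Module.Finite.of_finite
  by_contra h
  push Not at h
  exact Algebra.trace_ne_zero (ZMod p) F (LinearMap.ext h)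

theorem polar_eq_zero_of_trace {b a : V}
    (h : ∀ t : F, Algebra.trace (ZMod p) F (pl b (t • a)) = 0) : pl b a = 0 := by
  obtain ⟨c, hc⟩ := exists_trace_ne' (F := F) p
  by_contra hne
  refine hc ?_
  have h' := h (c / pl b a)
  rwa [QuadraticMap.polar_smul_right, smul_eq_mul, div_mul_cancel₀ _ hne] at h'

section form

variable [Module (ZMod p) V]

/-- The trace of the polar form, over the prime field. -/
noncomputable def trForm (Q : QuadraticForm F V) : LinearMap.BilinForm (ZMod p) V :=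
  (AddMonoidHom.toZModLinearMap p
    (AddMonoidHom.mk'
      (fun b : V => AddMonoidHom.toZModLinearMap p
        (AddMonoidHom.mk' (fun a : V => Algebra.trace (ZMod p) F (QuadraticMap.polar Q b a))
          fun a a' => by rw [QuadraticMap.polar_add_right, map_add]))
      fun b b' => LinearMap.ext fun a => by
        simp [QuadraticMap.polar_add_left]) : V →ₗ[ZMod p] V →ₗ[ZMod p] ZMod p)

omit [Finite F] in
theorem trForm_apply (b a : V) : trForm p Q b a = Algebra.trace (ZMod p) F (pl b a) := rfl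

variable [Finite V]

theorem trForm_nondegenerate (hQ : PolarNondeg Q) : (trForm p Q).Nondegenerate := by
  have hr : (trForm p Q).IsRefl := fun x y h => by
    rw [trForm_apply, QuadraticMap.polar_comm]; exact h
  refine (LinearMap.IsRefl.nondegenerate_iff_separatingLeft hr).2 fun x hx => ?_
  by_contra hx0
  refine hx0 (hQ x fun y => polar_eq_zero_of_trace p fun t => ?_)
  exact hx (t • y)

theorem orthogonal_eq_dualV (A : AddSubgroup V) :
    (trForm p Q).orthogonal (AddSubgroup.toZModSubmodule p A) =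
      AddSubgroup.toZModSubmodule p (dualV Q p A) := by
  ext b
  constructor
  · intro hb a ha
    have := hb a ha
    rw [trForm_apply, QuadraticMap.polar_comm] at this
    exact this
  · intro hb a ha
    rw [trForm_apply, QuadraticMap.polar_comm]
    exact hb a ha

theorem card_mul_card_dualV (hQ : PolarNondeg Q) (A : AddSubgroup V) :
    Nat.card A * Nat.card (dualV Q p A) = Nat.card V := by
  haveI : Module.Finite (ZMod p) V := Module.Finite.of_finite
  have h2 := LinearMap.BilinForm.finrank_orthogonal (trForm_nondegenerate p hQ)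
    (AddSubgroup.toZModSubmodule p A)
  rw [orthogonal_eq_dualV] at h2
  have h3 := Submodule.finrank_le (AddSubgroup.toZModSubmodule p A)
  have hA : Nat.card A = p ^ Module.finrank (ZMod p) (AddSubgroup.toZModSubmodule p A) :=
    (Module.natCard_eq_pow_finrank (K := ZMod p) (V := AddSubgroup.toZModSubmodule p A)).trans
      (by rw [Nat.card_zmod])
  have hB : Nat.card (dualV Q p A) =
      p ^ Module.finrank (ZMod p) (AddSubgroup.toZModSubmodule p (dualV Q p A)) :=
    (Module.natCard_eq_pow_finrank (K := ZMod p) (V := AddSubgroup.toZModSubmodule p (dualV Q p A))).trans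
      (by rw [Nat.card_zmod])
  rw [hA, hB, ← pow_add, h2, Nat.add_sub_cancel' h3, Module.natCard_eq_pow_finrank (K := ZMod p) (V := V),
    Nat.card_zmod]

theorem dualV_dualV (hQ : PolarNondeg Q) (A : AddSubgroup V) : dualV Q p (dualV Q p A) = A := by
  have hle : A ≤ dualV Q p (dualV Q p A) := fun a ha b hb => by
    rw [QuadraticMap.polar_comm]; exact hb a ha
  refine (AddSubgroup.eq_of_le_of_card_ge hle ?_).symm
  have h1 := card_mul_card_dualV p hQ A
  have h2 := card_mul_card_dualV p hQ (dualV Q p A)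
  have h : Nat.card (dualV Q p A) * Nat.card (dualV Q p (dualV Q p A)) =
      Nat.card (dualV Q p A) * Nat.card A := by
    rw [h2, ← h1, mul_comm]
  exact (Nat.eq_of_mul_eq_mul_left Nat.card_pos h).le

end form

variable (Q) in
/-- The trace dual of the fixer at `u`. -/
def bfix (u : V) (ω : Ω) : AddSubgroup V := dualV Q p (afix Q u ω)

omit [Finite F] in
theorem act_mem_bfix (g : eichGroup Q) {u : V} (hu : Q u = 0) {ω : Ω} {b : V}
    (h : b ∈ bfix Q p u ω) : act g b ∈ bfix Q p (act g u) (g • ω) := by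
  intro a ha
  obtain ⟨a, rfl⟩ : ∃ a', a = act g a' := ⟨_, (act_act_inv g a).symm⟩
  rw [act_polar]
  exact h a ((act_mem_afix_iff g hu).1 ha)

omit [Finite F] in
theorem mem_bfix_smul {u : V} (hu : Q u = 0) {ω : Ω} {t : F} (ht : t ≠ 0) {b : V}
    (h : b ∈ bfix Q p u ω) : t • b ∈ bfix Q p (t • u) ω := by
  intro a ha
  rw [mem_afix_smul hu ht] at ha
  have := h _ ha
  rwa [QuadraticMap.polar_smul_right, ← QuadraticMap.polar_smul_left] at this

theorem bfix_polar {u : V} (hu : Q u = 0) {ω : Ω} {b : V} (h : b ∈ bfix Q p u ω) :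
    pl u b = 0 := by
  rw [QuadraticMap.polar_comm]
  exact polar_eq_zero_of_trace p fun t => h _ (smul_self_mem_afix hu ω t)

omit [Finite F] in
theorem smul_self_mem_bfix {u : V} {ω : Ω} (t : F) : t • u ∈ bfix Q p u ω := by
  intro a ha
  rw [QuadraticMap.polar_smul_left, ha.1, smul_zero, map_zero]

/-- If the dual lies in an `F`-space, the fixer contains its perp. -/
theorem mem_afix_of_perp [Module (ZMod p) V] [Finite V] (hQ : PolarNondeg Q) {u a : V} {ω : Ω}
    (h : ∀ b ∈ bfix Q p u ω, pl b a = 0) : a ∈ afix Q u ω := by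
  rw [← dualV_dualV p hQ (afix Q u ω)]
  intro b hb
  rw [QuadraticMap.polar_comm, h b hb, map_zero]

theorem bfix_perp {u a : V} {ω : Ω} (h : ∀ t : F, t • a ∈ afix Q u ω) {b : V}
    (hb : b ∈ bfix Q p u ω) : pl b a = 0 :=
  polar_eq_zero_of_trace p fun t => hb _ (h t)

/-! ### Orbits of the radicals -/

variable (Q) in
/-- The orbits of the radical at `u`. -/
def clsSetoid (u : V) (hu : Q u = 0) : Setoid Ω where
  r ω ω' := ∃ w, pl u w = 0 ∧ eG Q u w • ω = ω'
  iseqv := ⟨fun ω => ⟨0, QuadraticMap.polar_zero_right Q u, by rw [eG_zero hu, one_smul]⟩,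
    fun ⟨w, hw, e⟩ => ⟨-w, by rw [QuadraticMap.polar_neg_right, hw, neg_zero],
      by rw [← eG_inv hu hw, inv_smul_eq_iff, e]⟩,
    fun ⟨w, hw, e⟩ ⟨w', hw', e'⟩ => ⟨w' + w,
      by rw [QuadraticMap.polar_add_right, hw', hw, add_zero],
      by rw [← eG_mul hu hw' hw, mul_smul, e, e']⟩⟩

omit p [Algebra (ZMod p) F] [Fact p.Prime] [Finite F] in
theorem afix_eG {u w : V} (hu : Q u = 0) (hw : pl u w = 0) (ω : Ω) :
    afix Q u (eG Q u w • ω) = afix Q u ω := by
  ext a
  rw [mem_afix hu, mem_afix hu]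
  refine and_congr_right fun ha => ?_
  rw [← mul_smul, eG_mul hu ha hw, add_comm, ← eG_mul hu hw ha, mul_smul, smul_left_cancel_iff]

omit [Fact p.Prime] [Finite F] in
theorem bfix_eG {u w : V} (hu : Q u = 0) (hw : pl u w = 0) (ω : Ω) :
    bfix Q p u (eG Q u w • ω) = bfix Q p u ω := by
  rw [bfix, afix_eG hu hw, bfix]

variable (Ω) in
/-- A radical orbit. -/
abbrev Cls (u : V) (hu : Q u = 0) : Type _ := Quotient (clsSetoid (Ω := Ω) Q u hu)

variable (Q) in
/-- The dual of the common fixer of a radical orbit. -/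
def bcls {u : V} (hu : Q u = 0) : Cls Ω u hu → AddSubgroup V :=
  Quotient.lift (bfix Q p u) fun ω ω' ⟨w, hw, e⟩ => by rw [← e, bfix_eG p hu hw]

omit [Fact p.Prime] [Finite F] in
theorem bcls_mk {u : V} (hu : Q u = 0) (ω : Ω) :
    bcls Q p hu (Quotient.mk (clsSetoid Q u hu) ω) = bfix Q p u ω := rfl

omit p [Algebra (ZMod p) F] [Fact p.Prime] in
theorem card_perp_mul {u : V} (hQ : PolarNondeg Q) (hu0 : u ≠ 0) [Module.Finite F V] :
    Nat.card (LinearMap.ker (QuadraticMap.polarBilin Q u)) * Nat.card F = Nat.card V := by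
  have hsur : LinearMap.range (QuadraticMap.polarBilin Q u) = ⊤ := by
    obtain ⟨y, hy⟩ : ∃ y, pl u y ≠ 0 := by
      by_contra hc
      push Not at hc
      exact hu0 (hQ u hc)
    exact LinearMap.range_eq_top.2 fun c => ⟨(c / pl u y) • y, by simp [div_mul_cancel₀ _ hy]⟩
  have h := LinearMap.finrank_range_add_finrank_ker (QuadraticMap.polarBilin Q u)
  rw [hsur, finrank_top, Module.finrank_self] at h
  rw [Module.natCard_eq_pow_finrank (K := F), Module.natCard_eq_pow_finrank (K := F) (V := V), ← h,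
    add_comm, pow_succ]

variable [Module (ZMod p) V] [Finite V]

/-- The size of a radical orbit. -/
theorem card_fibre_mul (hQ : PolarNondeg Q) {u : V} (hu : Q u = 0) (hu0 : u ≠ 0)
    (c : Cls Ω u hu) :
    Nat.card {ω : Ω // Quotient.mk (clsSetoid Q u hu) ω = c} * Nat.card F =
      Nat.card (bcls Q p hu c) := by
  haveI : Module.Finite F V := Module.Finite.of_finite
  induction c using Quotient.inductionOn with | _ ω =>
  rw [bcls_mk]
  set P := (LinearMap.ker (QuadraticMap.polarBilin Q u)).toAddSubgroup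
  set A := (afix Q u ω).addSubgroupOf P
  have hle : afix Q u ω ≤ P := fun a ha => ha.1
  have hcl : ∀ a : P, pl u a.1 = 0 := fun a => a.2
  let φ : P ⧸ A → {ω' : Ω // Quotient.mk (clsSetoid Q u hu) ω' = Quotient.mk _ ω} :=
    fun a => ⟨eG Q u a.out.1 • ω, Quotient.sound
      ((clsSetoid Q u hu).symm ⟨a.out.1, hcl a.out, rfl⟩)⟩
  have hφ : Function.Bijective φ := by
    constructor
    · intro x y e
      have e' : eG Q u x.out.1 • ω = eG Q u y.out.1 • ω := congrArg Subtype.val e
      rw [← QuotientAddGroup.out_eq' x, ← QuotientAddGroup.out_eq' y, QuotientAddGroup.eq]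
      refine (mem_afix hu).2 ⟨hcl (-x.out + y.out), ?_⟩
      change eG Q u (-x.out.1 + y.out.1) • ω = ω
      rw [← eG_mul hu (show pl u (-x.out.1) = 0 from hcl (-x.out)) (hcl y.out), mul_smul, ← eG_inv hu (hcl x.out), inv_smul_eq_iff, e']
    · rintro ⟨ω', hω'⟩
      obtain ⟨w, hw, e⟩ := (clsSetoid Q u hu).symm (Quotient.exact hω')
      refine ⟨QuotientAddGroup.mk ⟨w, hw⟩, Subtype.ext ?_⟩
      obtain ⟨a, ha⟩ := QuotientAddGroup.mk_out_eq_mul A ⟨w, hw⟩
      change eG Q u _ • ω = ω'
      rw [ha]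
      change eG Q u (w + a.1.1) • ω = ω'
      rw [← eG_mul hu hw (hcl a.1), mul_smul, (show eG Q u a.1.1 • ω = ω from ((mem_afix hu).1 a.2).2), e]
  rw [← Nat.card_congr (Equiv.ofBijective φ hφ)]
  have h1 := AddSubgroup.card_eq_card_quotient_mul_card_addSubgroup A
  have hA : Nat.card A = Nat.card (afix Q u ω) :=
    Nat.card_congr (AddSubgroup.addSubgroupOfEquivOfLe hle).toEquiv
  refine Nat.eq_of_mul_eq_mul_left (Nat.card_pos (α := afix Q u ω)) ?_
  rw [bfix, card_mul_card_dualV p hQ (afix Q u ω), ← card_perp_mul hQ hu0, ← mul_assoc,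
    mul_comm (Nat.card (afix Q u ω)), ← hA, ← h1]
  rfl

open scoped _root_.Classical in
/-- The orbit sizes add up. -/
theorem card_mul_eq_sum [Finite Ω] (hQ : PolarNondeg Q) {u : V} (hu : Q u = 0) (hu0 : u ≠ 0)
    [Fintype (Cls Ω u hu)] :
    Nat.card Ω * Nat.card F = ∑ c : Cls Ω u hu, Nat.card (bcls Q p hu c) := by
  rw [← Nat.card_congr (Equiv.sigmaFiberEquiv (Quotient.mk (clsSetoid (Ω := Ω) Q u hu))),
    Nat.card_sigma, Finset.sum_mul]
  exact Finset.sum_congr rfl fun c _ => card_fibre_mul p hQ hu hu0 c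

end CfsgLib.OrthMinIndex
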