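/-
Elements of the group of Eichler transformations: lifts from the complement of a hyperbolic pair,
transitivity, flips, tori and perfect subgroups.
-/
import Cfsg.Agent.Lib.OrthMinIndex.Basic
import Cfsg.Agent.S4337

set_option autoImplicit false

namespace CfsgLib.OrthMinIndex

open CfsgLib.Classical

variable {F V : Type*} [Field F] [AddCommGroup V] [Module F V] {Q : QuadraticForm F V}

local notation "pl" => QuadraticMap.polar Q

variable (Q) in
/-- A hyperbolic pair. -/
structure SingPair (u z : V) : Prop where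
  qu : Q u = 0
  qz : Q z = 0
  uz : QuadraticMap.polar Q u z = 1

namespace SingPair

variable {u z : V}

theorem uu (h : SingPair Q u z) : pl u u = 0 := by rw [quad_polar_self, h.qu, mul_zero]
theorem zz (h : SingPair Q u z) : pl z z = 0 := by rw [quad_polar_self, h.qz, mul_zero]
theorem zu (h : SingPair Q u z) : pl z u = 1 := by rw [QuadraticMap.polar_comm, h.uz]
theorem symm (h : SingPair Q u z) : SingPair Q z u := ⟨h.qz, h.qu, h.zu⟩
theorem ne_zero (h : SingPair Q u z) : u ≠ 0 := fun e => by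
  have := h.uz
  rw [e, QuadraticMap.polar_zero_left] at this
  exact zero_ne_one this

end SingPair

variable (Q) in
/-- The complement of a hyperbolic pair. -/
noncomputable def side (u z : V) : Submodule F V :=
  LinearMap.ker ((QuadraticMap.polarBilin Q u).prod (QuadraticMap.polarBilin Q z))

theorem mem_side {u z x : V} : x ∈ side Q u z ↔ pl u x = 0 ∧ pl z x = 0 := by
  simp [side]

/-- The component in the complement. -/
theorem exists_side_decomp {u z : V} (h : SingPair Q u z) (x : V) :
    ∃ w ∈ side Q u z, x = pl x z • u + pl x u • z + w := by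
  obtain ⟨h1, h2⟩ := proj_pair Q h.qu h.qz h.uz x
  refine ⟨x - pl x z • u - pl x u • z, mem_side.2 ⟨?_, ?_⟩, by abel⟩
  · rw [QuadraticMap.polar_comm]; exact h1
  · rw [QuadraticMap.polar_comm]; exact h2

theorem side_perp_eq_zero (hQ : PolarNondeg Q) {u z w : V} (h : SingPair Q u z) (hw : w ∈ side Q u z)
    (hall : ∀ x ∈ side Q u z, pl w x = 0) : w = 0 := by
  refine hQ w fun x => ?_
  obtain ⟨y, hy, e⟩ := exists_side_decomp h x
  obtain ⟨h1, h2⟩ := mem_side.1 hw
  rw [e, QuadraticMap.polar_add_right, QuadraticMap.polar_add_right, QuadraticMap.polar_smul_right,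
    QuadraticMap.polar_smul_right, QuadraticMap.polar_comm Q w u, h1, QuadraticMap.polar_comm Q w z, h2,
    hall y hy]
  simp

theorem exists_pair (hQ : PolarNondeg Q) {u : V} (hu : Q u = 0) (hu0 : u ≠ 0) :
    ∃ z, SingPair Q u z := by
  obtain ⟨z, -, hz, huz⟩ := exists_partner Q (P := ⊤) (fun x _ h => hQ x fun y => h y trivial)
    (Submodule.mem_top (x := u)) hu0 hu
  exact ⟨z, hu, hz, huz⟩

/-- A partner orthogonal to a vector of the perp outside the line. -/
theorem exists_pair_perp (hQ : PolarNondeg Q) {u b : V} (hu : Q u = 0) (hub : pl u b = 0)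
    (hb : ∀ s : F, b ≠ s • u) (hu0 : u ≠ 0) :
    ∃ z, SingPair Q u z ∧ pl b z = 0 := by
  obtain ⟨y, hby, huy⟩ := exists_polar_sep Q hQ (a := u) (b := b) (fun s e => by
    rcases eq_or_ne s 0 with rfl | hs
    · exact hu0 (by rw [← e, zero_smul])
    · exact hb s⁻¹ (by rw [← e, smul_smul, inv_mul_cancel₀ hs, one_smul]))
  set y' := (pl u y)⁻¹ • y
  have h1 : pl u y' = 1 := by
    rw [QuadraticMap.polar_smul_right, smul_eq_mul, inv_mul_cancel₀ huy]
  have h2 : pl b y' = 0 := by rw [QuadraticMap.polar_smul_right, hby, smul_zero]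
  clear_value y'
  refine ⟨y' + (-Q y') • u, ⟨hu, ?_, ?_⟩, ?_⟩
  · rw [quad_add, quad_smul, hu, QuadraticMap.polar_smul_right, QuadraticMap.polar_comm Q y' u, h1]
    simp
  · rw [QuadraticMap.polar_add_right, QuadraticMap.polar_smul_right, quad_polar_self, hu, h1]
    simp
  · rw [QuadraticMap.polar_add_right, QuadraticMap.polar_smul_right, h2, QuadraticMap.polar_comm Q b u, hub]
    simp

theorem polarNondeg_side [FiniteDimensional F V] (hQ : PolarNondeg Q) {u z : V} (h : SingPair Q u z) :
    PolarNondeg (Q.comp (side Q u z).subtype) := polarNondeg_pairPerp Q hQ h.qu h.qz h.uz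

theorem finrank_side [FiniteDimensional F V] {u z : V} (h : SingPair Q u z) :
    Module.finrank F (side Q u z) + 2 = Module.finrank F V := by
  set L := (QuadraticMap.polarBilin Q u).prod (QuadraticMap.polarBilin Q z)
  have hsur : Function.Surjective L := fun p => ⟨p.2 • u + p.1 • z, by
    simp [L, h.uu, h.zz, h.uz, h.zu]⟩
  have := LinearMap.finrank_range_add_finrank_ker L
  rw [LinearMap.range_eq_top.2 hsur, finrank_top, Module.finrank_prod, Module.finrank_self] at this
  change Module.finrank F (LinearMap.ker L) + 2 = _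
  omega

/-- The Eichler transformations of the complement lift. -/
theorem exists_lift {u z : V} (h : SingPair Q u z)
    {k : qAut (Q.comp (side Q u z).subtype)} (hk : k ∈ eichGroup (Q.comp (side Q u z).subtype)) :
    ∃ g : eichGroup Q, act g u = u ∧ act g z = z ∧
      ∀ w : side Q u z, act g (w : V) = ((k.1 w : side Q u z) : V) := by
  induction hk using Subgroup.closure_induction with
  | mem x hx =>
    obtain ⟨⟨s, hs⟩, ⟨c, hc⟩, hQs, hsc, rfl⟩ := hx
    change Q s = 0 at hQs
    have hsc' : pl s c = 0 := hsc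
    obtain ⟨hus, hzs⟩ := mem_side.1 hs
    obtain ⟨huc, hzc⟩ := mem_side.1 hc
    refine ⟨eG Q s c, eG_fix_of hQs hsc' hus huc, eG_fix_of hQs hsc' hzs hzc, fun w => ?_⟩
    rw [eG_apply hQs hsc',
      eich_apply (Q.comp (side Q u z).subtype) (u := ⟨s, hs⟩) (w := ⟨c, hc⟩) hQs hsc]
    rfl
  | one => exact ⟨1, act_one u, act_one z, fun w => rfl⟩
  | mul a b _ _ ha hb =>
    obtain ⟨g, hgu, hgz, hg⟩ := ha
    obtain ⟨g', hgu', hgz', hg'⟩ := hb
    exact ⟨g * g', by rw [act_mul, hgu', hgu], by rw [act_mul, hgz', hgz],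
      fun w => by rw [act_mul, hg', hg]; rfl⟩
  | inv a _ ha =>
    obtain ⟨g, hgu, hgz, hg⟩ := ha
    refine ⟨g⁻¹, ?_, ?_, fun w => ?_⟩
    · conv_lhs => rw [← hgu]
      exact act_inv_act g u
    · conv_lhs => rw [← hgz]
      exact act_inv_act g z
    · conv_lhs => rw [show w = a.1 ((a⁻¹).1 w) from (a.1.apply_symm_apply w).symm]
      rw [← hg, act_inv_act]

variable [Fintype F] [FiniteDimensional F V]

/-- Transitivity on pairs of a singular vector and a vector orthogonal to it outside its line. -/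
theorem exists_move_perp (hQ : PolarNondeg Q) (hn : 6 ≤ Module.finrank F V) {u u' b b' : V}
    (hu : Q u = 0) (hu' : Q u' = 0) (hu0 : u ≠ 0) (hu0' : u' ≠ 0) (hb : pl u b = 0) (hb' : pl u' b' = 0)
    (hbl : ∀ s : F, b ≠ s • u) (hbl' : ∀ s : F, b' ≠ s • u') (hQb : Q b = Q b') :
    ∃ g : eichGroup Q, act g u = u' ∧ act g b = b' := by
  obtain ⟨z, hp, hbz⟩ := exists_pair_perp hQ hu hb hbl hu0
  obtain ⟨z', hp', hbz'⟩ := exists_pair_perp hQ hu' hb' hbl' hu0'
  obtain ⟨g₁, hg₁, hg₁u, hg₁z⟩ :=
    exists_move_pair Q hQ (by omega) hp.qu hp.qz hp.uz hp'.qu hp'.qz hp'.uz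
  set g₀ : eichGroup Q := ⟨g₁, hg₁⟩
  have hgu : act g₀ u = u' := hg₁u
  have hgz : act g₀ z = z' := hg₁z
  set c := act g₀ b with hc
  have hcm : c ∈ side Q u' z' := by
    rw [mem_side, ← hgu, ← hgz, hc, act_polar, act_polar, QuadraticMap.polar_comm Q z b]
    exact ⟨hb, hbz⟩
  have hbm : b' ∈ side Q u' z' := mem_side.2 ⟨hb', by rw [QuadraticMap.polar_comm]; exact hbz'⟩
  have hc0 : c ≠ 0 := act_ne_zero g₀ (fun e => hbl 0 (by rw [e, zero_smul]))
  have hb0 : b' ≠ 0 := fun e => hbl' 0 (by rw [e, zero_smul])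
  have hQW := polarNondeg_side hQ hp'
  have hd := finrank_side hp'
  have hQc : Q c = Q b' := by rw [hc, act_quad, hQb]
  obtain ⟨k, hk, hkc⟩ : ∃ k ∈ eichGroup (Q.comp (side Q u' z').subtype),
      k.1 ⟨c, hcm⟩ = ⟨b', hbm⟩ := by
    by_cases h0 : Q c = 0
    · exact exists_move_eichGroup _ hQW (by omega) (u := ⟨c, hcm⟩) (u' := ⟨b', hbm⟩) h0
        (show Q b' = 0 from hQc ▸ h0) (fun e => hc0 (congrArg Subtype.val e))
        (fun e => hb0 (congrArg Subtype.val e))
    · exact exists_move_level _ hQW (by omega) (v := ⟨c, hcm⟩) (v' := ⟨b', hbm⟩) h0 hQc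
  obtain ⟨g, hgu', -, hgw⟩ := exists_lift hp' hk
  refine ⟨g * g₀, by rw [act_mul, hgu, hgu'], ?_⟩
  rw [act_mul, ← hc, hgw ⟨c, hcm⟩, hkc]

omit [Fintype F] [FiniteDimensional F V]

variable (Q) in
/-- The flip of a hyperbolic pair through an anisotropic vector orthogonal to both. -/
noncomputable def flip3 (u z e : V) (a : F) : eichGroup Q :=
  eG Q u (a • e) * eG Q z ((a * Q e)⁻¹ • e) * eG Q u (a • e)

theorem flip3_apply {u z e : V} (h : SingPair Q u z) (heu : pl u e = 0) (hez : pl z e = 0)
    (he : Q e ≠ 0) {a : F} (ha : a ≠ 0) (x : V) :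
    act (flip3 Q u z e a) x =
      x - pl x z • u - pl x u • z - (pl x u * (a * a * Q e)) • u -
        (pl x z * (a * a * Q e)⁻¹) • z - (pl x e / Q e) • e := by
  have h1 : pl u (a • e) = 0 := by rw [QuadraticMap.polar_smul_right, heu, smul_zero]
  have h2 : pl z ((a * Q e)⁻¹ • e) = 0 := by rw [QuadraticMap.polar_smul_right, hez, smul_zero]
  have heu' : pl e u = 0 := (QuadraticMap.polar_comm Q e u).trans heu
  have hez' : pl e z = 0 := (QuadraticMap.polar_comm Q e z).trans hez
  simp only [flip3, act_mul]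
  rw [eG_apply h.qu h1, eG_apply h.qz h2, eG_apply h.qu h1]
  simp only [QuadraticMap.polar_add_left, QuadraticMap.polar_sub_left, QuadraticMap.polar_smul_left,
    QuadraticMap.polar_smul_right, quad_smul, quad_polar_self, h.qu, h.qz, h.uz, h.zu, heu, hez, heu',
    hez', smul_eq_mul]
  match_scalars <;> field_simp <;> ring

variable (Q) in
/-- The torus element of two flips. -/
noncomputable def tor (u z e : V) (a : F) : eichGroup Q := flip3 Q u z e a * flip3 Q u z e 1

theorem tor_apply {u z e : V} (h : SingPair Q u z) (heu : pl u e = 0) (hez : pl z e = 0)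
    (he : Q e ≠ 0) {a : F} (ha : a ≠ 0) :
    act (tor Q u z e a) u = (a * a) • u ∧ act (tor Q u z e a) z = (a * a)⁻¹ • z ∧
      ∀ x, pl u x = 0 → pl z x = 0 → act (tor Q u z e a) x = x := by
  have heu' : pl e u = 0 := (QuadraticMap.polar_comm Q e u).trans heu
  have hez' : pl e z = 0 := (QuadraticMap.polar_comm Q e z).trans hez
  refine ⟨?_, ?_, fun x hxu hxz => ?_⟩
  · rw [tor, act_mul, flip3_apply h heu hez he one_ne_zero, flip3_apply h heu hez he ha]
    simp only [QuadraticMap.polar_sub_left, QuadraticMap.polar_smul_left, h.uu, h.zz, h.uz, h.zu, heu,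
      hez, heu', hez', smul_eq_mul, quad_polar_self, h.qu, h.qz]
    match_scalars <;> field_simp <;> ring
  · rw [tor, act_mul, flip3_apply h heu hez he one_ne_zero, flip3_apply h heu hez he ha]
    simp only [QuadraticMap.polar_sub_left, QuadraticMap.polar_smul_left, h.uu, h.zz, h.uz, h.zu, heu,
      hez, heu', hez', smul_eq_mul, quad_polar_self, h.qu, h.qz]
    match_scalars <;> field_simp <;> ring
  · rw [QuadraticMap.polar_comm] at hxu hxz
    rw [tor, act_mul, flip3_apply h heu hez he one_ne_zero, flip3_apply h heu hez he ha]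
    simp only [QuadraticMap.polar_sub_left, QuadraticMap.polar_smul_left, h.uu, h.zz, h.uz, h.zu, heu,
      hez, heu', hez', smul_eq_mul, quad_polar_self, hxu, hxz, h.qu, h.qz]
    match_scalars <;> field_simp <;> ring

theorem tor_mem {u z e : V} (a : F) {K : Subgroup (eichGroup Q)}
    (hu : ∀ k : F, eG Q u (k • e) ∈ K) (hz : ∀ k : F, eG Q z (k • e) ∈ K) : tor Q u z e a ∈ K :=
  mul_mem (mul_mem (mul_mem (hu _) (hz _)) (hu _)) (mul_mem (mul_mem (hu _) (hz _)) (hu _))

theorem exists_sq_ne_one [Fintype F] (hq : 4 ≤ Fintype.card F) :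
    ∃ a : F, a ≠ 0 ∧ a * a ≠ 1 := by
  classical
  by_contra hc
  push Not at hc
  have hsub : (Finset.univ : Finset F) ⊆ {0, 1, -1} := fun x _ => by
    rcases eq_or_ne x 0 with e | e
    · simp [e]
    · rcases mul_self_eq_one_iff.1 (hc x e) with e | e <;> simp [e]
  have := (Finset.card_le_card hsub).trans Finset.card_le_three
  rw [Finset.card_univ] at this
  omega

/-- Anisotropic root elements are commutators inside any group containing both root groups. -/
theorem eG_mem_commutator [Fintype F] (hq : 4 ≤ Fintype.card F) {s s' e : V} (h : SingPair Q s s')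
    (hes : pl s e = 0) (hes' : pl s' e = 0) (he : Q e ≠ 0) {K : Subgroup (eichGroup Q)}
    (hu : ∀ k : F, eG Q s (k • e) ∈ K) (hz : ∀ k : F, eG Q s' (k • e) ∈ K) (k : F) :
    eG Q s (k • e) ∈ ⁅K, K⁆ := by
  obtain ⟨a, ha, ha1⟩ := exists_sq_ne_one hq
  set c := k / (a * a - 1)
  obtain ⟨h1, -, h3⟩ := tor_apply h hes hes' he ha
  have hce : pl s (c • e) = 0 := by rw [QuadraticMap.polar_smul_right, hes, smul_zero]
  have key : tor Q s s' e a * eG Q s (c • e) * (tor Q s s' e a)⁻¹ * (eG Q s (c • e))⁻¹ =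
      eG Q s (k • e) := by
    rw [eG_conj' _ h.qu hce, h1, h3 _ hce (by rw [QuadraticMap.polar_smul_right, hes', smul_zero]),
      mul_inv_cancel_right, eG_inv h.qu hce, eG_smul_left h.qu hce, smul_smul,
      eG_mul h.qu (by rw [QuadraticMap.polar_smul_right, hes, smul_zero])
        (by rw [QuadraticMap.polar_neg_right, hce, neg_zero]), ← sub_eq_add_neg, ← sub_smul,
      show a * a * c - c = k by
        rw [show a * a * c - c = (a * a - 1) * c by ring, mul_div_cancel₀ _ (sub_ne_zero.2 ha1)]]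
  rw [← key]
  exact Subgroup.commutator_mem_commutator (tor_mem a hu hz) (hu c)

/-- A perfect subgroup fixes a set of at most four points pointwise. -/
theorem perfect_fix_small {G X : Type*} [Group G] [MulAction G X] [Finite X] (hX : Nat.card X ≤ 4)
    (K : Subgroup G) (hK : K ≤ ⁅K, K⁆) {g : G} (hg : g ∈ K) (x : X) : g • x = x := by
  classical
  let _ : Fintype X := Fintype.ofFinite X
  obtain ⟨e⟩ : Nonempty (X ↪ Fin 4) := Function.Embedding.nonempty_of_card_le (by
    rw [Fintype.card_fin, ← Nat.card_eq_fintype_card]; exact hX)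
  have := Cfsg.Agent.S4337.isSolvable_perm_four
  have hS : Group.IsSolvable (Equiv.Perm X) :=
    Group.isSolvable_of_isSolvable_injective (Equiv.Perm.viaEmbeddingHom_injective e)
  set φ := MulAction.toPermHom G X
  have hP : K.map φ ≤ ⁅K.map φ, K.map φ⁆ := by
    rw [← Subgroup.map_commutator]; exact Subgroup.map_mono hK
  obtain ⟨n, hn⟩ := (Group.isSolvable_def _).1 hS
  have hle : ∀ k, K.map φ ≤ derivedSeries (Equiv.Perm X) k := by
    intro k
    induction k with
    | zero => rw [derivedSeries_zero]; exact le_top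
    | succ k ih =>
      rw [derivedSeries_succ]
      exact hP.trans (Subgroup.commutator_mono ih ih)
  have h1 : φ g ∈ (⊥ : Subgroup (Equiv.Perm X)) := hn ▸ hle n (Subgroup.mem_map_of_mem φ hg)
  exact congrArg (fun p : Equiv.Perm X => p x) (Subgroup.mem_bot.1 h1)

end CfsgLib.OrthMinIndex
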