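/-
Numbers of singular vectors in the complements, and double counting.
-/
import Cfsg.Agent.Lib.OrthMinIndex.Geometry
import Cfsg.Agent.Lib.Classical.QuadStd

set_option autoImplicit false

namespace CfsgLib.OrthMinIndex

open CfsgLib.Classical

variable {F V : Type*} [Field F] [AddCommGroup V] [Module F V] {Q : QuadraticForm F V}

local notation "pl" => QuadraticMap.polar Q

/-- Coordinates along a hyperbolic pair. -/
noncomputable def pairCoord {u z : V} (h : SingPair Q u z) : ((F × F) × side Q u z) ≃ₗ[F] V :=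
  LinearEquiv.ofBijective
    (((LinearMap.fst F F F).smulRight u + (LinearMap.snd F F F).smulRight z).coprod (side Q u z).subtype)
    ⟨fun x y e => by
      obtain ⟨hxu, hxz⟩ := mem_side.1 x.2.2
      obtain ⟨hyu, hyz⟩ := mem_side.1 y.2.2
      have e' : x.1.1 • u + x.1.2 • z + (x.2 : V) = y.1.1 • u + y.1.2 • z + (y.2 : V) := e
      have h1 := congrArg (fun v => pl z v) e'
      have h2 := congrArg (fun v => pl u v) e'
      simp only [QuadraticMap.polar_add_right, QuadraticMap.polar_smul_right, h.zu, h.zz, h.uu, h.uz,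
        hxu, hxz, hyu, hyz, smul_eq_mul, mul_zero, mul_one, add_zero, zero_add] at h1 h2
      rw [h1, h2, add_left_cancel_iff] at e'
      exact Prod.ext (Prod.ext h1 h2) (Subtype.ext e'),
    fun v => by
      obtain ⟨w, hw, e⟩ := exists_side_decomp h v
      exact ⟨((pl v z, pl v u), ⟨w, hw⟩), e.symm⟩⟩

theorem quad_pairCoord {u z : V} (h : SingPair Q u z) (x : (F × F) × side Q u z) :
    Q (pairCoord h x) = hypSum (Q.comp (side Q u z).subtype) x := by
  obtain ⟨hxu, hxz⟩ := mem_side.1 x.2.2
  change Q (x.1.1 • u + x.1.2 • z + (x.2 : V)) = _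
  rw [hypSum_apply]
  simp [quad_add, quad_smul, h.qu, h.qz, h.uz, hxu, hxz, QuadraticMap.polar_add_left,
    QuadraticMap.polar_smul_left, QuadraticMap.polar_smul_right]
  try ring

variable [Fintype F] [Finite V]

theorem zeros_eq_side {u z : V} (h : SingPair Q u z) :
    zeros Q = (Fintype.card F - 1) * Nat.card (side Q u z) +
      Fintype.card F * zeros (Q.comp (side Q u z).subtype) := by
  rw [zeros_congr (pairCoord h) (quad_pairCoord h), zeros_hypSum]

theorem card_side_mul {u z : V} (h : SingPair Q u z) :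
    Nat.card (side Q u z) * (Fintype.card F * Fintype.card F) = Nat.card V := by
  rw [← Nat.card_congr (pairCoord h).toEquiv, Nat.card_prod, Nat.card_prod, Nat.card_eq_fintype_card (α := F),
    mul_comm]

theorem card_side {u z : V} (h : SingPair Q u z) :
    Nat.card (side Q u z) = Fintype.card F ^ (Module.finrank F V - 2) := by
  haveI : Module.Finite F V := Module.Finite.of_finite
  rw [Module.natCard_eq_pow_finrank (K := F), ← finrank_side h, Nat.card_eq_fintype_card, Nat.add_sub_cancel]

/-- The number of non-zero singular vectors. -/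
noncomputable def singCount (Q : QuadraticForm F V) : ℕ := Nat.card {v : V // v ≠ 0 ∧ Q v = 0}

omit [Fintype F] in
theorem singCount_add_one : singCount Q + 1 = zeros Q := by
  classical
  rw [singCount, zeros, ← Finite.card_option]
  exact Nat.card_congr
    { toFun := fun o => o.elim ⟨0, map_zero Q⟩ fun v => ⟨v.1, v.2.2⟩
      invFun := fun v => if h : v.1 = 0 then none else some ⟨v.1, h, v.2⟩
      left_inv := by rintro (_ | ⟨v, hv, hv'⟩) <;> simp [*]
      right_inv := by
        rintro ⟨v, hv⟩
        by_cases h : v = 0 <;> simp [h] }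

theorem singCount_eq {u z : V} (h : SingPair Q u z) :
    singCount Q + 1 = (Fintype.card F - 1) * Fintype.card F ^ (Module.finrank F V - 2) +
      Fintype.card F * (singCount (Q.comp (side Q u z).subtype) + 1) := by
  rw [singCount_add_one, singCount_add_one, zeros_eq_side h, card_side h]

/-- A space with a singular vector has at least as many as the hyperbolic plane in it gives. -/
theorem singCount_lower {u z : V} (h : SingPair Q u z) :
    (Fintype.card F - 1) * Fintype.card F ^ (Module.finrank F V - 2) + Fintype.card F ≤ singCount Q + 1 := by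
  rw [singCount_eq h]
  exact Nat.add_le_add_left (Nat.le_mul_of_pos_right _ (Nat.succ_pos _)) _

theorem singCount_upper {u z : V} (h : SingPair Q u z) :
    singCount Q + 1 ≤ (Fintype.card F - 1) * Fintype.card F ^ (Module.finrank F V - 2) +
      Fintype.card F * Fintype.card F ^ (Module.finrank F V - 2) := by
  rw [singCount_eq h]
  refine Nat.add_le_add_left (Nat.mul_le_mul_left _ ?_) _
  rw [singCount_add_one, ← card_side h]
  exact Nat.card_le_card_of_injective _ Subtype.val_injective

omit [Fintype F] in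
theorem singCount_pos {u : V} (hu : Q u = 0) (hu0 : u ≠ 0) : 0 < singCount Q :=
  Nat.card_pos_iff.2 ⟨⟨⟨u, hu0, hu⟩⟩, inferInstance⟩

variable [FiniteDimensional F V]
variable {Ω : Type*} [MulAction (eichGroup Q) Ω] [Finite Ω]
variable [MulAction.IsPretransitive (eichGroup Q) Ω]

/-- Pairs of a point and a singular vector with an invariant property. -/
theorem double_count_sing (hQ : PolarNondeg Q) (hn : 6 ≤ Module.finrank F V) (P : Ω → V → Prop)
    (hP0 : ∀ ω u, P ω u → u ≠ 0 ∧ Q u = 0)
    (hPg : ∀ (g : eichGroup Q) ω u, P ω u → P (g • ω) (act g u)) (ω : Ω) {v : V} (hv : v ≠ 0)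
    (hv' : Q v = 0) :
    Nat.card Ω * Nat.card {u : V // P ω u} = singCount Q * Nat.card {ω' : Ω // P ω' v} := by
  classical
  let _ : Fintype V := Fintype.ofFinite V
  let _ : Fintype Ω := Fintype.ofFinite Ω
  have hiff : ∀ (g : eichGroup Q) ω u, P (g • ω) (act g u) ↔ P ω u := fun g ω u =>
    ⟨fun h => by
      have := hPg g⁻¹ _ _ h
      rwa [inv_smul_smul, act_inv_act] at this, hPg g ω u⟩
  have hr : ∀ ω', Nat.card {u : V // P ω' u} = Nat.card {u : V // P ω u} := by
    intro ω'
    obtain ⟨g, rfl⟩ := MulAction.exists_smul_eq (eichGroup Q) ω ω'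
    exact (Nat.card_congr
      { toFun := fun u : {u : V // P ω u} => (⟨act g u.1, hPg g ω u.1 u.2⟩ : {u : V // P (g • ω) u})
        invFun := fun u => ⟨act g⁻¹ u.1, (hiff g _ _).1 (by rw [act_act_inv]; exact u.2)⟩
        left_inv := fun u => Subtype.ext (act_inv_act g u.1)
        right_inv := fun u => Subtype.ext (act_act_inv g u.1) }).symm
  have hn' : ∀ x : {x : V // x ≠ 0 ∧ Q x = 0},
      Nat.card {ω' : Ω // P ω' x.1} = Nat.card {ω' : Ω // P ω' v} := by
    intro x
    obtain ⟨g₁, hg₁, hg₁v⟩ := exists_move_eichGroup Q hQ (by omega) hv' x.2.2 hv x.2.1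
    set g : eichGroup Q := ⟨g₁, hg₁⟩
    have hg : act g v = x.1 := hg₁v
    refine (Nat.card_congr
      { toFun := fun o : {ω' : Ω // P ω' v} => (⟨g • o.1, hg ▸ hPg g _ _ o.2⟩ : {ω' : Ω // P ω' x.1})
        invFun := fun o => ⟨g⁻¹ • o.1, (hiff g _ _).1 (by rw [smul_inv_smul, hg]; exact o.2)⟩
        left_inv := fun o => Subtype.ext (inv_smul_smul g o.1)
        right_inv := fun o => Subtype.ext (smul_inv_smul g o.1) }).symm
  have e : (Σ ω', {u : V // P ω' u}) ≃ Σ x : {x : V // x ≠ 0 ∧ Q x = 0}, {ω' : Ω // P ω' x.1} :=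
    { toFun := fun p => ⟨⟨p.2.1, hP0 _ _ p.2.2⟩, p.1, p.2.2⟩
      invFun := fun p => ⟨p.2.1, p.1.1, p.2.2⟩
      left_inv := fun _ => rfl
      right_inv := fun _ => rfl }
  have h := Nat.card_congr e
  rw [Nat.card_sigma, Nat.card_sigma, Finset.sum_congr rfl fun x _ => hr x,
    Finset.sum_congr rfl fun x _ => hn' x, Finset.sum_const, Finset.sum_const, smul_eq_mul,
    smul_eq_mul, Finset.card_univ, Finset.card_univ, ← Nat.card_eq_fintype_card,
    ← Nat.card_eq_fintype_card] at h
  exact h

end CfsgLib.OrthMinIndex
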