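/-
No point of a small action is fixed by the whole radical at a singular point.
-/
import Cfsg.Agent.Lib.OrthMinIndex.Counting
import Cfsg.Agent.Lib.Classical.QuadMaximal

set_option autoImplicit false

namespace CfsgLib.OrthMinIndex

open CfsgLib.Classical

variable {F V : Type*} [Field F] [AddCommGroup V] [Module F V] {Q : QuadraticForm F V}
variable {Ω : Type*} [MulAction (eichGroup Q) Ω]

local notation "pl" => QuadraticMap.polar Q

variable (Q) in
/-- The whole radical at `u` fixes `ω`. -/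
def FullU (ω : Ω) (u : V) : Prop := ∀ w, pl u w = 0 → eG Q u w • ω = ω

theorem FullU.map {ω : Ω} {u : V} (hu : Q u = 0) (h : FullU Q ω u) (g : eichGroup Q) :
    FullU Q (g • ω) (act g u) := fun w hw => by
  obtain ⟨w, rfl⟩ : ∃ x, w = act g x := ⟨_, (act_act_inv g w).symm⟩
  rw [act_polar] at hw
  rw [← mul_smul, ← eG_conj' g hu hw, mul_smul, h w hw]

theorem FullU.of_fix {ω : Ω} {u : V} (hu : Q u = 0) (h : FullU Q ω u) {g : eichGroup Q}
    (hg : g • ω = ω) : FullU Q ω (act g u) := by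
  have := h.map hu g
  rwa [hg] at this

theorem FullU.smul {ω : Ω} {u : V} (hu : Q u = 0) (h : FullU Q ω u) (t : F) : FullU Q ω (t • u) := by
  intro w hw
  rcases eq_or_ne t 0 with rfl | ht
  · have : eG Q ((0 : F) • u) w = 1 := Subtype.ext (qAut_ext fun x => by
      change act (eG Q ((0 : F) • u) w) x = x
      rw [eG_apply (by simp) hw]
      simp)
    rw [this, one_smul]
  · rw [QuadraticMap.polar_smul_left, smul_eq_mul] at hw
    have hw' := (mul_eq_zero.1 hw).resolve_left ht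
    rw [eG_smul_left hu hw']
    exact h _ (by rw [QuadraticMap.polar_smul_right, hw', smul_zero])

theorem fullU_zero (ω : Ω) : FullU Q ω (0 : V) := fun w _ => by
  have : eG Q (0 : V) w = 1 := Subtype.ext (qAut_ext fun x => by
    change act (eG Q (0 : V) w) x = x
    rw [eG_apply (map_zero Q) (QuadraticMap.polar_zero_left Q w)]
    simp)
  rw [this, one_smul]

theorem finrank_le_half [FiniteDimensional F V] (hQ : PolarNondeg Q) (U : Submodule F V)
    (hU : ∀ x ∈ U, Q x = 0) : 2 * Module.finrank F U ≤ Module.finrank F V := by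
  let B : LinearMap.BilinForm F V := QuadraticMap.polarBilin Q
  have hB : B.Nondegenerate := PolarNondeg.nondegenerate hQ
  have hle : U ≤ B.orthogonal U := fun x hx y hy => polar_eq_zero_of_singular hU hy hx
  have h1 := Submodule.finrank_mono hle
  rw [LinearMap.BilinForm.finrank_orthogonal hB] at h1
  omega

variable [Fintype F] [Finite V] [FiniteDimensional F V] [Finite Ω]
variable [MulAction.IsPretransitive (eichGroup Q) Ω] [Nontrivial Ω]

omit [Finite V] [Finite Ω] in
/-- Two non-orthogonal full vectors fix the point under everything. -/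
theorem full_polar_eq_zero (hQ : PolarNondeg Q) (hn : 6 ≤ Module.finrank F V) {ω : Ω} {x y : V}
    (hx : Q x = 0) (hy : Q y = 0) (hfx : FullU Q ω x) (hfy : FullU Q ω y) : pl x y = 0 := by
  by_contra hxy
  have hx0 : x ≠ 0 := fun e => hxy (by rw [e, QuadraticMap.polar_zero_left])
  have step : ∀ {x y : V}, Q x = 0 → Q y = 0 → FullU Q ω x → FullU Q ω y → pl x y ≠ 0 →
      ∀ z, Q z = 0 → pl x z ≠ 0 → FullU Q ω z := by
    intro x y hx hy hfx hfy hxy z hz hxz
    set t := pl x y / pl x z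
    have ht : t ≠ 0 := div_ne_zero hxy hxz
    have hz' : Q (t • z) = 0 := by rw [quad_smul, hz, mul_zero]
    have e1 : pl y x = pl (t • z) x := by
      rw [QuadraticMap.polar_smul_left, QuadraticMap.polar_comm Q z x, smul_eq_mul, div_mul_cancel₀ _ hxz,
        QuadraticMap.polar_comm]
    obtain ⟨w, hw, hwy⟩ := exists_eich_move Q hy hz' hx e1 (by rwa [QuadraticMap.polar_comm])
    have h1 := hfy.of_fix hy (hfx w hw)
    rw [show act (eG Q x w) y = t • z from hwy] at h1
    have h2 := h1.smul hz' t⁻¹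
    rwa [inv_smul_smul₀ ht] at h2
  have hall : ∀ z, Q z = 0 → FullU Q ω z := by
    intro z hz
    by_cases hxz : pl x z = 0
    swap
    · exact step hx hy hfx hfy hxy z hz hxz
    by_cases hdep : ∃ s : F, s • x = z
    · obtain ⟨s, rfl⟩ := hdep
      exact hfx.smul hx s
    push Not at hdep
    have hdep' : ∀ s : F, s • z ≠ x := fun s hs => by
      have hs0 : s ≠ 0 := fun e => hx0 (by rw [← hs, e, zero_smul])
      exact hdep s⁻¹ (by rw [← hs, smul_smul, inv_mul_cancel₀ hs0, one_smul])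
    obtain ⟨v, hv, hxv, hzv⟩ := exists_common Q hQ (by omega) hx hz hdep hdep'
    have hfv := step hx hy hfx hfy hxy v hv hxv
    refine step hv hx hfv hfx (by rwa [QuadraticMap.polar_comm]) z hz ?_
    rw [QuadraticMap.polar_comm, ← hzv]; exact hxv
  have htop : ∀ g : eichGroup Q, g • ω = ω := by
    rintro ⟨g, hg⟩
    induction hg using Subgroup.closure_induction with
    | mem k hk =>
      obtain ⟨u, w, hu, h, rfl⟩ := hk
      exact hall u hu w h
    | one => exact one_smul _ ω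
    | mul a b ha hb iha ihb =>
      change ((⟨a, ha⟩ : eichGroup Q) * ⟨b, hb⟩) • ω = ω
      rw [mul_smul, ihb, iha]
    | inv a ha iha =>
      change (⟨a, ha⟩ : eichGroup Q)⁻¹ • ω = ω
      rw [inv_smul_eq_iff, iha]
  obtain ⟨a, b, hab⟩ := exists_pair_ne Ω
  obtain ⟨g, hg⟩ := MulAction.exists_smul_eq (eichGroup Q) ω a
  obtain ⟨g', hg'⟩ := MulAction.exists_smul_eq (eichGroup Q) ω b
  exact hab ((hg.symm.trans (htop g)).trans (hg'.symm.trans (htop g')).symm)

/-- The full vectors at a point. -/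
def fullSpace (hQ : PolarNondeg Q) (hn : 6 ≤ Module.finrank F V) (ω : Ω) : Submodule F V where
  carrier := {x | Q x = 0 ∧ FullU Q ω x}
  zero_mem' := ⟨map_zero Q, fullU_zero ω⟩
  smul_mem' t x := by
    rintro ⟨hx, hf⟩
    exact ⟨by rw [quad_smul, hx, mul_zero], hf.smul hx t⟩
  add_mem' := by
    rintro x y ⟨hx, hfx⟩ ⟨hy, hfy⟩
    have hxy := full_polar_eq_zero hQ hn hx hy hfx hfy
    have hs : Q (x + y) = 0 := by rw [quad_add, hx, hy, hxy, add_zero, add_zero]
    refine ⟨hs, ?_⟩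
    by_cases hdep : ∃ s : F, s • y = x
    · obtain ⟨s, rfl⟩ := hdep
      rw [show s • y + y = (s + 1) • y by module]
      exact hfy.smul hy _
    push Not at hdep
    obtain ⟨a, hya, hxa⟩ := exists_polar_sep Q hQ hdep
    set a' := (-(pl x a)⁻¹) • a
    have hya' : pl y a' = 0 := by rw [QuadraticMap.polar_smul_right, hya, smul_zero]
    have h1 := hfx.of_fix hx (hfy a' hya')
    have e : act (eG Q y a') x = x + y := by
      rw [eG_apply hy hya', hxy, QuadraticMap.polar_smul_right, smul_eq_mul, neg_mul, inv_mul_cancel₀ hxa]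
      simp
    rwa [e] at h1

omit [Finite V] [Finite Ω] in
theorem mem_fullSpace (hQ : PolarNondeg Q) (hn : 6 ≤ Module.finrank F V) {ω : Ω} {x : V} :
    x ∈ fullSpace hQ hn ω ↔ Q x = 0 ∧ FullU Q ω x := Iff.rfl

omit [MulAction.IsPretransitive (eichGroup Q) Ω] [Nontrivial Ω] [Finite Ω] [MulAction (eichGroup Q) Ω] in
theorem singCount_side_ge (hQ : PolarNondeg Q) {u z : V} (h : SingPair Q u z)
    {y : side Q u z} (hy : Q (y : V) = 0) (hy0 : y ≠ 0) :
    (Fintype.card F - 1) * Fintype.card F ^ (Module.finrank F V - 4) + Fintype.card F ≤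
      singCount (Q.comp (side Q u z).subtype) + 1 := by
  obtain ⟨z', hp⟩ := exists_pair (polarNondeg_side hQ h) (u := y) hy hy0
  have := singCount_lower hp
  rwa [show Module.finrank F (side Q u z) - 2 = Module.finrank F V - 4 by
    have := finrank_side h; omega] at this

omit [Finite Ω] [MulAction.IsPretransitive (eichGroup Q) Ω] [Nontrivial Ω] [MulAction (eichGroup Q) Ω] in
/-- The vectors orthogonal to `u` outside its line, by their coordinates. -/
theorem perp_coord {u z : V} (h : SingPair Q u z) (t : F) (w : side Q u z) :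
    pl u (t • u + (w : V)) = 0 ∧ Q (t • u + (w : V)) = Q (w : V) := by
  obtain ⟨hwu, -⟩ := mem_side.1 w.2
  exact ⟨by simp [h.uu, hwu],
    by simp [quad_add, quad_smul, h.qu, hwu]⟩

omit [Finite Ω] [MulAction.IsPretransitive (eichGroup Q) Ω] [Nontrivial Ω] [MulAction (eichGroup Q) Ω] in
/-- Moving a third vector of a totally singular space. -/
theorem exists_move_third (hQ : PolarNondeg Q) (hn : 8 ≤ Module.finrank F V) {u x y y' : V}
    (hu : Q u = 0) (hu0 : u ≠ 0) (hx : Q x = 0) (hux : pl u x = 0) (hxu : ∀ s : F, x ≠ s • u)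
    (hyu : pl u y = 0) (hxy : pl x y = 0) (hyu' : pl u y' = 0) (hxy' : pl x y' = 0)
    (hyo : ∀ s t : F, y ≠ s • u + t • x) (hyo' : ∀ s t : F, y' ≠ s • u + t • x) (hQy : Q y = Q y') :
    ∃ h : eichGroup Q, act h u = u ∧ act h x = x ∧ act h y = y' := by
  obtain ⟨z, hp, hxz⟩ := exists_pair_perp hQ hu hux hxu hu0
  have hxW : x ∈ side Q u z := mem_side.2 ⟨hux, by rw [QuadraticMap.polar_comm]; exact hxz⟩
  have hx0 : x ≠ 0 := fun e => hxu 0 (by rw [e, zero_smul])
  have comp : ∀ v : V, pl u v = 0 → (∀ s t : F, v ≠ s • u + t • x) → pl x v = 0 →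
      ∃ w : side Q u z, v = pl v z • u + (w : V) ∧ QuadraticMap.polar (Q.comp (side Q u z).subtype) ⟨x, hxW⟩ w = 0 ∧
        (∀ t : F, w ≠ t • (⟨x, hxW⟩ : side Q u z)) ∧ Q v = Q (w : V) := by
    intro v huv hvo hxv
    obtain ⟨w, hw, e⟩ := exists_side_decomp hp v
    rw [QuadraticMap.polar_comm Q v u, huv, zero_smul, add_zero] at e
    refine ⟨⟨w, hw⟩, e, ?_, fun t ht => hvo (pl v z) t (e.trans ?_), ?_⟩
    · change pl x w = 0
      rw [e, QuadraticMap.polar_add_right, QuadraticMap.polar_smul_right, QuadraticMap.polar_comm Q x u,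
        hux, smul_zero, zero_add] at hxv
      exact hxv
    · rw [show w = t • x from congrArg Subtype.val ht]
    · rw [congrArg Q e]
      exact (perp_coord hp _ ⟨w, hw⟩).2
  obtain ⟨w, ew, hxw, hwo, hQw⟩ := comp y hyu hyo hxy
  obtain ⟨w', ew', hxw', hwo', hQw'⟩ := comp y' hyu' hyo' hxy'
  have hQW := polarNondeg_side hQ hp
  have hd := finrank_side hp
  obtain ⟨k₀, hkx, hkw⟩ := exists_move_perp hQW (by omega) (u := (⟨x, hxW⟩ : side Q u z))
    (u' := ⟨x, hxW⟩) (b := w) (b' := w') hx hx (fun e => hx0 (congrArg Subtype.val e))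
    (fun e => hx0 (congrArg Subtype.val e)) hxw hxw' hwo hwo'
    (show Q (w : V) = Q (w' : V) by rw [← hQw, ← hQw', hQy])
  obtain ⟨h₁, hh₁u, -, hh₁⟩ := exists_lift hp k₀.2
  obtain ⟨d, hd1, hd2⟩ := exists_polar_sep (Q.comp (side Q u z).subtype) hQW
    (a := w') (b := (⟨x, hxW⟩ : side Q u z)) (fun s e => hwo' s e.symm)
  obtain ⟨hud, -⟩ := mem_side.1 d.2
  have hd1' : pl x (d : V) = 0 := hd1
  have hd2' : pl (w' : V) (d : V) ≠ 0 := hd2
  set c := (pl y z - pl y' z) / pl (w' : V) (d : V)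
  have hcd : pl u (c • (d : V)) = 0 := by rw [QuadraticMap.polar_smul_right, hud, smul_zero]
  refine ⟨eG Q u (c • (d : V)) * h₁, ?_, ?_, ?_⟩
  · rw [act_mul, hh₁u, eG_fix hu hcd]
  · have h1 : act h₁ x = x := (hh₁ ⟨x, hxW⟩).trans (congrArg Subtype.val hkx)
    rw [act_mul, h1, eG_fix_of hu hcd (by rw [QuadraticMap.polar_comm]; exact hux)
      (by rw [QuadraticMap.polar_smul_right, hd1', smul_zero])]
  · have h1 : act h₁ y = pl y z • u + (w' : V) := by
      conv_lhs => rw [ew]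
      change (h₁ : qAut Q).1 _ = _
      rw [map_add, map_smul]
      change pl y z • act h₁ u + act h₁ (w : V) = _
      rw [hh₁u, hh₁ w]
      exact congrArg (fun v : side Q u z => pl y z • u + (v : V)) hkw
    have hw'u : pl (w' : V) u = 0 := by rw [QuadraticMap.polar_comm]; exact (mem_side.1 w'.2).1
    rw [act_mul, h1, eG_apply hu hcd]
    conv_rhs => rw [ew']
    simp only [QuadraticMap.polar_add_left, QuadraticMap.polar_smul_left, QuadraticMap.polar_smul_right,
      hw'u, hud, hp.uu, smul_eq_mul, mul_zero, zero_add, add_zero, zero_smul]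
    rw [show c * pl (w' : V) (d : V) = pl y z - pl y' z from div_mul_cancel₀ _ hd2']
    module

/-- The arithmetic of totally singular spaces of less than half the dimension. -/
theorem arith_low {q k n SW : ℕ} (hq : 4 ≤ q) (hk : 2 ≤ k) (hkn : 2 * k < n)
    (hS : (q - 1) * q ^ (n - 4) + q ≤ SW + 1) :
    (q ^ k - 1) * (q ^ k - q) ≤ (q - 1) * (2 * (q * SW)) := by
  obtain ⟨r, rfl⟩ : ∃ r, q = r + 1 := ⟨q - 1, by omega⟩
  rw [Nat.add_sub_cancel] at hS ⊢
  calc ((r + 1) ^ k - 1) * ((r + 1) ^ k - (r + 1)) ≤ (r + 1) ^ k * (r + 1) ^ k :=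
        Nat.mul_le_mul (Nat.sub_le _ _) (Nat.sub_le _ _)
    _ = (r + 1) ^ (2 * k) := by rw [← pow_add]; congr 1; omega
    _ ≤ (r + 1) ^ (n - 4 + 3) := Nat.pow_le_pow_right (by omega) (by omega)
    _ = (r + 1) * (r + 1) * ((r + 1) * (r + 1) ^ (n - 4)) := by rw [pow_add]; ring
    _ ≤ r * (2 * r) * ((r + 1) * (r + 1) ^ (n - 4)) := Nat.mul_le_mul_right _ (by nlinarith)
    _ = r * (2 * ((r + 1) * (r * (r + 1) ^ (n - 4)))) := by ring
    _ ≤ _ := Nat.mul_le_mul_left _ (Nat.mul_le_mul_left _ (Nat.mul_le_mul_left _ (by omega)))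

/-- The arithmetic of totally singular spaces of half the dimension. -/
theorem arith_high {q k n SW S0 : ℕ} (hq : 4 ≤ q) (hkn : 2 * k = n) (hn : 8 ≤ n)
    (hS : (q - 1) * q ^ (n - 4) + q * (S0 + 1) ≤ SW + 1)
    (hS0 : (q - 1) * q ^ (n - 6) + q ≤ S0 + 1)
    (hS8 : n = 8 → q ^ 3 + q ^ 2 ≤ S0 + 1 + q) :
    (q ^ k - 1) * (q ^ k - q) * (q ^ k - q ^ 2) ≤ (q - 1) * (q * SW * (q * q * S0)) := by
  obtain ⟨r, rfl⟩ : ∃ r, q = r + 1 := ⟨q - 1, by omega⟩
  rw [Nat.add_sub_cancel] at hS hS0 ⊢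
  rcases Nat.lt_or_ge n 10 with hn10 | hn10
  · obtain rfl : n = 8 := by omega
    obtain rfl : k = 4 := by omega
    have h8 := hS8 rfl
    norm_num at hS hS0 ⊢
    set Q' := r + 1 with hQ'
    have hr : r = Q' - 1 := by omega
    have hA : (Q' * Q' - 1) * (Q' + 1) ≤ S0 := by
      have e : (Q' * Q' - 1) * (Q' + 1) + (Q' + 1) = Q' ^ 3 + Q' ^ 2 := by
        rw [← Nat.succ_mul, show (Q' * Q' - 1).succ = Q' * Q' by
          have : 1 ≤ Q' * Q' := Nat.one_le_iff_ne_zero.2 (Nat.mul_ne_zero (by omega) (by omega))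
          omega]
        ring
      omega
    have hB : (Q' ^ 3 - 1) * (Q' * Q' + 1) ≤ SW := by
      have e : (Q' ^ 3 - 1) * (Q' * Q' + 1) + (Q' * Q' + 1) = Q' ^ 5 + Q' ^ 3 := by
        rw [← Nat.succ_mul, show Nat.succ (Q' ^ 3 - 1) = Q' ^ 3 by
          have : 1 ≤ Q' ^ 3 := Nat.one_le_pow _ _ (by omega)
          omega]
        ring
      have e2 : Q' * (Q' ^ 3 + Q' ^ 2) ≤ Q' * (S0 + 1 + Q') := Nat.mul_le_mul_left _ h8
      have e3 : Q' * (Q' ^ 3 + Q' ^ 2) = Q' ^ 4 + Q' ^ 3 := by ring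
      have e4 : Q' * (S0 + 1 + Q') = Q' * (S0 + 1) + Q' * Q' := by ring
      have e5 : r * Q' ^ 4 + Q' ^ 4 = Q' ^ 5 := by rw [hQ']; ring
      omega
    refine le_trans (le_of_eq ?_)
      (Nat.mul_le_mul_left r (Nat.mul_le_mul (Nat.mul_le_mul_left Q' hB) (Nat.mul_le_mul_left (Q' * Q') hA)))
    obtain ⟨a, ha⟩ : ∃ a, Q' * Q' = a + 1 := ⟨Q' * Q' - 1, by
      have : 1 ≤ Q' * Q' := Nat.one_le_iff_ne_zero.2 (Nat.mul_ne_zero (by omega) (by omega))
      omega⟩
    obtain ⟨b, hb⟩ : ∃ b, Q' ^ 3 = b + 1 := ⟨Q' ^ 3 - 1, by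
      have : 1 ≤ Q' ^ 3 := Nat.one_le_pow _ _ (by omega)
      omega⟩
    rw [show Q' ^ 4 - 1 = r * (Q' + 1) * (Q' * Q' + 1) by
        rw [show Q' ^ 4 = r * (Q' + 1) * (Q' * Q' + 1) + 1 by rw [hQ']; ring, Nat.add_sub_cancel],
      show Q' ^ 4 - Q' = Q' * (Q' ^ 3 - 1) by rw [Nat.mul_sub_one]; congr 1; ring,
      show Q' ^ 4 - Q' ^ 2 = Q' * Q' * (Q' * Q' - 1) by rw [Nat.mul_sub_one]; congr 1 <;> ring,
      hb, ha, Nat.add_sub_cancel, Nat.add_sub_cancel]
    ring
  · calc ((r + 1) ^ k - 1) * ((r + 1) ^ k - (r + 1)) * ((r + 1) ^ k - (r + 1) ^ 2)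
        ≤ (r + 1) ^ k * (r + 1) ^ k * (r + 1) ^ k :=
          Nat.mul_le_mul (Nat.mul_le_mul (Nat.sub_le _ _) (Nat.sub_le _ _)) (Nat.sub_le _ _)
      _ = (r + 1) ^ (3 * k) := by rw [← pow_add, ← pow_add]; congr 1; omega
      _ ≤ (r + 1) ^ (n - 4 + (n - 6) + 5) := Nat.pow_le_pow_right (by omega) (by omega)
      _ = (r + 1) * (r + 1) * ((r + 1) * (r + 1) ^ (n - 4) * ((r + 1) * (r + 1) * (r + 1) ^ (n - 6))) := by
          rw [pow_add, pow_add]; ring
      _ ≤ r * r * r * ((r + 1) * (r + 1) ^ (n - 4) * ((r + 1) * (r + 1) * (r + 1) ^ (n - 6))) := by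
          refine Nat.mul_le_mul_right _ ?_
          obtain ⟨j, rfl⟩ : ∃ j, r = j + 3 := ⟨r - 3, by omega⟩
          nlinarith
      _ = r * ((r + 1) * (r * (r + 1) ^ (n - 4)) * ((r + 1) * (r + 1) * (r * (r + 1) ^ (n - 6)))) := by ring
      _ ≤ _ := Nat.mul_le_mul_left _ (Nat.mul_le_mul (Nat.mul_le_mul_left _ (by
          have : (r + 1) * 1 ≤ (r + 1) * (S0 + 1) := Nat.mul_le_mul_left _ (by omega)
          omega)) (Nat.mul_le_mul_left _ (by omega)))

/-- No point of a small action is fixed by the radical of a singular point. -/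
theorem not_fullU (hQ : PolarNondeg Q) (hn : 7 ≤ Module.finrank F V) (hq : 4 ≤ Fintype.card F)
    (hN : Nat.card Ω * (Fintype.card F - 1) < singCount Q) {ω : Ω} {u : V} (hu : Q u = 0)
    (hu0 : u ≠ 0) : ¬ FullU Q ω u := by
  classical
  intro hfull
  have hn6 : 6 ≤ Module.finrank F V := by omega
  set q := Fintype.card F with hqdef
  set T := fullSpace hQ hn6 ω with hT
  set k := Module.finrank F T with hkdef
  have huT : u ∈ T := ⟨hu, hfull⟩
  have hTs : ∀ x ∈ T, Q x = 0 := fun x hx => hx.1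
  have hTp : ∀ {x y : V}, x ∈ T → y ∈ T → pl x y = 0 := fun hx hy => polar_eq_zero_of_singular hTs hx hy
  have hk1 : 1 ≤ k := Nat.one_le_iff_ne_zero.2 fun e => hu0 (by
    have := Submodule.finrank_eq_zero.1 e
    rwa [this, Submodule.mem_bot] at huT)
  have h2k := finrank_le_half hQ T hTs
  rw [← hkdef] at h2k
  let P : Ω → V → Prop := fun o x => x ≠ 0 ∧ Q x = 0 ∧ FullU Q o x
  have hPg : ∀ (g : eichGroup Q) o x, P o x → P (g • o) (act g x) := fun g o x hx =>
    ⟨act_ne_zero g hx.1, by rw [act_quad, hx.2.1], hx.2.2.map hx.2.1 g⟩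
  have hdc := double_count_sing hQ hn6 P (fun _ _ hx => ⟨hx.1, hx.2.1⟩) hPg ω hu0 hu
  set n := Nat.card {o : Ω // P o u}
  set S := singCount Q
  set N := Nat.card Ω
  have hcardT : Nat.card T = q ^ k := by
    rw [Module.natCard_eq_pow_finrank (K := F), Nat.card_eq_fintype_card]
  have hr : Nat.card {x : V // P ω x} = q ^ k - 1 := by
    have e : {x : V | P ω x} = (T : Set V) \ {0} := by
      ext x
      simp only [P, Set.mem_ofPred_eq, Set.mem_sdiff, SetLike.mem_coe, Set.mem_singleton_iff, hT, mem_fullSpace]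
      tauto
    change Nat.card {x : V | P ω x} = _
    rw [Nat.card_coe_set_eq, e, Set.ncard_sdiff_singleton_of_mem (zero_mem T) (s := (T : Set V)),
      ← Nat.card_coe_set_eq]
    exact congrArg (· - 1) hcardT
  rw [hr] at hdc
  suffices h : q ^ k - 1 ≤ n * (q - 1) by
    have h1 : S * (q ^ k - 1) ≤ N * (q - 1) * (q ^ k - 1) := by
      calc S * (q ^ k - 1) ≤ S * (n * (q - 1)) := Nat.mul_le_mul_left _ h
        _ = N * (q - 1) * (q ^ k - 1) := by rw [← mul_assoc, ← hdc]; ring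
    have hpos : 0 < q ^ k - 1 := by
      have := Nat.one_lt_pow (show k ≠ 0 by omega) (show 1 < q by omega)
      omega
    exact absurd (Nat.le_of_mul_le_mul_right h1 hpos) (not_le.2 hN)
  have hn1 : 1 ≤ n := Nat.card_pos_iff.2 ⟨⟨⟨ω, hu0, hu, hfull⟩⟩, inferInstance⟩
  rcases hk1.eq_or_lt with e | hk2
  · rw [← e, pow_one]
    exact Nat.le_mul_of_pos_left _ hn1
  -- a second vector
  obtain ⟨y, hyT, hyu⟩ : ∃ y ∈ T, ∀ s : F, y ≠ s • u := by
    by_contra hc
    push Not at hc
    have hle : T ≤ Submodule.span F {u} := fun x hx => by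
      obtain ⟨s, rfl⟩ := hc x hx
      exact Submodule.smul_mem _ _ (Submodule.mem_span_singleton_self u)
    have := Submodule.finrank_mono hle
    rw [finrank_span_singleton hu0, ← hkdef] at this
    omega
  obtain ⟨z, hp, hyz⟩ := exists_pair_perp hQ hu (hTp huT hyT) hyu hu0
  have hyW : y ∈ side Q u z := mem_side.2 ⟨hTp huT hyT, by rw [QuadraticMap.polar_comm]; exact hyz⟩
  have hy0 : y ≠ 0 := fun e => hyu 0 (by rw [e, zero_smul])
  have hSW := singCount_side_ge hQ hp (y := ⟨y, hyW⟩) (hTs y hyT) (fun e => hy0 (congrArg Subtype.val e))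
  set SW := singCount (Q.comp (side Q u z).subtype)
  change (q - 1) * q ^ (Module.finrank F V - 4) + q ≤ SW + 1 at hSW
  -- the first coordinates
  let Y : Type _ := F × {w : side Q u z // w ≠ 0 ∧ Q.comp (side Q u z).subtype w = 0}
  let vec : Y → V := fun a => a.1 • u + (a.2.1 : V)
  have hvec : ∀ a, Q (vec a) = 0 ∧ pl u (vec a) = 0 ∧ ∀ s : F, vec a ≠ s • u := by
    rintro ⟨t, w, hw0, hw⟩
    obtain ⟨h1, h2⟩ := perp_coord hp t w
    refine ⟨h2.trans hw, h1, fun s e => hw0 (Subtype.ext ?_)⟩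
    have hm : (w : V) = (s - t) • u := by rw [sub_smul]; exact eq_sub_of_add_eq' e
    have := (mem_side.1 w.2).2
    rw [hm, QuadraticMap.polar_smul_right, hp.zu, smul_eq_mul, mul_one] at this
    rw [hm, this, zero_smul]; rfl
  have hvinj : Function.Injective vec := by
    rintro ⟨t, w, hw⟩ ⟨t', w', hw'⟩ e
    have e' : t • u + (w : V) = t' • u + (w' : V) := e
    have h1 := congrArg (fun v => pl z v) e'
    simp only [QuadraticMap.polar_add_right, QuadraticMap.polar_smul_right, hp.zu, (mem_side.1 w.2).2,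
      (mem_side.1 w'.2).2, smul_eq_mul, mul_one, add_zero] at h1
    subst h1
    rw [add_left_cancel_iff] at e'
    obtain rfl : w = w' := Subtype.ext e'
    rfl
  have hY : Nat.card Y = q * SW := by rw [Nat.card_prod, Nat.card_eq_fintype_card]; rfl
  have hmove : ∀ a : Y, ∃ g : eichGroup Q, act g u = u ∧ act g y = vec a := fun a =>
    exists_move_perp hQ hn6 hu hu hu0 hu0 (hTp huT hyT) (hvec a).2.1 hyu (hvec a).2.2
      ((hTs y hyT).trans (hvec a).1.symm)
  choose g hgu hgy using hmove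
  -- full spaces have constant size
  let R : Ω → V → Prop := fun o x => x ∈ fullSpace hQ hn6 o
  have hrconst : ∀ o : Ω, Nat.card (fullSpace hQ hn6 o) = q ^ k := by
    intro o
    obtain ⟨h, rfl⟩ := MulAction.exists_smul_eq (eichGroup Q) ω o
    rw [← hcardT]
    exact (Nat.card_congr
      { toFun := fun x : T => (⟨act h x.1, by rw [act_quad, x.2.1], x.2.2.map x.2.1 h⟩ :
          fullSpace hQ hn6 (h • ω))
        invFun := fun x => ⟨act h⁻¹ x.1, by rw [act_quad, x.2.1], by
          have := x.2.2.map x.2.1 h⁻¹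
          rwa [inv_smul_smul] at this⟩
        left_inv := fun x => Subtype.ext (act_inv_act h x.1)
        right_inv := fun x => Subtype.ext (act_act_inv h x.1) }).symm
  have hout : ∀ o : {o : Ω // P o u},
      Nat.card {x : V // x ∈ fullSpace hQ hn6 o.1 ∧ ∀ s : F, x ≠ s • u} = q ^ k - q := by
    intro o
    have e : {x : V | x ∈ fullSpace hQ hn6 o.1 ∧ ∀ s : F, x ≠ s • u} =
        (fullSpace hQ hn6 o.1 : Set V) \ Set.range (fun s : F => s • u) := by
      ext x; simp [eq_comm]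
    have hsub : Set.range (fun s : F => s • u) ⊆ (fullSpace hQ hn6 o.1 : Set V) := by
      rintro _ ⟨s, rfl⟩
      exact Submodule.smul_mem _ s ⟨o.2.2.1, o.2.2.2⟩
    change Nat.card {x : V | _} = _
    rw [Nat.card_coe_set_eq, e, Set.ncard_sdiff hsub, ← Nat.card_coe_set_eq, ← Nat.card_coe_set_eq,
      Nat.card_range_of_injective (smul_left_injective F hu0), Nat.card_eq_fintype_card (α := F)]
    exact congrArg (· - q) (hrconst o.1)
  have hgP : ∀ a, P (g a • ω) u := fun a => by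
    have := hPg (g a) ω u ⟨hu0, hu, hfull⟩
    rwa [hgu] at this
  have hmem : ∀ a, ∀ x ∈ T, act (g a) x ∈ fullSpace hQ hn6 (g a • ω) := fun a x hx =>
    ⟨by rw [act_quad, hx.1], hx.2.map hx.1 (g a)⟩
  let _ : Fintype Ω := Fintype.ofFinite Ω
  -- pairs of a point and a vector
  have hcover : ∀ (ι : Type) (_ : Fintype ι) (h : ι → eichGroup Q),
      (∀ i, act (h i) u = u ∧ act (h i) y = y) → (∀ i j, h i • ω = h j • ω → i = j) →
      Fintype.card ι * (q * SW) ≤ n * (q ^ k - q) := by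
    intro ι _ h hh hinj
    have key := Nat.card_le_card_of_injective
      (fun a : ι × Y => (⟨⟨(g a.2 * h a.1) • ω, by
          have := hPg (g a.2 * h a.1) ω u ⟨hu0, hu, hfull⟩
          rwa [act_mul, (hh a.1).1, hgu] at this⟩, ⟨vec a.2, by
          refine ⟨?_, (hvec a.2).2.2⟩
          have h1 : act (g a.2 * h a.1) y ∈ fullSpace hQ hn6 ((g a.2 * h a.1) • ω) :=
            ⟨by rw [act_quad, hyT.1], hyT.2.map hyT.1 _⟩
          rwa [act_mul, (hh a.1).2, hgy] at h1⟩⟩ :
        Σ o : {o : Ω // P o u}, {x : V // x ∈ fullSpace hQ hn6 o.1 ∧ ∀ s : F, x ≠ s • u})) (by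
      rintro ⟨i, a⟩ ⟨j, b⟩ e
      obtain rfl : a = b := hvinj (congrArg (fun s => s.2.1) e)
      have e1 : (g a * h i) • ω = (g a * h j) • ω := congrArg (fun s => s.1.1) e
      rw [mul_smul, mul_smul, smul_left_cancel_iff] at e1
      rw [hinj i j e1])
    rw [Nat.card_sigma, Finset.sum_congr rfl fun o _ => hout o, Finset.sum_const, smul_eq_mul,
      Finset.card_univ, ← Nat.card_eq_fintype_card, Nat.card_prod, hY, Nat.card_eq_fintype_card (α := ι)] at key
    exact key
  by_cases hk2' : k = 2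
  · have key := hcover Unit inferInstance (fun _ => 1) (fun _ => ⟨act_one u, act_one y⟩) fun _ _ _ => rfl
    rw [Fintype.card_unit, one_mul, hk2'] at key
    obtain ⟨r, hr'⟩ : ∃ r, q = r + 1 := ⟨q - 1, by omega⟩
    have e1 : q ^ 2 - q = q * r := by rw [sq, ← Nat.mul_sub_one, hr', Nat.add_sub_cancel]
    rw [e1, mul_left_comm] at key
    have key' : SW ≤ n * r := Nat.le_of_mul_le_mul_left key (by omega)
    rw [hk2', show q - 1 = r by omega]
    have h1 : q ^ 3 ≤ q ^ (Module.finrank F V - 4) := Nat.pow_le_pow_right (by omega) (by omega)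
    have h2 : q ^ 3 ≤ (q - 1) * q ^ (Module.finrank F V - 4) :=
      h1.trans (Nat.le_mul_of_pos_left _ (by omega))
    have h3 : q ^ 2 ≤ q ^ 3 := Nat.pow_le_pow_right (by omega) (by omega)
    omega
  -- a third vector, in the complement of the first two
  set yW : side Q u z := ⟨y, hyW⟩
  have hQW := polarNondeg_side hQ hp
  obtain ⟨z₁, hp₁⟩ := exists_pair hQW (u := yW) (hTs y hyT) (fun e => hy0 (congrArg Subtype.val e))
  set Q₁ := Q.comp (side Q u z).subtype with hQ₁
  have hQ0 := polarNondeg_side hQW hp₁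
  let L : T →ₗ[F] F × F :=
    ((QuadraticMap.polarBilin Q z).prod (QuadraticMap.polarBilin Q (z₁ : V))).comp T.subtype
  have hker : k ≤ Module.finrank F (LinearMap.ker L) + 2 := by
    have h1 := LinearMap.finrank_range_add_finrank_ker L
    have h2 := Submodule.finrank_le (LinearMap.range L)
    rw [Module.finrank_prod, Module.finrank_self] at h2
    omega
  have hLmem : ∀ x : LinearMap.ker L, ∃ x' : side Q₁ yW z₁,
      (((x' : side Q u z)) : V) = ((x : T) : V) := by
    rintro ⟨⟨x, hx⟩, hxL⟩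
    obtain ⟨h1, h2⟩ := Prod.ext_iff.1 (LinearMap.mem_ker.1 hxL)
    exact ⟨⟨⟨x, mem_side.2 ⟨hTp huT hx, h1⟩⟩, mem_side.2 ⟨hTp hyT hx, h2⟩⟩, rfl⟩
  choose lift hlift using hLmem
  obtain ⟨x₀, hx₀⟩ : ∃ x : LinearMap.ker L, x ≠ 0 := by
    by_contra hc
    push Not at hc
    have : Subsingleton (LinearMap.ker L) := ⟨fun a b => (hc a).trans (hc b).symm⟩
    have := Module.finrank_zero_of_subsingleton (R := F) (M := LinearMap.ker L)
    omega
  set y₂ := lift x₀
  have hy₂T : (((y₂ : side Q u z)) : V) ∈ T := hlift x₀ ▸ (x₀ : T).2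
  have hy₂0 : y₂ ≠ 0 := fun e => hx₀ (Subtype.ext (Subtype.ext (by
    rw [← hlift x₀]; change (((y₂ : side Q u z)) : V) = 0; rw [e]; rfl)))
  obtain ⟨z₂, hp₂⟩ := exists_pair hQ0 (u := y₂) (hTs _ hy₂T) hy₂0
  by_cases h2 : 2 * k < Module.finrank F V
  · -- two full spaces through each pair
    obtain ⟨c, hcu, hcy, hcz, hQc⟩ : ∃ c : V, pl u c = 0 ∧ pl y c = 0 ∧
        pl (((z₂ : side Q u z)) : V) c = 0 ∧ Q c ≠ 0 := by
      by_contra hc
      push Not at hc
      let C : Submodule F V := LinearMap.ker ((QuadraticMap.polarBilin Q u).prod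
        ((QuadraticMap.polarBilin Q y).prod (QuadraticMap.polarBilin Q (((z₂ : side Q u z)) : V))))
      have hC : ∀ x ∈ C, Q x = 0 := fun x hx => by
        obtain ⟨h1, h2⟩ := Prod.ext_iff.1 (LinearMap.mem_ker.1 hx)
        obtain ⟨h3, h4⟩ := Prod.ext_iff.1 h2
        exact hc x h1 h3 h4
      have h1 := finrank_le_half hQ C hC
      have h3 := LinearMap.finrank_range_add_finrank_ker ((QuadraticMap.polarBilin Q u).prod
        ((QuadraticMap.polarBilin Q y).prod (QuadraticMap.polarBilin Q (((z₂ : side Q u z)) : V))))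
      have h4 := Submodule.finrank_le (LinearMap.range ((QuadraticMap.polarBilin Q u).prod
        ((QuadraticMap.polarBilin Q y).prod (QuadraticMap.polarBilin Q (((z₂ : side Q u z)) : V)))))
      rw [Module.finrank_prod, Module.finrank_prod, Module.finrank_self] at h4
      change 2 * Module.finrank F (LinearMap.ker _) ≤ _ at h1
      omega
    set Z : V := (((z₂ : side Q u z)) : V)
    set Y₂ : V := (((y₂ : side Q u z)) : V)
    have hZ : Q Z = 0 := hp₂.qz
    have hZu : pl u Z = 0 := (mem_side.1 (z₂ : side Q u z).2).1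
    have hZy : pl y Z = 0 := (mem_side.1 z₂.2).1
    set h₁ := eG Q Z c
    have hh₁u : act h₁ u = u := eG_fix_of hZ hcz hZu hcu
    have hh₁y : act h₁ y = y := eG_fix_of hZ hcz hZy hcy
    have hh₁ne : h₁ • ω ≠ ω := by
      intro e
      have h1 : act h₁ Y₂ ∈ T := ⟨by rw [act_quad, hy₂T.1], by
        have := hy₂T.2.map hy₂T.1 h₁
        rwa [e] at this⟩
      have h2 := hTp hy₂T h1
      have hY2 : pl Y₂ Z = 1 := hp₂.uz
      rw [eG_apply hZ hcz, hY2, QuadraticMap.polar_sub_right, QuadraticMap.polar_add_right,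
        QuadraticMap.polar_smul_right, QuadraticMap.polar_smul_right, quad_polar_self, hy₂T.1, hY2] at h2
      simp at h2
      exact hQc h2
    have key := hcover Bool inferInstance (fun b => if b then h₁ else 1)
      (fun b => by cases b <;> simp [hh₁u, hh₁y, act_one]) (fun a b e => by
        cases a <;> cases b <;> simp at e ⊢
        · exact hh₁ne e.symm
        · exact hh₁ne e)
    rw [Fintype.card_bool] at key
    have hnum := arith_low hq (show 2 ≤ k by omega) h2 hSW
    have hpos : 0 < q ^ k - q := by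
      have : q ^ 1 < q ^ k := Nat.pow_lt_pow_right (by omega) (by omega)
      rw [pow_one] at this
      omega
    refine Nat.le_of_mul_le_mul_right ?_ hpos
    calc (q ^ k - 1) * (q ^ k - q) ≤ (q - 1) * (2 * (q * SW)) := hnum
      _ ≤ (q - 1) * (n * (q ^ k - q)) := Nat.mul_le_mul_left _ key
      _ = n * (q - 1) * (q ^ k - q) := by ring
  -- half the dimension: triples
  have hkn : 2 * k = Module.finrank F V := by omega
  have hn8 : 8 ≤ Module.finrank F V := by omega
  have hW6 : 6 ≤ Module.finrank F (side Q u z) := by have := finrank_side hp; omega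
  set S0 := singCount (Q₁.comp (side Q₁ yW z₁).subtype)
  have hSWeq : SW + 1 = (q - 1) * q ^ (Module.finrank F V - 4) + q * (S0 + 1) := by
    have := singCount_eq hp₁
    rwa [show Module.finrank F (side Q u z) - 2 = Module.finrank F V - 4 by
      have := finrank_side hp; omega] at this
  have hd1 := finrank_side hp₁
  have hd0 := finrank_side hp
  have hS0 : (q - 1) * q ^ (Module.finrank F V - 6) + q ≤ S0 + 1 := by
    have := singCount_lower hp₂
    rwa [show Module.finrank F (side Q₁ yW z₁) - 2 = Module.finrank F V - 6 by omega] at this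
  have hS8 : Module.finrank F V = 8 → q ^ 3 + q ^ 2 ≤ S0 + 1 + q := by
    intro h8
    -- another vector of the full space in the last complement
    let L2 : LinearMap.ker L →ₗ[F] F :=
      (QuadraticMap.polarBilin Q (((z₂ : side Q u z)) : V)).comp (T.subtype.comp (LinearMap.ker L).subtype)
    obtain ⟨x₁, hx₁⟩ : ∃ x : LinearMap.ker L2, x ≠ 0 := by
      by_contra hc
      push Not at hc
      have : Subsingleton (LinearMap.ker L2) := ⟨fun a b => (hc a).trans (hc b).symm⟩
      have h0 := Module.finrank_zero_of_subsingleton (R := F) (M := LinearMap.ker L2)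
      have h1 := LinearMap.finrank_range_add_finrank_ker L2
      have h2 := Submodule.finrank_le (LinearMap.range L2)
      rw [Module.finrank_self] at h2
      omega
    have hmem : lift x₁.1 ∈ side (Q₁.comp (side Q₁ yW z₁).subtype) y₂ z₂ := by
      refine mem_side.2 ⟨?_, ?_⟩
      · change pl (((y₂ : side Q u z)) : V) (((lift x₁.1 : side Q u z)) : V) = 0
        rw [hlift x₁.1]; exact hTp hy₂T (x₁.1 : T).2
      · change pl (((z₂ : side Q u z)) : V) (((lift x₁.1 : side Q u z)) : V) = 0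
        rw [hlift x₁.1]; exact LinearMap.mem_ker.1 x₁.2
    have h3 : lift x₁.1 ≠ 0 := fun e => hx₁ (Subtype.ext (Subtype.ext (Subtype.ext (by
      rw [← hlift x₁.1]; change (((lift x₁.1 : side Q u z)) : V) = 0; rw [e]; rfl))))
    have h4 := singCount_side_ge hQ0 hp₂ (y := ⟨_, hmem⟩)
      (by change Q (((lift x₁.1 : side Q u z)) : V) = 0; rw [hlift x₁.1]; exact hTs _ (x₁.1 : T).2)
      (fun e => h3 (congrArg Subtype.val e))
    have h5 := singCount_eq hp₂
    rw [show Module.finrank F (side Q₁ yW z₁) - 2 = 2 by omega] at h5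
    rw [show Module.finrank F (side Q₁ yW z₁) - 4 = 0 by omega, pow_zero, mul_one] at h4
    change q - 1 + q ≤ _ at h4
    change S0 + 1 = (q - 1) * q ^ 2 + q * _ at h5
    rw [h5]
    have h6 := Nat.mul_le_mul_left q h4
    obtain ⟨r, hr'⟩ : ∃ r, q = r + 1 := ⟨q - 1, by omega⟩
    rw [hr', Nat.add_sub_cancel] at h6 ⊢
    have e1 : (r + 1) ^ 3 + (r + 1) ^ 2 = r * (r + 1) ^ 2 + (r + 1) * (r + (r + 1)) + (r + 1) := by ring
    omega
  have hnum := arith_high hq hkn hn8 hSWeq.ge hS0 hS8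
  -- coordinates of the third vector
  have hpair : ∀ a : Y, ∃ z' : side Q u z, SingPair Q₁ a.2.1 z' := fun a =>
    exists_pair hQW a.2.2.2 a.2.2.1
  choose zz hzz using hpair
  have hS0a : ∀ a, singCount (Q₁.comp (side Q₁ a.2.1 (zz a)).subtype) = S0 := by
    intro a
    have h1 := singCount_eq (hzz a)
    have h2 := singCount_eq hp₁
    rw [h2] at h1
    have := Nat.eq_of_mul_eq_mul_left (show 0 < q by omega) (Nat.add_left_cancel h1)
    omega
  let Z2 : Y → Type _ := fun a => (F × F) ×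
    {w : side Q₁ a.2.1 (zz a) // w ≠ 0 ∧ Q₁.comp (side Q₁ a.2.1 (zz a)).subtype w = 0}
  let vec2 : (a : Y) → Z2 a → V := fun a b =>
    b.1.1 • u + b.1.2 • (a.2.1 : V) + ((b.2.1 : side Q u z) : V)
  have hv2 : ∀ a b, Q (vec2 a b) = 0 ∧ pl u (vec2 a b) = 0 ∧ pl (vec a) (vec2 a b) = 0 ∧
      (∀ s t : F, vec2 a b ≠ s • u + t • vec a) := by
    rintro ⟨t, w₁, hw₁0, hw₁⟩ ⟨⟨s, r⟩, w₂, hw₂0, hw₂⟩
    obtain ⟨huw₁, hzw₁⟩ := mem_side.1 w₁.2
    obtain ⟨huw₂, hzw₂⟩ := mem_side.1 (w₂ : side Q u z).2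
    have h12 : pl (w₁ : V) ((w₂ : side Q u z) : V) = 0 := (mem_side.1 w₂.2).1
    have hQw₁ : Q (w₁ : V) = 0 := hw₁
    have hQw₂ : Q ((w₂ : side Q u z) : V) = 0 := hw₂
    have hw11 : pl (w₁ : V) (w₁ : V) = 0 := by rw [quad_polar_self, hQw₁, mul_zero]
    have hw1u : pl (w₁ : V) u = 0 := (QuadraticMap.polar_comm Q _ u).trans huw₁
    refine ⟨?_, ?_, ?_, fun s' t' e => hw₂0 ?_⟩
    · simp [vec2, quad_add, quad_smul, hu, hQw₁, hQw₂, huw₁, huw₂, h12, QuadraticMap.polar_add_left]
    · simp [vec2, huw₁, huw₂, hp.uu]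
    · simp [vec, vec2, huw₂, hp.uu, huw₁, hw11, hw1u, h12, QuadraticMap.polar_add_left]
    · have e' : ((w₂ : side Q u z) : V) = (s' + t' * t - s) • u + (t' - r) • (w₁ : V) := by
        have e'' : s • u + r • (w₁ : V) + ((w₂ : side Q u z) : V) = s' • u + t' • (t • u + (w₁ : V)) := e
        linear_combination (norm := module) e''
      have h1 := congrArg (fun v => pl z v) e'
      simp only [QuadraticMap.polar_add_right, QuadraticMap.polar_smul_right, hp.zu, hzw₁, hzw₂,
        smul_eq_mul, mul_one, mul_zero, add_zero] at h1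
      rw [← h1, zero_smul, zero_add] at e'
      have hb := (mem_side.1 w₂.2).2
      have e2 : (w₂ : side Q u z) = (t' - r) • w₁ := Subtype.ext e'
      rw [e2, QuadraticMap.polar_smul_right, (hzz ⟨t, w₁, hw₁0, hw₁⟩).zu, smul_eq_mul, mul_one] at hb
      rw [hb, zero_smul] at e2
      exact Subtype.ext e2
  have hv2inj : ∀ a, Function.Injective (vec2 a) := by
    rintro ⟨t, w₁, hw₁0, hw₁⟩ ⟨⟨s, r⟩, w₂, hw₂⟩ ⟨⟨s', r'⟩, w₂', hw₂'⟩ e
    have e' : s • u + r • (w₁ : V) + ((w₂ : side Q u z) : V) =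
        s' • u + r' • (w₁ : V) + ((w₂' : side Q u z) : V) := e
    have h1 := congrArg (fun v => pl z v) e'
    simp only [QuadraticMap.polar_add_right, QuadraticMap.polar_smul_right, hp.zu, (mem_side.1 w₁.2).2,
      (mem_side.1 (w₂ : side Q u z).2).2, (mem_side.1 (w₂' : side Q u z).2).2, smul_eq_mul, mul_one,
      mul_zero, add_zero] at h1
    subst h1
    rw [add_assoc, add_assoc, add_left_cancel_iff] at e'
    have e2 : r • w₁ + (w₂ : side Q u z) = r' • w₁ + (w₂' : side Q u z) := Subtype.ext e'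
    have h2 := congrArg (fun v => QuadraticMap.polar Q₁ (zz ⟨t, w₁, hw₁0, hw₁⟩) v) e2
    simp only [QuadraticMap.polar_add_right, QuadraticMap.polar_smul_right,
      (hzz ⟨t, w₁, hw₁0, hw₁⟩).zu, (mem_side.1 w₂.2).2, (mem_side.1 w₂'.2).2, smul_eq_mul, mul_one,
      add_zero] at h2
    subst h2
    rw [add_left_cancel_iff] at e2
    obtain rfl : w₂ = w₂' := Subtype.ext e2
    rfl
  -- moving the third vector
  set Y₂ : V := (((y₂ : side Q u z)) : V)
  have hY₂u : pl u Y₂ = 0 := (mem_side.1 (y₂ : side Q u z).2).1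
  have hY₂out : ∀ s t : F, Y₂ ≠ s • u + t • y := by
    intro s t e
    have h1 := congrArg (fun v => pl z v) e
    simp only [QuadraticMap.polar_add_right, QuadraticMap.polar_smul_right, hp.zu, (mem_side.1 hyW).2,
      show pl z Y₂ = 0 from (mem_side.1 (y₂ : side Q u z).2).2, smul_eq_mul, mul_one, mul_zero, add_zero] at h1
    rw [← h1, zero_smul, zero_add] at e
    have e2 : (y₂ : side Q u z) = t • yW := Subtype.ext e
    have hb := (mem_side.1 y₂.2).2
    rw [e2, QuadraticMap.polar_smul_right, hp₁.zu, smul_eq_mul, mul_one] at hb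
    rw [hb, zero_smul] at e2
    exact hy₂0 (Subtype.ext e2)
  have hmove2 : ∀ (a : Y) (b : Z2 a), ∃ h : eichGroup Q,
      act h u = u ∧ act h y = vec a ∧ act h Y₂ = vec2 a b := by
    intro a b
    obtain ⟨h1, h2, h3, h4⟩ := hv2 a b
    obtain ⟨h', hu', hx', hy'⟩ := exists_move_third hQ (by omega) hu hu0 (hvec a).1 (hvec a).2.1 (hvec a).2.2
      (y := act (g a) Y₂) (y' := vec2 a b) (by rw [← hgu a, act_polar, hY₂u])
      (by rw [← hgy a, act_polar]; exact hTp hyT hy₂T) h2 h3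
      (fun s t e => hY₂out s t ((g a : qAut Q).1.injective (by
        change act (g a) Y₂ = _
        rw [e, map_add, map_smul, map_smul]
        change s • u + t • vec a = s • act (g a) u + t • act (g a) y
        rw [hgu, hgy]))) h4 (by rw [act_quad, h1, hy₂T.1])
    exact ⟨h' * g a, by rw [act_mul, hgu, hu'], by rw [act_mul, hgy, hx'], by rw [act_mul, hy']⟩
  choose g2 hg2u hg2y hg2Y using hmove2
  let Tgt : {o : Ω // P o u} → Type _ := fun o =>
    Σ x : {x : V // x ∈ fullSpace hQ hn6 o.1 ∧ ∀ s : F, x ≠ s • u},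
      {x' : V // x' ∈ fullSpace hQ hn6 o.1 ∧ ∀ s t : F, x' ≠ s • u + t • x.1}
  have hTgt : ∀ o, Nat.card (Tgt o) = (q ^ k - q) * (q ^ k - q ^ 2) := by
    intro o
    let _ : Fintype {x : V // x ∈ fullSpace hQ hn6 o.1 ∧ ∀ s : F, x ≠ s • u} := Fintype.ofFinite _
    have hin : ∀ x : {x : V // x ∈ fullSpace hQ hn6 o.1 ∧ ∀ s : F, x ≠ s • u},
        Nat.card {x' : V // x' ∈ fullSpace hQ hn6 o.1 ∧ ∀ s t : F, x' ≠ s • u + t • x.1} =
          q ^ k - q ^ 2 := by
      intro x
      have huo : u ∈ fullSpace hQ hn6 o.1 := ⟨o.2.2.1, o.2.2.2⟩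
      have e : {x' : V | x' ∈ fullSpace hQ hn6 o.1 ∧ ∀ s t : F, x' ≠ s • u + t • x.1} =
          (fullSpace hQ hn6 o.1 : Set V) \ Set.range (fun st : F × F => st.1 • u + st.2 • x.1) := by
        ext x'; simp [eq_comm]
      have hsub : Set.range (fun st : F × F => st.1 • u + st.2 • x.1) ⊆
          (fullSpace hQ hn6 o.1 : Set V) := by
        rintro _ ⟨st, rfl⟩
        exact Submodule.add_mem _ (Submodule.smul_mem _ _ huo) (Submodule.smul_mem _ _ x.2.1)
      have hinj : Function.Injective (fun st : F × F => st.1 • u + st.2 • x.1) := by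
        intro st st' e
        have e' : (st.2 - st'.2) • x.1 = (st'.1 - st.1) • u := by
          linear_combination (norm := module) e
        by_cases h : st.2 - st'.2 = 0
        · rw [h, zero_smul] at e'
          exact Prod.ext ((sub_eq_zero.1 ((smul_eq_zero.1 e'.symm).resolve_right hu0)).symm) (sub_eq_zero.1 h)
        · exact absurd (by rw [← smul_smul, ← e', inv_smul_smul₀ h]) (x.2.2 ((st.2 - st'.2)⁻¹ * (st'.1 - st.1)))
      change Nat.card {x' : V | _} = _
      rw [Nat.card_coe_set_eq, e, Set.ncard_sdiff hsub, ← Nat.card_coe_set_eq, ← Nat.card_coe_set_eq,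
        Nat.card_range_of_injective hinj, Nat.card_prod, Nat.card_eq_fintype_card (α := F), ← hqdef, ← sq]
      exact congrArg (· - q ^ 2) (hrconst o.1)
    rw [Nat.card_sigma, Finset.sum_congr rfl fun x _ => hin x, Finset.sum_const, smul_eq_mul,
      Finset.card_univ, ← Nat.card_eq_fintype_card, hout o]
  have hmemT : ∀ (h : eichGroup Q) (x : V), x ∈ T → act h x ∈ fullSpace hQ hn6 (h • ω) := fun h x hx =>
    ⟨by rw [act_quad, hx.1], hx.2.map hx.1 h⟩
  have key := Nat.card_le_card_of_injective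
    (fun ab : Σ a : Y, Z2 a => (⟨⟨g2 ab.1 ab.2 • ω, by
        have := hPg (g2 ab.1 ab.2) ω u ⟨hu0, hu, hfull⟩
        rwa [hg2u] at this⟩,
      ⟨vec ab.1, by
        have := hmemT (g2 ab.1 ab.2) y hyT
        rw [hg2y] at this
        exact ⟨this, (hvec ab.1).2.2⟩⟩,
      ⟨vec2 ab.1 ab.2, by
        have := hmemT (g2 ab.1 ab.2) Y₂ hy₂T
        rw [hg2Y] at this
        exact ⟨this, (hv2 ab.1 ab.2).2.2.2⟩⟩⟩ : Σ o : {o : Ω // P o u}, Tgt o)) (by
    rintro ⟨a, b⟩ ⟨a', b'⟩ e
    obtain rfl : a = a' := hvinj (congrArg (fun s => s.2.1.1) e)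
    obtain rfl : b = b' := hv2inj a (congrArg (fun s => s.2.2.1) e)
    rfl)
  let _ : Fintype Y := Fintype.ofFinite Y
  have hZ2 : ∀ a, Nat.card (Z2 a) = q * q * S0 := fun a => by
    rw [Nat.card_prod, Nat.card_prod, Nat.card_eq_fintype_card, ← hS0a a]; rfl
  rw [Nat.card_sigma, Nat.card_sigma, Finset.sum_congr rfl fun a _ => hZ2 a,
    Finset.sum_congr rfl fun o _ => hTgt o, Finset.sum_const, Finset.sum_const, smul_eq_mul, smul_eq_mul,
    Finset.card_univ, Finset.card_univ, ← Nat.card_eq_fintype_card, ← Nat.card_eq_fintype_card, hY] at key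
  have hpos : 0 < (q ^ k - q) * (q ^ k - q ^ 2) := by
    have h1 : q ^ 1 < q ^ k := Nat.pow_lt_pow_right (by omega) (by omega)
    have h2 : q ^ 2 < q ^ k := Nat.pow_lt_pow_right (by omega) (by omega)
    rw [pow_one] at h1
    exact Nat.mul_pos (by omega) (by omega)
  refine Nat.le_of_mul_le_mul_right ?_ hpos
  calc (q ^ k - 1) * ((q ^ k - q) * (q ^ k - q ^ 2))
      = (q ^ k - 1) * (q ^ k - q) * (q ^ k - q ^ 2) := (mul_assoc _ _ _).symm
    _ ≤ (q - 1) * (q * SW * (q * q * S0)) := hnum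
    _ ≤ (q - 1) * (n * ((q ^ k - q) * (q ^ k - q ^ 2))) := Nat.mul_le_mul_left _ key
    _ = n * (q - 1) * ((q ^ k - q) * (q ^ k - q ^ 2)) := by ring

end CfsgLib.OrthMinIndex
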