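/-
The number of radical orbits whose dual contains a given vector.
-/
import Cfsg.Agent.Lib.OrthMinIndex.Full

set_option autoImplicit false

namespace CfsgLib.OrthMinIndex

open CfsgLib.Classical

variable {F V : Type*} [Field F] [AddCommGroup V] [Module F V] {Q : QuadraticForm F V}
variable {Ω : Type*} [MulAction (eichGroup Q) Ω]
variable (p : ℕ) [Fact p.Prime] [Algebra (ZMod p) F]

local notation "pl" => QuadraticMap.polar Q

variable (Q Ω) in
/-- The radical orbits through `b`. -/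
abbrev ClsAt {u : V} (hu : Q u = 0) (b : V) : Type _ :=
  {c : Cls Ω u hu // b ∈ bcls Q p hu c}

theorem mem_bfix_transport {u b : V} (hu : Q u = 0) (g : eichGroup Q) {l : F} (hl : l ≠ 0)
    (hgu : act g u = l • u) {ω : Ω} (hb : b ∈ bfix Q p u ω) :
    l⁻¹ • act g b ∈ bfix Q p u (g • ω) := by
  have h := act_mem_bfix p g hu hb
  rw [hgu] at h
  have h2 := mem_bfix_smul p (show Q (l • u) = 0 by rw [quad_smul, hu, mul_zero]) (inv_ne_zero hl) h
  rwa [inv_smul_smul₀ hl] at h2

omit p [Fact p.Prime] [Algebra (ZMod p) F] in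
theorem clsSetoid_smul {u : V} (hu : Q u = 0) (g : eichGroup Q) {l : F} (hl : l ≠ 0)
    (hgu : act g u = l • u) {ω ω' : Ω} (h : clsSetoid (Ω := Ω) Q u hu ω ω') :
    clsSetoid (Ω := Ω) Q u hu (g • ω) (g • ω') := by
  obtain ⟨w, hw, rfl⟩ := h
  have h1 : l * pl u (act g w) = 0 := by
    rw [← smul_eq_mul, ← QuadraticMap.polar_smul_left, ← hgu, act_polar, hw]
  have h2 := (mul_eq_zero.1 h1).resolve_left hl
  refine ⟨l • act g w, by rw [QuadraticMap.polar_smul_right, h2, smul_zero], ?_⟩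
  rw [← eG_smul_left hu h2, ← hgu, ← mul_smul, ← eG_conj' g hu hw, mul_smul]

theorem mem_bcls_map {u b : V} (hu : Q u = 0) (g : eichGroup Q) {l : F} (hl : l ≠ 0)
    (hgu : act g u = l • u) (c : Cls Ω u hu) (hb : b ∈ bcls Q p hu c) :
    l⁻¹ • act g b ∈ bcls Q p hu
      (Quotient.map (g • ·) (fun _ _ h => clsSetoid_smul hu g hl hgu h) c) := by
  induction c using Quotient.inductionOn with | _ ω =>
  exact mem_bfix_transport p hu g hl hgu hb

theorem card_clsAt_le {u : V} [Finite Ω] (hu : Q u = 0) (g : eichGroup Q) {l : F} (hl : l ≠ 0)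
    (hgu : act g u = l • u) (b : V) :
    Nat.card (ClsAt Q Ω p hu b) ≤ Nat.card (ClsAt Q Ω p hu (l⁻¹ • act g b)) := by
  refine Nat.card_le_card_of_injective
    (fun c => ⟨_, mem_bcls_map p hu g hl hgu c.1 c.2⟩) ?_
  rintro ⟨c, hc⟩ ⟨c', hc'⟩ e
  refine Subtype.ext ?_
  have e' := congrArg Subtype.val e
  induction c using Quotient.inductionOn with | _ ω =>
  induction c' using Quotient.inductionOn with | _ ω' =>
  have hgu' : act g⁻¹ u = l⁻¹ • u := by
    have h := act_inv_act g u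
    rw [hgu] at h
    have h' : l • act g⁻¹ u = u := by rw [← map_smul]; exact h
    rw [← h', inv_smul_smul₀ hl, h']
  have h1 := clsSetoid_smul hu g⁻¹ (inv_ne_zero hl) hgu' (Quotient.exact e')
  simp only [inv_smul_smul] at h1
  exact Quotient.sound h1

variable [Fintype F] [FiniteDimensional F V] [Finite Ω]

/-- The number of radical orbits through a vector depends only on its value up to squares. -/
theorem card_clsAt_eq (hQ : PolarNondeg Q) (hn : 6 ≤ Module.finrank F V) {u b b' : V} (hu : Q u = 0)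
    (hu0 : u ≠ 0) (hb : pl u b = 0) (hb' : pl u b' = 0) (hbl : ∀ s : F, b ≠ s • u)
    (hbl' : ∀ s : F, b' ≠ s • u) {s : F} (hs : s ≠ 0) (hQb : Q b' = s * s * Q b) :
    Nat.card (ClsAt Q Ω p hu b) = Nat.card (ClsAt Q Ω p hu b') := by
  have key : ∀ {b b' : V} {s : F}, pl u b = 0 → pl u b' = 0 → (∀ s : F, b ≠ s • u) →
      (∀ s : F, b' ≠ s • u) → s ≠ 0 → Q b' = s * s * Q b →
      Nat.card (ClsAt Q Ω p hu b) ≤ Nat.card (ClsAt Q Ω p hu b') := by
    intro b b' s hb hb' hbl hbl' hs hQb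
    obtain ⟨g, hgu, hgb⟩ := exists_move_perp hQ hn hu
      (show Q (s⁻¹ • u) = 0 by rw [quad_smul, hu, mul_zero]) hu0
      (smul_ne_zero (inv_ne_zero hs) hu0) hb
      (show pl (s⁻¹ • u) (s⁻¹ • b') = 0 by
        rw [QuadraticMap.polar_smul_left, QuadraticMap.polar_smul_right, hb', smul_zero, smul_zero])
      hbl (fun t e => hbl' t (by
        rw [smul_comm] at e
        exact smul_right_injective _ (inv_ne_zero hs) e))
      (by rw [quad_smul, hQb]; field_simp)
    refine (card_clsAt_le p hu g (inv_ne_zero hs) hgu b).trans (le_of_eq ?_)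
    rw [hgb, inv_inv, smul_inv_smul₀ hs]
  refine le_antisymm (key hb hb' hbl hbl' hs hQb) (key hb' hb hbl' hbl (inv_ne_zero hs) ?_)
  rw [hQb]; field_simp

variable [Finite V] [Module (ZMod p) V]

open scoped _root_.Classical in
/-- The radical orbits through the vectors of a set bound the number of points. -/
theorem sum_clsAt_le (hQ : PolarNondeg Q) {u : V} (hu : Q u = 0) (hu0 : u ≠ 0) {ι : Type*}
    [Fintype ι] (vec : ι → V) (hinj : Function.Injective vec) (hout : ∀ i, ∀ s : F, vec i ≠ s • u) :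
    (∑ i, Nat.card (ClsAt Q Ω p hu (vec i))) + Nat.card (Cls Ω u hu) * Fintype.card F ≤
      Nat.card Ω * Fintype.card F := by
  let _ : Fintype (Cls Ω u hu) := Fintype.ofFinite _
  rw [← Nat.card_eq_fintype_card (α := F), card_mul_eq_sum (Ω := Ω) p hQ hu hu0, ← Nat.card_sigma,
    ← Nat.card_sigma, ← Nat.card_prod, ← Nat.card_sum]
  have hsm : ∀ c : Cls Ω u hu, ∀ t : F, t • u ∈ bcls Q p hu c := fun c t => by
    induction c using Quotient.inductionOn with | _ ω => exact smul_self_mem_bfix p t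
  refine Nat.card_le_card_of_injective
    (fun x : (Σ i, ClsAt Q Ω p hu (vec i)) ⊕ (Cls Ω u hu × F) => match x with
      | Sum.inl y => (⟨y.2.1, vec y.1, y.2.2⟩ : Σ c, bcls Q p hu c)
      | Sum.inr y => ⟨y.1, y.2 • u, hsm y.1 y.2⟩) ?_
  rintro (⟨i, c, hc⟩ | ⟨c, t⟩) (⟨i', c', hc'⟩ | ⟨c', t'⟩) e
  · obtain rfl : c = c' := congrArg Sigma.fst e
    obtain rfl : i = i' := hinj (congrArg (fun s => (s.2 : V)) e)
    rfl
  · exact absurd (congrArg (fun s => (s.2 : V)) e) (hout i t')
  · exact absurd (congrArg (fun s => (s.2 : V)) e).symm (hout i' t)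
  · obtain rfl : c = c' := congrArg Sigma.fst e
    have h : t • u = t' • u := congrArg (fun s => (s.2 : V)) e
    obtain rfl : t = t' := smul_left_injective F hu0 h
    rfl

omit p [Fact p.Prime] [Algebra (ZMod p) F] [Module (ZMod p) V] in
/-- At least half of the non-zero scalars are squares. -/
theorem two_mul_card_squares :
    Fintype.card F - 1 ≤ 2 * Nat.card {x : F // x ≠ 0 ∧ ∃ t : F, x = t * t} := by
  classical
  let f : {t : F // t ≠ 0} → {x : F // x ≠ 0 ∧ ∃ t : F, x = t * t} :=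
    fun t => ⟨t.1 * t.1, mul_ne_zero t.2 t.2, t.1, rfl⟩
  have h := Finset.card_le_mul_card_image (f := f) (Finset.univ : Finset {t : F // t ≠ 0}) 2 (by
    rintro ⟨x, hx, t, rfl⟩ -
    have ht : t ≠ 0 := fun e => hx (by rw [e, zero_mul])
    refine le_trans (Finset.card_le_card (t := {⟨t, ht⟩, ⟨-t, neg_ne_zero.2 ht⟩}) ?_) Finset.card_le_two
    rintro ⟨a, ha⟩ hm
    have e : a * a = t * t := congrArg Subtype.val (Finset.mem_filter.1 hm).2
    rcases mul_self_eq_mul_self_iff.1 e with e | e <;> simp [e])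
  rw [Finset.card_univ, Fintype.card_subtype_compl, Fintype.card_subtype_eq] at h
  refine h.trans (Nat.mul_le_mul_left _ ?_)
  rw [Nat.card_eq_fintype_card]
  exact Finset.card_le_univ _

variable (Q) in
/-- Vectors with a given value up to squares. -/
def lvlSet (c : F) : Set V := {x | ∃ t : F, t ≠ 0 ∧ Q x = t * t * c}

omit p [Fact p.Prime] [Algebra (ZMod p) F] [Module (ZMod p) V] in
theorem card_lvlSet_ge {a a' : V} (h : SingPair Q a a') {c : F} (hc : c ≠ 0) :
    Nat.card {x : F // x ≠ 0 ∧ ∃ t : F, x = t * t} * ((Fintype.card F - 1) *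
      Fintype.card F ^ (Module.finrank F V - 2)) ≤ Nat.card (lvlSet Q c) := by
  classical
  have hF : Nat.card {t : F // t ≠ 0} = Fintype.card F - 1 := by
    rw [Nat.card_eq_fintype_card, Fintype.card_subtype_compl, Fintype.card_subtype_eq]
  rw [← hF, ← card_side h, ← Nat.card_prod, ← Nat.card_prod]
  let φ : {x : F // x ≠ 0 ∧ ∃ t : F, x = t * t} × {t : F // t ≠ 0} × side Q a a' → lvlSet Q c :=
    fun y => ⟨pairCoord h ((y.2.1.1, (y.1.1 * c - Q (y.2.2 : V)) / y.2.1.1), y.2.2), by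
      obtain ⟨t, ht⟩ := y.1.2.2
      refine ⟨t, fun e => y.1.2.1 (by rw [ht, e, zero_mul]), ?_⟩
      rw [quad_pairCoord, hypSum_apply]
      simp [mul_div_cancel₀ _ y.2.1.2, ht]⟩
  refine Nat.card_le_card_of_injective φ ?_
  rintro ⟨⟨x, hx⟩, ⟨α, hα⟩, w⟩ ⟨⟨x', hx'⟩, ⟨α', hα'⟩, w'⟩ e
  have e0 : pairCoord h ((α, (x * c - Q (w : V)) / α), w) =
      pairCoord h ((α', (x' * c - Q (w' : V)) / α'), w') := congrArg (fun y : lvlSet Q c => (y : V)) e
  have e1 := (pairCoord h).injective e0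
  simp only [Prod.mk.injEq] at e1
  obtain ⟨⟨rfl, e2⟩, rfl⟩ := e1
  rw [div_left_inj' hα, sub_left_inj, mul_left_inj' hc] at e2
  subst e2
  rfl

end CfsgLib.OrthMinIndex
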