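/-
An anisotropic vector in the dual of a radical fixer: the perfect group of its stabilizer, and the
two possibilities for the fixer.
-/
import Cfsg.Agent.Lib.OrthMinIndex.Classes

set_option autoImplicit false

namespace CfsgLib.OrthMinIndex

open CfsgLib.Classical

variable {F V : Type*} [Field F] [AddCommGroup V] [Module F V] {Q : QuadraticForm F V}

local notation "pl" => QuadraticMap.polar Q

variable (Q) in
/-- The vectors orthogonal to `u`, `z` and `b`. -/
noncomputable def mid (u z b : V) : Submodule F V :=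
  side Q u z ⊓ LinearMap.ker (QuadraticMap.polarBilin Q b)

theorem mem_mid {u z b x : V} : x ∈ mid Q u z b ↔ pl u x = 0 ∧ pl z x = 0 ∧ pl b x = 0 := by
  rw [mid, Submodule.mem_inf, mem_side, LinearMap.mem_ker, QuadraticMap.polarBilin_apply_apply, and_assoc]

variable (Q) in
/-- The group generated by the transformations inside a subspace. -/
noncomputable def rootGroup (W : Submodule F V) : Subgroup (eichGroup Q) :=
  Subgroup.closure {g | ∃ s ∈ W, ∃ c ∈ W, Q s = 0 ∧ pl s c = 0 ∧ g = eG Q s c}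

theorem eG_mem_rootGroup {W : Submodule F V} {s c : V} (hs : s ∈ W) (hc : c ∈ W) (hQ : Q s = 0)
    (h : pl s c = 0) : eG Q s c ∈ rootGroup Q W :=
  Subgroup.subset_closure ⟨s, hs, c, hc, hQ, h, rfl⟩

theorem rootGroup_fix {W : Submodule F V} {x : V} (hx : ∀ w ∈ W, pl x w = 0) {g : eichGroup Q}
    (hg : g ∈ rootGroup Q W) : act g x = x := by
  induction hg using Subgroup.closure_induction with
  | mem g hg =>
    obtain ⟨s, hs, c, hc, hQs, hsc, rfl⟩ := hg
    exact eG_fix_of hQs hsc (hx s hs) (hx c hc)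
  | one => exact act_one x
  | mul a b _ _ ha hb => rw [act_mul, hb, ha]
  | inv a _ ha => conv_lhs => rw [← ha, act_inv_act]

theorem act_mem_mid {u z b : V} {g : eichGroup Q} (hu : act g u = u) (hz : act g z = z)
    (hb : act g b = b) {x : V} (hx : x ∈ mid Q u z b) : act g x ∈ mid Q u z b := by
  rw [mem_mid] at hx ⊢
  refine ⟨?_, ?_, ?_⟩
  · rw [← hu, act_polar, hx.1]
  · rw [← hz, act_polar, hx.2.1]
  · rw [← hb, act_polar, hx.2.2]

variable [Fintype F] [FiniteDimensional F V]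

/-- The data of an anisotropic vector in the complement of a hyperbolic pair. -/
structure MidData (Q : QuadraticForm F V) (u z b : V) : Prop where
  nondeg : PolarNondeg Q
  dim : 7 ≤ Module.finrank F V
  pair : SingPair Q u z
  ub : QuadraticMap.polar Q u b = 0
  zb : QuadraticMap.polar Q z b = 0
  aniso : Q b ≠ 0

namespace MidData

variable {u z b : V} (h : MidData Q u z b)
include h

omit [Fintype F] in
theorem b_mem : b ∈ side Q u z := mem_side.2 ⟨h.ub, h.zb⟩

omit [Fintype F] in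
theorem b_out (s : F) : b ≠ s • u := fun e => h.aniso (by rw [e, quad_smul, h.pair.qu, mul_zero])

omit [Fintype F] in
theorem perp_mid {w : V} (hw : w ∈ side Q u z) (hperp : ∀ y ∈ mid Q u z b, pl w y = 0) :
    ∃ t : F, w = t • b := by
  by_contra hc
  push Not at hc
  obtain ⟨y, hy1, hy2⟩ := exists_polar_sep (Q.comp (side Q u z).subtype)
    (polarNondeg_side h.nondeg h.pair) (a := ⟨w, hw⟩) (b := ⟨b, h.b_mem⟩)
    (fun s e => hc s (congrArg Subtype.val e).symm)
  obtain ⟨h1, h2⟩ := mem_side.1 y.2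
  exact hy2 (hperp y.1 (mem_mid.2 ⟨h1, h2, hy1⟩))

omit [Fintype F] in
theorem perp_mid_pair {s s' : V} (hp : SingPair Q s s') (hs : s ∈ mid Q u z b)
    (hs' : s' ∈ mid Q u z b) {w : V} (hw : w ∈ side Q u z) (h1 : pl w s = 0) (h2 : pl w s' = 0)
    (hperp : ∀ y ∈ mid Q u z b, pl s y = 0 → pl s' y = 0 → pl w y = 0) : ∃ t : F, w = t • b := by
  refine h.perp_mid hw fun y hy => ?_
  obtain ⟨y', hy', e⟩ := exists_side_decomp hp y
  obtain ⟨h3, h4⟩ := mem_side.1 hy'
  have hmem : y' ∈ mid Q u z b := by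
    rw [← sub_eq_iff_eq_add'.2 e, ← sub_sub]
    exact Submodule.sub_mem _ (Submodule.sub_mem _ hy (Submodule.smul_mem _ _ hs)) (Submodule.smul_mem _ _ hs')
  rw [e, QuadraticMap.polar_add_right, QuadraticMap.polar_add_right, QuadraticMap.polar_smul_right,
    QuadraticMap.polar_smul_right, h1, h2, hperp y' hmem h3 h4]
  simp

theorem exists_singular_mid : ∃ s ∈ mid Q u z b, Q s = 0 ∧ s ≠ 0 := by
  have hQW := polarNondeg_side h.nondeg h.pair
  have hd := finrank_side h.pair
  have hdim := h.dim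
  obtain ⟨a, ha0, ha⟩ := exists_singular _ hQW (by omega)
  obtain ⟨a', hp⟩ := exists_pair hQW ha ha0
  have hd' := finrank_side hp
  obtain ⟨c, hc0, hc⟩ := exists_singular _ (polarNondeg_side hQW hp) (by omega)
  have hac : pl (a : V) ((c : side Q u z) : V) = 0 := (mem_side.1 c.2).1
  have ha' : Q (a : V) = 0 := ha
  have hc' : Q ((c : side Q u z) : V) = 0 := hc
  by_cases hba : pl b (a : V) = 0
  · exact ⟨a.1, mem_mid.2 ⟨(mem_side.1 a.2).1, (mem_side.1 a.2).2, hba⟩, ha',
      fun e => ha0 (Subtype.ext e)⟩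
  set x : side Q u z := pl b ((c : side Q u z) : V) • a + (-pl b (a : V)) • (c : side Q u z) with hx
  refine ⟨x.1, mem_mid.2 ⟨(mem_side.1 x.2).1, (mem_side.1 x.2).2, ?_⟩, ?_, fun e => ?_⟩
  · simp [hx]; ring
  · simp [hx, quad_add, quad_smul, ha', hc', hac]
  · have e' : x = 0 := Subtype.ext e
    have h1 := congrArg (fun v => QuadraticMap.polar (Q.comp (side Q u z).subtype) a' v) e'
    simp only [hx, QuadraticMap.polar_add_right, QuadraticMap.polar_smul_right, hp.zu, (mem_side.1 c.2).2,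
      QuadraticMap.polar_zero_right, smul_eq_mul, mul_one, mul_zero, add_zero] at h1
    rw [hx, h1, zero_smul, zero_add, smul_eq_zero] at e'
    rcases e' with e' | e'
    · exact hba (neg_eq_zero.1 e')
    · exact hc0 (Subtype.ext e')

omit [Fintype F] in
theorem exists_partner_mid {s : V} (hs : s ∈ mid Q u z b) (hQs : Q s = 0) (hs0 : s ≠ 0) :
    ∃ s' ∈ mid Q u z b, SingPair Q s s' := by
  obtain ⟨h1, h2, h3⟩ := mem_mid.1 hs
  obtain ⟨y, hy, hsy⟩ : ∃ y ∈ mid Q u z b, pl s y ≠ 0 := by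
    by_contra hc
    push Not at hc
    obtain ⟨t, rfl⟩ := h.perp_mid (mem_side.2 ⟨h1, h2⟩) hc
    rw [quad_smul] at hQs
    have := (mul_eq_zero.1 hQs).resolve_right h.aniso
    exact hs0 (by rw [mul_self_eq_zero.1 this, zero_smul])
  set y' := (pl s y)⁻¹ • y
  have e1 : pl s y' = 1 := by rw [QuadraticMap.polar_smul_right, smul_eq_mul, inv_mul_cancel₀ hsy]
  have hy' : y' ∈ mid Q u z b := Submodule.smul_mem _ _ hy
  clear_value y'
  refine ⟨y' + (-Q y') • s, Submodule.add_mem _ hy' (Submodule.smul_mem _ _ hs), hQs, ?_, ?_⟩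
  · rw [quad_add, quad_smul, hQs, QuadraticMap.polar_smul_right, QuadraticMap.polar_comm Q y' s, e1]; simp
  · rw [QuadraticMap.polar_add_right, QuadraticMap.polar_smul_right, quad_polar_self, hQs, e1]; simp

theorem exists_singular_mid_polar {w : V} (hw : w ∈ side Q u z) (hwb : ∀ t : F, w ≠ t • b) :
    ∃ s ∈ mid Q u z b, Q s = 0 ∧ pl w s ≠ 0 := by
  obtain ⟨s₀, hs₀, hQs₀, hs₀0⟩ := h.exists_singular_mid
  obtain ⟨s₁, hs₁, hp⟩ := h.exists_partner_mid hs₀ hQs₀ hs₀0
  by_cases h0 : pl w s₀ = 0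
  swap
  · exact ⟨s₀, hs₀, hQs₀, h0⟩
  by_cases h1 : pl w s₁ = 0
  swap
  · exact ⟨s₁, hs₁, hp.qz, h1⟩
  obtain ⟨y, hy, hsy, hsy', hwy⟩ : ∃ y ∈ mid Q u z b, pl s₀ y = 0 ∧ pl s₁ y = 0 ∧ pl w y ≠ 0 := by
    by_contra hc
    push Not at hc
    obtain ⟨t, ht⟩ := h.perp_mid_pair hp hs₀ hs₁ hw h0 h1 hc
    exact hwb t ht
  refine ⟨s₁ + y + (-Q y) • s₀, Submodule.add_mem _ (Submodule.add_mem _ hs₁ hy)
    (Submodule.smul_mem _ _ hs₀), ?_, ?_⟩
  · simp [quad_add, quad_smul, hQs₀, hp.qz, hsy', QuadraticMap.polar_add_left, QuadraticMap.polar_smul_right,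
      hp.zu, QuadraticMap.polar_comm Q y s₀, hsy]
  · simp [QuadraticMap.polar_add_right, QuadraticMap.polar_smul_right, h0, h1, hwy]

theorem exists_split_aniso (hq : 3 ≤ Fintype.card F) {s s' c : V} (hp : SingPair Q s s')
    (hs : s ∈ mid Q u z b) (hs' : s' ∈ mid Q u z b) (hc : c ∈ mid Q u z b) (hcs : pl s c = 0)
    (hcs' : pl s' c = 0) :
    ∃ e₁ e₂, c = e₁ + e₂ ∧ ∀ e, (e = e₁ ∨ e = e₂) →
      e ∈ mid Q u z b ∧ pl s e = 0 ∧ pl s' e = 0 ∧ (e = 0 ∨ Q e ≠ 0) := by
  classical
  by_cases hQc : Q c = 0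
  swap
  · refine ⟨c, 0, (add_zero c).symm, ?_⟩
    rintro e (rfl | rfl)
    · exact ⟨hc, hcs, hcs', Or.inr hQc⟩
    · exact ⟨zero_mem _, by simp, by simp, Or.inl rfl⟩
  by_cases hc0 : c = 0
  · refine ⟨0, 0, by rw [hc0, add_zero], ?_⟩
    rintro e (rfl | rfl) <;> exact ⟨zero_mem _, by simp, by simp, Or.inl rfl⟩
  obtain ⟨h1, h2, h3⟩ := mem_mid.1 hc
  obtain ⟨y, hy, hsy, hsy', hcy⟩ : ∃ y ∈ mid Q u z b, pl s y = 0 ∧ pl s' y = 0 ∧ pl c y ≠ 0 := by
    by_contra hcon
    push Not at hcon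
    obtain ⟨t, rfl⟩ := h.perp_mid_pair hp hs hs' (mem_side.2 ⟨h1, h2⟩)
      (by rw [QuadraticMap.polar_comm]; exact hcs) (by rw [QuadraticMap.polar_comm]; exact hcs') hcon
    rw [quad_smul] at hQc
    exact hc0 (by rw [mul_self_eq_zero.1 ((mul_eq_zero.1 hQc).resolve_right h.aniso), zero_smul])
  obtain ⟨e, he, hse, hse', hQe⟩ : ∃ e ∈ mid Q u z b, pl s e = 0 ∧ pl s' e = 0 ∧ Q e ≠ 0 := by
    by_cases hQy : Q y = 0
    · exact ⟨y + c, Submodule.add_mem _ hy hc, by simp [hsy, hcs], by simp [hsy', hcs'], by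
        rw [quad_add, hQy, hQc, zero_add, zero_add, QuadraticMap.polar_comm]; exact hcy⟩
    · exact ⟨y, hy, hsy, hsy', hQy⟩
  obtain ⟨t, ht⟩ : ∃ t : F, t ∉ ({0, pl c e / Q e} : Finset F) := by
    by_contra hcon
    push Not at hcon
    have := (Finset.card_le_card (fun x (_ : x ∈ Finset.univ) => hcon x)).trans Finset.card_le_two
    rw [Finset.card_univ] at this
    omega
  simp only [Finset.mem_insert, Finset.mem_singleton, not_or] at ht
  refine ⟨t • e, c - t • e, by abel, ?_⟩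
  rintro e' (rfl | rfl)
  · refine ⟨Submodule.smul_mem _ _ he, by simp [hse], by simp [hse'], Or.inr ?_⟩
    rw [quad_smul]; exact mul_ne_zero (mul_ne_zero ht.1 ht.1) hQe
  · refine ⟨Submodule.sub_mem _ hc (Submodule.smul_mem _ _ he), by simp [hse, hcs], by simp [hse', hcs'],
      Or.inr ?_⟩
    rw [quad_sub, quad_smul, hQc, zero_add, QuadraticMap.polar_smul_right, smul_eq_mul,
      show t * t * Q e - t * pl c e = t * (t * Q e - pl c e) by ring]
    exact mul_ne_zero ht.1 (sub_ne_zero.2 fun e' => ht.2 (by rw [eq_div_iff hQe, e']))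

/-- The group of the stabilizer is perfect. -/
theorem rootGroup_perfect (hq : 4 ≤ Fintype.card F) :
    rootGroup Q (mid Q u z b) ≤ ⁅rootGroup Q (mid Q u z b), rootGroup Q (mid Q u z b)⁆ := by
  refine (Subgroup.closure_le _).2 ?_
  rintro _ ⟨s, hs, c, hc, hQs, hsc, rfl⟩
  by_cases hs0 : s = 0
  · have : eG Q s c = 1 := Subtype.ext (qAut_ext fun x => by
      change act (eG Q s c) x = x
      rw [eG_apply hQs hsc]
      simp [hs0])
    rw [this]
    exact one_mem _
  obtain ⟨s', hs', hp⟩ := h.exists_partner_mid hs hQs hs0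
  set c₀ := c - pl c s' • s with hc₀
  have hc₀m : c₀ ∈ mid Q u z b := Submodule.sub_mem _ hc (Submodule.smul_mem _ _ hs)
  have hc₀s : pl s c₀ = 0 := by simp [hc₀, hsc, hp.uu]
  have hc₀s' : pl s' c₀ = 0 := by simp [hc₀, hp.zu, QuadraticMap.polar_comm Q s' c]
  have e0 : eG Q s c = eG Q s c₀ := by
    rw [hc₀, sub_eq_add_neg, ← neg_smul, eG_add_self hQs hsc]
  obtain ⟨e₁, e₂, ec, hE⟩ := h.exists_split_aniso (by omega) hp hs hs' hc₀m hc₀s hc₀s'
  obtain ⟨hm1, h11, h12, h13⟩ := hE e₁ (Or.inl rfl)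
  obtain ⟨hm2, h21, h22, h23⟩ := hE e₂ (Or.inr rfl)
  have key : ∀ e ∈ mid Q u z b, pl s e = 0 → pl s' e = 0 → (e = 0 ∨ Q e ≠ 0) →
      eG Q s e ∈ ⁅rootGroup Q (mid Q u z b), rootGroup Q (mid Q u z b)⁆ := by
    intro e he hse hse' hcase
    rcases hcase with rfl | hQe
    · rw [eG_zero hQs]; exact one_mem _
    · have := eG_mem_commutator hq hp hse hse' hQe (K := rootGroup Q (mid Q u z b))
        (fun k => eG_mem_rootGroup hs (Submodule.smul_mem _ _ he) hQs (by simp [hse]))
        (fun k => eG_mem_rootGroup hs' (Submodule.smul_mem _ _ he) hp.qz (by simp [hse'])) 1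
      rwa [one_smul] at this
  rw [e0, ec, ← eG_mul hQs h11 h21]
  exact mul_mem (key e₁ hm1 h11 h12 h13) (key e₂ hm2 h21 h22 h23)

omit [Fintype F] in
theorem root_fix {g : eichGroup Q} (hg : g ∈ rootGroup Q (mid Q u z b)) :
    act g u = u ∧ act g z = z ∧ act g b = b :=
  ⟨rootGroup_fix (fun _ hw => (mem_mid.1 hw).1) hg, rootGroup_fix (fun _ hw => (mem_mid.1 hw).2.1) hg,
    rootGroup_fix (fun _ hw => (mem_mid.1 hw).2.2) hg⟩

end MidData

variable {Ω : Type*} [MulAction (eichGroup Q) Ω] [Finite Ω] [Finite V]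
variable (p : ℕ) [Fact p.Prime] [Algebra (ZMod p) F] [Module (ZMod p) V]

/-- Few radical orbits pass through an anisotropic vector. -/
theorem card_clsAt_le_four (hQ : PolarNondeg Q) (hn : 7 ≤ Module.finrank F V) (hq : 4 ≤ Fintype.card F)
    (hN : Nat.card Ω * (Fintype.card F - 1) < singCount Q) {u b : V} (hu : Q u = 0) (hu0 : u ≠ 0)
    (hb : pl u b = 0) (hQb : Q b ≠ 0) : Nat.card (ClsAt Q Ω p hu b) ≤ 4 := by
  classical
  by_contra hlt
  push Not at hlt
  obtain ⟨z, hp⟩ := exists_pair hQ hu hu0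
  have hQW := polarNondeg_side hQ hp
  have hd := finrank_side hp
  obtain ⟨a, ha0, ha⟩ := exists_singular _ hQW (by omega)
  obtain ⟨a', hpa⟩ := exists_pair hQW ha ha0
  set q := Fintype.card F
  set W := side Q u z
  set Sq := Nat.card {x : F // x ≠ 0 ∧ ∃ t : F, x = t * t}
  have hlvl := card_lvlSet_ge hpa hQb
  rw [show Module.finrank F W - 2 = Module.finrank F V - 4 by omega] at hlvl
  have hbl : ∀ s : F, b ≠ s • u := fun s e => hQb (by rw [e, quad_smul, hu, mul_zero])
  let vec : F × lvlSet (Q.comp W.subtype) (Q b) → V := fun x => x.1 • u + ((x.2.1 : W) : V)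
  have hout : ∀ i, ∀ s : F, vec i ≠ s • u := by
    rintro ⟨t, w, r, hr, hw⟩ s e
    have h1 := congrArg Q e
    rw [(perp_coord hp t w).2, quad_smul, hu, mul_zero] at h1
    change Q (w : V) = r * r * Q b at hw
    rw [h1] at hw
    exact mul_ne_zero (mul_ne_zero hr hr) hQb hw.symm
  have hinj : Function.Injective vec := by
    rintro ⟨t, w⟩ ⟨t', w'⟩ e
    have e' : t • u + ((w.1 : W) : V) = t' • u + ((w'.1 : W) : V) := e
    have h1 := congrArg (fun v => pl z v) e'
    simp only [QuadraticMap.polar_add_right, QuadraticMap.polar_smul_right, hp.zu, (mem_side.1 w.1.2).2,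
      (mem_side.1 w'.1.2).2, smul_eq_mul, mul_one, add_zero] at h1
    subst h1
    rw [add_left_cancel_iff] at e'
    obtain rfl : w = w' := Subtype.ext (Subtype.ext e')
    rfl
  let _ : Fintype (F × lvlSet (Q.comp W.subtype) (Q b)) := Fintype.ofFinite _
  have hsum := sum_clsAt_le (Ω := Ω) p hQ hu hu0 vec hinj hout
  rw [Finset.sum_congr rfl fun i _ => show Nat.card (ClsAt Q Ω p hu (vec i)) = Nat.card (ClsAt Q Ω p hu b) by
    obtain ⟨r, hr, hw⟩ := i.2.2
    exact (card_clsAt_eq p hQ (by omega) hu hu0 hb (perp_coord hp i.1 i.2.1).1 hbl (hout i) hr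
      ((perp_coord hp i.1 i.2.1).2.trans hw)).symm,
    Finset.sum_const, smul_eq_mul, Finset.card_univ, ← Nat.card_eq_fintype_card, Nat.card_prod,
    Nat.card_eq_fintype_card (α := F)] at hsum
  set L := Nat.card (lvlSet (Q.comp W.subtype) (Q b))
  set N := Nat.card Ω
  set m := Module.finrank F V - 4
  have h1 : 5 * (Sq * ((q - 1) * q ^ m)) ≤ N := by
    refine le_of_mul_le_mul_left ?_ (show 0 < q by omega)
    calc q * (5 * (Sq * ((q - 1) * q ^ m))) ≤ q * (Nat.card (ClsAt Q Ω p hu b) * L) :=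
          Nat.mul_le_mul_left _ (Nat.mul_le_mul hlt hlvl)
      _ = q * L * Nat.card (ClsAt Q Ω p hu b) := by ring
      _ ≤ N * q := (Nat.le_add_right _ _).trans hsum
      _ = q * N := mul_comm _ _
  have hS : singCount Q + 1 ≤ q ^ m * ((q - 1) * q ^ 2 + q * (2 * q - 1)) := by
    have h2 := singCount_eq hp
    have h3 := singCount_upper hpa
    rw [show Module.finrank F W - 2 = m by omega] at h3
    rw [show Module.finrank F V - 2 = m + 2 by omega, pow_add] at h2
    rw [h2]
    refine le_trans (Nat.add_le_add_left (Nat.mul_le_mul_left _ h3) _) (le_of_eq ?_)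
    obtain ⟨r, hr⟩ : ∃ r, q = r + 1 := ⟨q - 1, by omega⟩
    change (q - 1) * (q ^ m * q ^ 2) + q * ((q - 1) * q ^ m + q * q ^ m) = _
    rw [show 2 * q - 1 = q - 1 + q by omega]
    ring
  have hSq := two_mul_card_squares (F := F)
  change q - 1 ≤ 2 * Sq at hSq
  have hnum : (q - 1) * q ^ 2 + q * (2 * q - 1) ≤ 5 * ((q - 1) * (q - 1)) * Sq := by
    rcases Nat.lt_or_ge q 5 with h5 | h5
    · have : q = 4 := by omega
      rw [this] at hSq ⊢
      omega
    · obtain ⟨j, hj⟩ : ∃ j, q = j + 5 := ⟨q - 5, by omega⟩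
      rw [show q - 1 = j + 4 by rw [hj]; omega] at hSq
      rw [show q - 1 = j + 4 by rw [hj]; omega, hj, show 2 * (j + 5) - 1 = 2 * j + 9 by omega]
      refine le_of_mul_le_mul_left ?_ (show 0 < 2 by omega)
      calc 2 * ((j + 4) * (j + 5) ^ 2 + (j + 5) * (2 * j + 9))
          ≤ 5 * ((j + 4) * (j + 4)) * (j + 4) := by nlinarith
        _ ≤ 5 * ((j + 4) * (j + 4)) * (2 * Sq) := Nat.mul_le_mul_left _ hSq
        _ = _ := by ring
  have h4 : singCount Q + 1 ≤ N * (q - 1) := by
    calc singCount Q + 1 ≤ q ^ m * ((q - 1) * q ^ 2 + q * (2 * q - 1)) := hS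
      _ ≤ q ^ m * (5 * ((q - 1) * (q - 1)) * Sq) := Nat.mul_le_mul_left _ hnum
      _ = 5 * (Sq * ((q - 1) * q ^ m)) * (q - 1) := by ring
      _ ≤ _ := Nat.mul_le_mul_right _ h1
  change N * (q - 1) < _ at hN
  omega

variable (Q) in
/-- The radical acts regularly on the orbit of the point. -/
def IsReg (u : V) (ω : Ω) : Prop := ∀ a ∈ afix Q u ω, ∃ t : F, a = t • u

namespace MidData

variable {u z b : V} (h : MidData Q u z b)
include h

/-- The perfect group keeps the radical orbit of the point. -/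
theorem root_cls (hq : 4 ≤ Fintype.card F) (hN : Nat.card Ω * (Fintype.card F - 1) < singCount Q)
    {ω : Ω} (hb : b ∈ bfix Q p u ω) {g : eichGroup Q} (hg : g ∈ rootGroup Q (mid Q u z b)) :
    ∃ w, pl u w = 0 ∧ g • ω = eG Q u w • ω := by
  have hu := h.pair.qu
  let Γ : Subgroup (eichGroup Q) :=
    { carrier := {g | act g u = u ∧ act g b = b}
      one_mem' := ⟨act_one u, act_one b⟩
      mul_mem' := fun {x y} hx hy => ⟨by rw [act_mul, hy.1, hx.1], by rw [act_mul, hy.2, hx.2]⟩
      inv_mem' := fun {x} hx => ⟨by conv_lhs => rw [← hx.1, act_inv_act],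
        by conv_lhs => rw [← hx.2, act_inv_act]⟩ }
  have hΓ : ∀ g : Γ, act g.1 u = (1 : F) • u := fun g => by rw [one_smul]; exact g.2.1
  let mp : Γ → Cls Ω u hu → Cls Ω u hu := fun g =>
    Quotient.map (g.1 • ·) (fun _ _ h => clsSetoid_smul hu g.1 one_ne_zero (hΓ g) h)
  have hmap : ∀ (g : Γ) (c : ClsAt Q Ω p hu b), b ∈ bcls Q p hu (mp g c.1) := by
    intro g c
    have h1 := mem_bcls_map p hu g.1 one_ne_zero (hΓ g) c.1 c.2
    rwa [inv_one, one_smul, g.2.2] at h1
  have hone : ∀ c : Cls Ω u hu, mp 1 c = c := fun c => by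
    induction c using Quotient.inductionOn with | _ ω => exact congrArg _ (one_smul _ ω)
  have hmul : ∀ (g g' : Γ) (c : Cls Ω u hu), mp (g * g') c = mp g (mp g' c) := fun g g' c => by
    induction c using Quotient.inductionOn with | _ ω => exact congrArg _ (mul_smul g.1 g'.1 ω)
  let _ : MulAction Γ (ClsAt Q Ω p hu b) :=
    { smul := fun g c => ⟨_, hmap g c⟩
      one_smul := fun c => Subtype.ext (hone c.1)
      mul_smul := fun g g' c => Subtype.ext (hmul g g' c.1) }
  have hle : rootGroup Q (mid Q u z b) ≤ Γ := fun x hx => ⟨(h.root_fix hx).1, (h.root_fix hx).2.2⟩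
  have hperf : (rootGroup Q (mid Q u z b)).subgroupOf Γ ≤
      ⁅(rootGroup Q (mid Q u z b)).subgroupOf Γ, (rootGroup Q (mid Q u z b)).subgroupOf Γ⁆ := by
    rw [← Subgroup.map_le_map_iff_of_injective Γ.subtype_injective, Subgroup.map_commutator,
      Subgroup.subgroupOf_map_subtype, inf_eq_left.2 hle]
    exact h.rootGroup_perfect hq
  have h1 := perfect_fix_small (G := Γ) (X := ClsAt Q Ω p hu b)
    (card_clsAt_le_four p h.nondeg h.dim hq hN hu h.pair.ne_zero h.ub h.aniso)
    _ hperf (g := ⟨g, hle hg⟩) hg ⟨Quotient.mk (clsSetoid Q u hu) ω, hb⟩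
  obtain ⟨w, hw, e⟩ := (clsSetoid (Ω := Ω) Q u hu).symm (Quotient.exact (congrArg Subtype.val h1))
  exact ⟨w, hw, e.symm⟩

theorem root_bfix (hq : 4 ≤ Fintype.card F) (hN : Nat.card Ω * (Fintype.card F - 1) < singCount Q)
    {ω : Ω} (hb : b ∈ bfix Q p u ω) {g : eichGroup Q} (hg : g ∈ rootGroup Q (mid Q u z b)) {y : V}
    (hy : y ∈ bfix Q p u ω) : act g y ∈ bfix Q p u ω := by
  obtain ⟨w, hw, e⟩ := h.root_cls p hq hN hb hg
  have h1 := act_mem_bfix p g h.pair.qu hy
  rwa [(h.root_fix hg).1, e, bfix_eG p h.pair.qu hw] at h1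

/-- A stable group with a vector outside the line of `b` has all of the middle. -/
theorem mid_le_stable {B : AddSubgroup V}
    (hB : ∀ g ∈ rootGroup Q (mid Q u z b), ∀ y ∈ B, act g y ∈ B) {yw : V} (hyw : yw ∈ side Q u z)
    (hywB : yw ∈ B) (hywb : ∀ t : F, yw ≠ t • b) : ∀ d ∈ mid Q u z b, d ∈ B := by
  classical
  have step : ∀ y ∈ side Q u z, y ∈ B → ∀ s ∈ mid Q u z b, Q s = 0 → pl y s ≠ 0 →
      (∀ k : F, k • s ∈ B) ∧ ∀ c ∈ mid Q u z b, pl s c = 0 → c ∈ B := by
    intro y _ hyB s hs hQs hys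
    have hs0 : s ≠ 0 := fun e => hys (by rw [e, QuadraticMap.polar_zero_right])
    set δ : V → V := fun c => pl y s • c - (pl y c + Q c * pl y s) • s
    have hδ : ∀ c ∈ mid Q u z b, pl s c = 0 → δ c ∈ B := by
      intro c hc hsc
      have h1 := hB _ (eG_mem_rootGroup hs hc hQs hsc) y hyB
      rw [eG_apply hQs hsc] at h1
      have h2 := B.sub_mem h1 hyB
      rwa [show y + pl y s • c - (pl y c + Q c * pl y s) • s - y = δ c by simp only [δ]; abel] at h2
    obtain ⟨s', hs', hp⟩ := h.exists_partner_mid hs hQs hs0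
    obtain ⟨c₁, hc₁, hsc₁, c₂, hc₂, hsc₂, hcc⟩ : ∃ c₁ ∈ mid Q u z b, pl s c₁ = 0 ∧
        ∃ c₂ ∈ mid Q u z b, pl s c₂ = 0 ∧ pl c₁ c₂ ≠ 0 := by
      by_contra hcon
      push Not at hcon
      have hline : ∀ c ∈ mid Q u z b, pl s c = 0 → pl s' c = 0 → ∃ t : F, c = t • b := fun c hc h1 h2 => by
        obtain ⟨g1, g2, -⟩ := mem_mid.1 hc
        exact h.perp_mid_pair hp hs hs' (mem_side.2 ⟨g1, g2⟩) (by rw [QuadraticMap.polar_comm]; exact h1)
          (by rw [QuadraticMap.polar_comm]; exact h2) fun y hy h3 _ => hcon c hc h1 y hy h3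
      -- the middle would be too small
      let L : mid Q u z b →ₗ[F] F × F :=
        ((QuadraticMap.polarBilin Q s).prod (QuadraticMap.polarBilin Q s')).comp (mid Q u z b).subtype
      have h1 := LinearMap.finrank_range_add_finrank_ker L
      have h2 := Submodule.finrank_le (LinearMap.range L)
      rw [Module.finrank_prod, Module.finrank_self] at h2
      have h3 : Module.finrank F (LinearMap.ker L) ≤ 1 := by
        have hle : (LinearMap.ker L).map (mid Q u z b).subtype ≤ Submodule.span F {b} := by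
          rintro _ ⟨x, hx, rfl⟩
          obtain ⟨g1, g2⟩ := Prod.ext_iff.1 (LinearMap.mem_ker.1 hx)
          obtain ⟨t, ht⟩ := hline x.1 x.2 g1 g2
          exact Submodule.mem_span_singleton.2 ⟨t, ht.symm⟩
        have h4 := Submodule.finrank_mono hle
        rw [Submodule.finrank_map_subtype_eq, finrank_span_singleton (fun e => h.aniso (by rw [e, map_zero]))]
          at h4
        exact h4
      have hW := finrank_side h.pair
      have h5 : Module.finrank F (side Q u z) ≤ Module.finrank F (mid Q u z b) + 1 := by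
        let M : side Q u z →ₗ[F] F := (QuadraticMap.polarBilin Q b).comp (side Q u z).subtype
        have g1 := LinearMap.finrank_range_add_finrank_ker M
        have g2 := Submodule.finrank_le (LinearMap.range M)
        rw [Module.finrank_self] at g2
        have g3 : Module.finrank F (LinearMap.ker M) ≤ Module.finrank F (mid Q u z b) := by
          refine LinearMap.finrank_le_finrank_of_injective
            (f := LinearMap.codRestrict (mid Q u z b) ((side Q u z).subtype.comp (LinearMap.ker M).subtype)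
              fun x => mem_mid.2 ⟨(mem_side.1 x.1.2).1, (mem_side.1 x.1.2).2, LinearMap.mem_ker.1 x.2⟩) ?_
          intro x x' e
          exact Subtype.ext (Subtype.ext (congrArg (fun v : mid Q u z b => (v : V)) e))
        omega
      have := h.dim
      omega
    have hsB : ∀ k : F, k • s ∈ B := by
      intro k
      set r := -k / (pl c₁ c₂ * pl y s)
      have hr : pl s (r • c₂) = 0 := by rw [QuadraticMap.polar_smul_right, hsc₂, smul_zero]
      have h1 := B.sub_mem (B.sub_mem (hδ (c₁ + r • c₂) (Submodule.add_mem _ hc₁ (Submodule.smul_mem _ _ hc₂))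
        (by rw [QuadraticMap.polar_add_right, hsc₁, hr, add_zero])) (hδ c₁ hc₁ hsc₁))
        (hδ (r • c₂) (Submodule.smul_mem _ _ hc₂) hr)
      have e : δ (c₁ + r • c₂) - δ c₁ - δ (r • c₂) = k • s := by
        simp only [δ, quad_add, QuadraticMap.polar_add_right, QuadraticMap.polar_smul_right, smul_eq_mul]
        have hk : r * pl c₁ c₂ * pl y s = -k := by
          rw [mul_assoc]
          exact div_mul_cancel₀ _ (mul_ne_zero hcc hys)
        match_scalars <;> first | ring1 | linear_combination -hk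
      rwa [e] at h1
    refine ⟨hsB, fun c hc hsc => ?_⟩
    set r := (pl y s)⁻¹ • c
    have h1 := hδ r (Submodule.smul_mem _ _ hc) (by rw [QuadraticMap.polar_smul_right, hsc, smul_zero])
    have h2 := B.add_mem h1 (hsB (pl y r + Q r * pl y s))
    rwa [sub_add_cancel, show pl y s • r = c from smul_inv_smul₀ hys c] at h2
  obtain ⟨s, hs, hQs, hys⟩ := h.exists_singular_mid_polar hyw hywb
  obtain ⟨hsB, hcB⟩ := step yw hyw hywB s hs hQs hys
  have hs0 : s ≠ 0 := fun e => hys (by rw [e, QuadraticMap.polar_zero_right])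
  obtain ⟨s', hs', hp⟩ := h.exists_partner_mid hs hQs hs0
  obtain ⟨hs'B, -⟩ := step s (mid Q u z b |> fun _ => (Submodule.mem_inf.1 hs).1)
    (by simpa using hsB 1) s' hs' hp.qz (by rw [hp.uz]; exact one_ne_zero)
  intro d hd
  have h1 := hcB (d - pl d s • s') (Submodule.sub_mem _ hd (Submodule.smul_mem _ _ hs'))
    (by simp [hp.uz, QuadraticMap.polar_comm Q s d])
  have h2 := B.add_mem h1 (hs'B (pl d s))
  rwa [sub_add_cancel] at h2

/-- A vector of the dual outside the plane of `u` and `b` brings all of the middle. -/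
theorem mid_le_bfix (hq : 4 ≤ Fintype.card F) (hN : Nat.card Ω * (Fintype.card F - 1) < singCount Q)
    {ω : Ω} (hb : b ∈ bfix Q p u ω) {y : V} (hy : y ∈ bfix Q p u ω)
    (hout : ∀ k l : F, y ≠ k • u + l • b) : ∀ d ∈ mid Q u z b, d ∈ bfix Q p u ω := by
  obtain ⟨yw, hyw, e⟩ := exists_side_decomp h.pair y
  rw [QuadraticMap.polar_comm Q y u, bfix_polar p h.pair.qu hy, zero_smul, add_zero] at e
  have hywB : yw ∈ bfix Q p u ω := by
    rw [show yw = y - pl y z • u by rw [eq_sub_iff_add_eq, add_comm]; exact e.symm]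
    exact (bfix Q p u ω).sub_mem hy (smul_self_mem_bfix p _)
  have hywb : ∀ t : F, yw ≠ t • b := fun t ht => hout (pl y z) t (e.trans (by rw [ht]))
  exact h.mid_le_stable (fun g hg y hy => h.root_bfix p hq hN hb hg hy) hyw hywB hywb

/-- A fixer with an anisotropic vector in its dual is trivial or a hyperplane. -/
theorem dichotomy (hq : 4 ≤ Fintype.card F) (hN : Nat.card Ω * (Fintype.card F - 1) < singCount Q)
    {ω : Ω} (hb : b ∈ bfix Q p u ω) :
    IsReg Q u ω ∨ ∀ y ∈ bfix Q p u ω, ∃ k l : F, y = k • u + l • b := by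
  by_contra hc
  push Not at hc
  obtain ⟨hreg, y, hy, hout⟩ := hc
  apply hreg
  have hD := h.mid_le_bfix p hq hN hb hy hout
  obtain ⟨s, hs, hQs, hs0⟩ := h.exists_singular_mid
  obtain ⟨s', hs', hp⟩ := h.exists_partner_mid hs hQs hs0
  set b' := s + Q b • s' with hb'
  have hb'm : b' ∈ mid Q u z b := Submodule.add_mem _ hs (Submodule.smul_mem _ _ hs')
  have hQb' : Q b' = Q b := by
    simp [hb', quad_add, quad_smul, hQs, hp.qz, QuadraticMap.polar_smul_right, hp.uz]
  obtain ⟨g1, g2, g3⟩ := mem_mid.1 hb'm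
  have h' : MidData Q u z b' := ⟨h.nondeg, h.dim, h.pair, g1, g2, hQb'.symm ▸ h.aniso⟩
  have hD' := h'.mid_le_bfix p hq hN (hD b' hb'm) (hD s hs) (fun k l e => by
    have h1 := congrArg (fun v => pl z v) e
    simp only [QuadraticMap.polar_add_right, QuadraticMap.polar_smul_right, h.pair.zu, g2,
      (mem_mid.1 hs).2.1, smul_eq_mul, mul_one, mul_zero, add_zero] at h1
    have h2 := congrArg (fun v => pl s v) e
    have h3 := congrArg (fun v => pl s' v) e
    simp only [hb', QuadraticMap.polar_add_right, QuadraticMap.polar_smul_right, hp.uu, hp.zz, hp.zu, hp.uz,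
      ← h1, zero_smul, QuadraticMap.polar_zero_right, smul_eq_mul, mul_one, mul_zero, add_zero, zero_add] at h2 h3
    rw [← h3, one_mul] at h2
    exact h.aniso h2.symm)
  obtain ⟨x, hx, hbx⟩ : ∃ x ∈ mid Q u z b', pl b x ≠ 0 := by
    by_contra hcon
    push Not at hcon
    obtain ⟨t, ht⟩ := h'.perp_mid h.b_mem hcon
    have h2 := congrArg (fun v => pl s v) ht
    simp only [hb', QuadraticMap.polar_add_right, QuadraticMap.polar_smul_right, hp.uu, hp.uz,
      smul_eq_mul, mul_one, zero_add, QuadraticMap.polar_comm Q s b, (mem_mid.1 hs).2.2] at h2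
    rw [(mul_eq_zero.1 h2.symm).resolve_right h.aniso, zero_smul] at ht
    exact h.aniso (by rw [ht, map_zero])
  obtain ⟨f1, f2, -⟩ := mem_mid.1 hx
  have hall : ∀ (v : V) (t : F), pl u v = 0 → t • v ∈ bfix Q p u ω := by
    intro v t hv
    obtain ⟨w, hw, e⟩ := exists_side_decomp h.pair (t • v)
    rw [show pl (t • v) u = 0 by rw [QuadraticMap.polar_smul_left, QuadraticMap.polar_comm, hv, smul_zero],
      zero_smul, add_zero] at e
    set k := pl b w / pl b x
    obtain ⟨e1, e2⟩ := mem_side.1 hw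
    have h1 : w - k • x ∈ bfix Q p u ω := hD _ (mem_mid.2 ⟨by simp [e1, f1], by simp [e2, f2], by
      rw [QuadraticMap.polar_sub_right, QuadraticMap.polar_smul_right, smul_eq_mul, div_mul_cancel₀ _ hbx, sub_self]⟩)
    have h2 : k • x ∈ bfix Q p u ω := hD' _ (Submodule.smul_mem _ _ hx)
    rw [e]
    refine (bfix Q p u ω).add_mem (smul_self_mem_bfix p _) ?_
    have := (bfix Q p u ω).add_mem h1 h2
    rwa [sub_add_cancel] at this
  intro a ha
  obtain ⟨w, hw, e⟩ := exists_side_decomp h.pair a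
  rw [show pl a u = 0 by rw [QuadraticMap.polar_comm]; exact ha.1, zero_smul, add_zero] at e
  refine ⟨pl a z, ?_⟩
  suffices w = 0 by exact e.trans (by rw [this, add_zero])
  refine side_perp_eq_zero h.nondeg h.pair hw fun x hx => ?_
  have h1 : pl x a = 0 := polar_eq_zero_of_trace p fun t => by
    have := hall x t (mem_side.1 hx).1 a ha
    rwa [QuadraticMap.polar_smul_left, ← QuadraticMap.polar_smul_right] at this
  rw [e, QuadraticMap.polar_add_right, QuadraticMap.polar_smul_right, QuadraticMap.polar_comm Q x u,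
    (mem_side.1 hx).1, smul_zero, zero_add] at h1
  rw [QuadraticMap.polar_comm]; exact h1

end MidData

end CfsgLib.OrthMinIndex
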