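/-
An anisotropic vector in the dual of a fixer forces a regular radical orbit.
-/
import Cfsg.Agent.Lib.OrthMinIndex.AnisoLocal

set_option autoImplicit false

namespace CfsgLib.OrthMinIndex

open CfsgLib.Classical

variable {F V : Type*} [Field F] [AddCommGroup V] [Module F V] {Q : QuadraticForm F V}
variable {Ω : Type*} [MulAction (eichGroup Q) Ω]

local notation "pl" => QuadraticMap.polar Q

variable (Q) in
/-- All the transformations inside the perp of `v` fix `ω`. -/
def FixesV (ω : Ω) (v : V) : Prop :=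
  ∀ s c, Q s = 0 → pl s c = 0 → pl s v = 0 → pl c v = 0 → eG Q s c • ω = ω

theorem FixesV.map {ω : Ω} {v : V} (h : FixesV Q ω v) (g : eichGroup Q) :
    FixesV Q (g • ω) (act g v) := by
  intro s c hs hsc hsv hcv
  obtain ⟨s, rfl⟩ : ∃ x, s = act g x := ⟨_, (act_act_inv g s).symm⟩
  obtain ⟨c, rfl⟩ : ∃ x, c = act g x := ⟨_, (act_act_inv g c).symm⟩
  rw [act_polar] at hsc hsv hcv
  rw [act_quad] at hs
  rw [← mul_smul, ← eG_conj' g hs hsc, mul_smul, h s c hs hsc hsv hcv]

theorem FixesV.of_smul {ω : Ω} {v : V} {t : F} (ht : t ≠ 0) (h : FixesV Q ω (t • v)) : FixesV Q ω v :=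
  fun s c hs hsc hsv hcv => h s c hs hsc (by rw [QuadraticMap.polar_smul_right, hsv, smul_zero])
    (by rw [QuadraticMap.polar_smul_right, hcv, smul_zero])

/-- Exchanging orthogonal singular vectors between fixers. -/
theorem symm_mem_afix {u x : V} {ω : Ω} (hu : Q u = 0) (hx : Q x = 0) (hux : pl u x = 0)
    (h : ∀ t : F, t • x ∈ afix Q u ω) (t : F) : t • u ∈ afix Q x ω := by
  have h1 : pl x (t • u) = 0 := by
    rw [QuadraticMap.polar_smul_right, QuadraticMap.polar_comm, hux, smul_zero]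
  refine (mem_afix hx).2 ⟨h1, ?_⟩
  rw [eG_symm hx (by rw [quad_smul, hu, mul_zero]) h1,
    eG_smul_left hu (by rw [QuadraticMap.polar_neg_right, hux, neg_zero]), smul_neg, ← neg_smul]
  exact ((mem_afix hu).1 (h (-t))).2

/-- A singular vector orthogonal to two vectors outside a common line of the first. -/
theorem exists_singular_perp_two [Fintype F] [FiniteDimensional F V] (hQ : PolarNondeg Q)
    (hn : 7 ≤ Module.finrank F V) {v v' : V} (hv : Q v ≠ 0) (hind : ∀ t : F, v' ≠ t • v) :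
    ∃ x, Q x = 0 ∧ x ≠ 0 ∧ pl x v = 0 ∧ pl x v' = 0 ∧ ∀ k l : F, v' ≠ k • v + l • x := by
  obtain ⟨a₁, ha₁, hQa₁⟩ := exists_singular Q hQ (by omega)
  obtain ⟨b₁, h₁⟩ := exists_pair hQ hQa₁ ha₁
  have hQ₁ := polarNondeg_side hQ h₁
  have hd₁ := finrank_side h₁
  obtain ⟨a₂, ha₂, hQa₂⟩ := exists_singular _ hQ₁ (by omega)
  obtain ⟨b₂, h₂⟩ := exists_pair hQ₁ hQa₂ ha₂
  have hQ₂ := polarNondeg_side hQ₁ h₂
  have hd₂ := finrank_side h₂
  obtain ⟨a₃, ha₃, hQa₃⟩ := exists_singular _ hQ₂ (by omega)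
  obtain ⟨b₃, h₃⟩ := exists_pair hQ₂ hQa₃ ha₃
  -- the coordinates along the six vectors
  have g12 : ∀ w : side Q a₁ b₁, pl a₁ w.1 = 0 ∧ pl b₁ w.1 = 0 := fun w => mem_side.1 w.2
  have g23 : ∀ w : side (Q.comp (side Q a₁ b₁).subtype) a₂ b₂, pl a₂.1 w.1.1 = 0 ∧ pl b₂.1 w.1.1 = 0 :=
    fun w => mem_side.1 w.2
  have p22 : pl a₂.1 b₂.1 = 1 := h₂.uz
  have p33 : pl a₃.1.1 b₃.1.1 = 1 := h₃.uz
  have q2 : Q a₂.1 = 0 := hQa₂
  have q2' : Q b₂.1 = 0 := h₂.qz
  have q3 : Q a₃.1.1 = 0 := hQa₃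
  have q3' : Q b₃.1.1 = 0 := h₃.qz
  let L : (F × F × F) →ₗ[F] V := (LinearMap.id.smulRight a₁).coprod
    ((LinearMap.id.smulRight a₂.1).coprod (LinearMap.id.smulRight a₃.1.1))
  let L' : (F × F × F) →ₗ[F] V := (LinearMap.id.smulRight b₁).coprod
    ((LinearMap.id.smulRight b₂.1).coprod (LinearMap.id.smulRight b₃.1.1))
  have pick : ∀ M : (F × F × F) →ₗ[F] V, ∃ c, c ≠ 0 ∧ pl (M c) v = 0 ∧ pl (M c) v' = 0 := by
    intro M
    let P : (F × F × F) →ₗ[F] F × F :=
      ((QuadraticMap.polarBilin Q v).prod (QuadraticMap.polarBilin Q v')).comp M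
    obtain ⟨c, hc, hc0⟩ : ∃ c ∈ LinearMap.ker P, c ≠ 0 := by
      refine Submodule.exists_mem_ne_zero_of_ne_bot fun e => ?_
      have h1 := LinearMap.finrank_range_add_finrank_ker P
      have h2 := Submodule.finrank_le (LinearMap.range P)
      rw [e, finrank_bot, Module.finrank_prod, Module.finrank_prod, Module.finrank_self] at h1
      rw [Module.finrank_prod, Module.finrank_self] at h2
      omega
    obtain ⟨g1, g2⟩ := Prod.ext_iff.1 (LinearMap.mem_ker.1 hc)
    exact ⟨c, hc0, by rw [QuadraticMap.polar_comm]; exact g1, by rw [QuadraticMap.polar_comm]; exact g2⟩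
  obtain ⟨⟨c₁, c₂, c₃⟩, hc, hcv, hcv'⟩ := pick L
  obtain ⟨⟨d₁, d₂, d₃⟩, hd, hdv, hdv'⟩ := pick L'
  have hL : L (c₁, c₂, c₃) = c₁ • a₁ + (c₂ • a₂.1 + c₃ • a₃.1.1) := rfl
  have hL' : L' (d₁, d₂, d₃) = d₁ • b₁ + (d₂ • b₂.1 + d₃ • b₃.1.1) := rfl
  set x := L (c₁, c₂, c₃)
  set x' := L' (d₁, d₂, d₃)
  clear_value x x'
  have hQx : Q x = 0 := by
    simp [hL, quad_add, quad_smul, hQa₁, q2, q3, (g12 a₂).1, (g12 a₃.1).1, (g23 a₃).1,
      QuadraticMap.polar_add_right, QuadraticMap.polar_smul_left, QuadraticMap.polar_smul_right]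
  have hQx' : Q x' = 0 := by
    simp [hL', quad_add, quad_smul, h₁.qz, q2', q3', (g12 b₂).2, (g12 b₃.1).2, (g23 b₃).2,
      QuadraticMap.polar_add_right, QuadraticMap.polar_smul_left, QuadraticMap.polar_smul_right]
  have e1 : pl b₁ x = c₁ := by simp [hL, h₁.zu, (g12 a₂).2, (g12 a₃.1).2]
  have e2 : pl b₂.1 x = c₂ := by
    simp [hL, QuadraticMap.polar_comm Q b₂.1 a₁, (g12 b₂).1, QuadraticMap.polar_comm Q b₂.1 a₂.1, p22,
      (g23 a₃).2]
  have e3 : pl b₃.1.1 x = c₃ := by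
    simp [hL, QuadraticMap.polar_comm Q b₃.1.1 a₁, (g12 b₃.1).1, QuadraticMap.polar_comm Q b₃.1.1 a₂.1,
      (g23 b₃).1, QuadraticMap.polar_comm Q b₃.1.1 a₃.1.1, p33]
  have f1 : pl b₁ x' = 0 := by simp [hL', h₁.zz, (g12 b₂).2, (g12 b₃.1).2]
  have f2 : pl b₂.1 x' = 0 := by
    simp [hL', QuadraticMap.polar_comm Q b₂.1 b₁, (g12 b₂).2, quad_polar_self, q2', (g23 b₃).2]
  have f3 : pl b₃.1.1 x' = 0 := by
    simp [hL', QuadraticMap.polar_comm Q b₃.1.1 b₁, (g12 b₃.1).2, QuadraticMap.polar_comm Q b₃.1.1 b₂.1,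
      (g23 b₃).2, quad_polar_self, q3']
  have e1' : pl a₁ x' = d₁ := by simp [hL', h₁.uz, (g12 b₂).1, (g12 b₃.1).1]
  have e2' : pl a₂.1 x' = d₂ := by
    simp [hL', QuadraticMap.polar_comm Q a₂.1 b₁, (g12 a₂).2, p22, (g23 b₃).1]
  have e3' : pl a₃.1.1 x' = d₃ := by
    simp [hL', QuadraticMap.polar_comm Q a₃.1.1 b₁, (g12 a₃.1).2, QuadraticMap.polar_comm Q a₃.1.1 b₂.1,
      (g23 a₃).2, p33]
  have hx0 : x ≠ 0 := fun e => hc (by
    rw [e, QuadraticMap.polar_zero_right] at e1 e2 e3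
    simp [← e1, ← e2, ← e3])
  have hx0' : x' ≠ 0 := fun e => hd (by
    rw [e, QuadraticMap.polar_zero_right] at e1' e2' e3'
    simp [← e1', ← e2', ← e3'])
  by_cases hout : ∀ k l : F, v' ≠ k • v + l • x
  · exact ⟨x, hQx, hx0, hcv, hcv', hout⟩
  refine ⟨x', hQx', hx0', hdv, hdv', fun k' l' e' => ?_⟩
  push Not at hout
  obtain ⟨k, l, e⟩ := hout
  have hl' : l' ≠ 0 := fun h0 => hind k' (by rw [e', h0, zero_smul, add_zero])
  have hl : l ≠ 0 := fun h0 => hind k (by rw [e, h0, zero_smul, add_zero])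
  -- the plane would be totally singular
  have ex : x = (-(k - k') / l) • v + (l' / l) • x' := by
    have h' : l • x = (k' - k) • v + l' • x' := by linear_combination (norm := module) e' - e
    have := congrArg (fun y => l⁻¹ • y) h'
    simp only [smul_smul, smul_add, inv_mul_cancel₀ hl, one_smul] at this
    rw [this]
    congr 1 <;> congr 1 <;> field_simp <;> ring
  set m := -(k - k') / l
  set m' := l' / l
  have hm' : m' ≠ 0 := div_ne_zero hl' hl
  have h1 : m * m * Q v = 0 := by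
    rw [ex, quad_add, quad_smul, quad_smul, hQx', QuadraticMap.polar_smul_left, QuadraticMap.polar_smul_right,
      QuadraticMap.polar_comm Q v x', hdv] at hQx
    simpa using hQx
  rw [mul_self_eq_zero.1 ((mul_eq_zero.1 h1).resolve_right hv), zero_smul, zero_add] at ex
  rw [ex, QuadraticMap.polar_smul_right, f1, smul_zero] at e1
  rw [ex, QuadraticMap.polar_smul_right, f2, smul_zero] at e2
  rw [ex, QuadraticMap.polar_smul_right, f3, smul_zero] at e3
  exact hc (by simp [← e1, ← e2, ← e3])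

variable [Fintype F] [Finite V] [FiniteDimensional F V] [Finite Ω]
variable (p : ℕ) [Fact p.Prime] [Algebra (ZMod p) F] [Module (ZMod p) V]

namespace MidData

variable {u z b : V} (h : MidData Q u z b)
include h

omit [Finite Ω] in
theorem afix_of_plane {ω : Ω} (hB : ∀ y ∈ bfix Q p u ω, ∃ k l : F, y = k • u + l • b) {a : V}
    (hua : pl u a = 0) (hba : pl b a = 0) : a ∈ afix Q u ω := by
  refine mem_afix_of_perp p h.nondeg fun y hy => ?_
  obtain ⟨k, l, rfl⟩ := hB y hy
  simp [QuadraticMap.polar_add_left, QuadraticMap.polar_smul_left, hua, hba]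

/-- The perfect group fixes the point. -/
theorem root_fix_point (hq : 4 ≤ Fintype.card F) (hN : Nat.card Ω * (Fintype.card F - 1) < singCount Q)
    {ω : Ω} (hb : b ∈ bfix Q p u ω) (hB : ∀ y ∈ bfix Q p u ω, ∃ k l : F, y = k • u + l • b)
    {g : eichGroup Q} (hg : g ∈ rootGroup Q (mid Q u z b)) : g • ω = ω := by
  set K := rootGroup Q (mid Q u z b)
  have hu := h.pair.qu
  have hfix : ∀ g ∈ K, ∀ w, pl u w = 0 → eG Q u (act g w) • ω = eG Q u w • ω := by
    intro g hg w hw
    obtain ⟨h1, -, h3⟩ := h.root_fix hg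
    have e1 : pl u (act g w) = 0 := by rw [← h1, act_polar, hw]
    have e2 : pl b (act g w) = pl b w := by
      conv_lhs => rw [← h3, act_polar]
    have e : pl u (act g w - w) = 0 := by rw [QuadraticMap.polar_sub_right, e1, hw, sub_zero]
    have hA := h.afix_of_plane p hB e (by rw [QuadraticMap.polar_sub_right, e2, sub_self])
    conv_lhs => rw [← add_sub_cancel w (act g w), ← eG_mul hu hw e, mul_smul, ((mem_afix hu).1 hA).2]
  let R : eichGroup Q → V → Prop := fun g w => pl u w = 0 ∧ g • ω = eG Q u w • ω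
  have hR : ∀ g ∈ K, ∃ w, R g w := fun g hg => h.root_cls p hq hN hb hg
  have hmul : ∀ {g g' w w'}, g ∈ K → R g w → R g' w' → R (g * g') (w + w') := by
    intro g g' w w' hgK ⟨hw, hgw⟩ ⟨hw', hgw'⟩
    have h1 := (h.root_fix hgK).1
    have hgw'' : pl u (act g w') = 0 := by rw [← h1, act_polar, hw']
    refine ⟨by rw [QuadraticMap.polar_add_right, hw, hw', add_zero], ?_⟩
    rw [mul_smul, hgw', ← mul_smul, eG_conj' g hu hw', h1, mul_smul, hgw, ← mul_smul, eG_mul hu hgw'' hw,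
      add_comm, ← eG_mul hu hw hgw'', mul_smul, hfix g hgK w' hw', ← mul_smul, eG_mul hu hw hw']
  have hinv : ∀ {g w}, g ∈ K → R g w → R g⁻¹ (-w) := by
    intro g w hgK ⟨hw, hgw⟩
    have hn : pl u (-w) = 0 := by rw [QuadraticMap.polar_neg_right, hw, neg_zero]
    refine ⟨hn, ?_⟩
    have h1 := (h.root_fix (inv_mem hgK)).1
    have e : g⁻¹ * eG Q u (-w) = eG Q u (act g⁻¹ (-w)) * g⁻¹ := by rw [eG_conj' g⁻¹ hu hn, h1]
    have h2 : eG Q u (act g⁻¹ (-w)) • ω = g⁻¹ • ω := by
      have h3 := congrArg (fun x : eichGroup Q => x • (g • ω)) e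
      simp only [mul_smul, inv_smul_smul] at h3
      rw [← h3, hgw, ← mul_smul (eG Q u (-w)), eG_mul hu hn hw, neg_add_cancel, eG_zero hu, one_smul]
    rw [← h2, hfix _ (inv_mem hgK) _ hn]
  have key : ⁅K, K⁆ ≤ MulAction.stabilizer (eichGroup Q) ω := by
    rw [Subgroup.commutator_le]
    intro g hg g' hg'
    obtain ⟨w, hw⟩ := hR g hg
    obtain ⟨w', hw'⟩ := hR g' hg'
    have := (hmul (mul_mem (mul_mem hg hg') (inv_mem hg)) (hmul (mul_mem hg hg') (hmul hg hw hw') (hinv hg hw))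
      (hinv hg' hw')).2
    rw [MulAction.mem_stabilizer_iff, commutatorElement_def, this,
      show w + w' + -w + -w' = 0 by abel, eG_zero hu, one_smul]
  exact key (h.rootGroup_perfect hq hg)

/-- The dual at a singular vector of the middle. -/
theorem bfix_mid (hq : 4 ≤ Fintype.card F) (hN : Nat.card Ω * (Fintype.card F - 1) < singCount Q)
    {ω : Ω} (hb : b ∈ bfix Q p u ω) (hB : ∀ y ∈ bfix Q p u ω, ∃ k l : F, y = k • u + l • b)
    {x : V} (hx : x ∈ mid Q u z b) (hQx : Q x = 0) (hx0 : x ≠ 0) {y : V} (hy : y ∈ bfix Q p x ω) :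
    ∃ α k l : F, y = α • u + k • b + l • x := by
  obtain ⟨hxu, hxz, hxb⟩ := mem_mid.1 hx
  have hu := h.pair.qu
  have hyu : pl y u = 0 := bfix_perp p (symm_mem_afix hu hQx hxu fun t => h.afix_of_plane p hB
    (by rw [QuadraticMap.polar_smul_right, hxu, smul_zero])
    (by rw [QuadraticMap.polar_smul_right, hxb, smul_zero])) hy
  have hyc : ∀ c ∈ mid Q u z b, pl x c = 0 → pl y c = 0 := by
    intro c hc hxc
    refine bfix_perp p (fun t => (mem_afix hQx).2 ⟨?_, ?_⟩) hy
    · rw [QuadraticMap.polar_smul_right, hxc, smul_zero]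
    · exact h.root_fix_point p hq hN hb hB (eG_mem_rootGroup hx (Submodule.smul_mem _ _ hc) hQx
        (by rw [QuadraticMap.polar_smul_right, hxc, smul_zero]))
  obtain ⟨x', hx', hp⟩ := h.exists_partner_mid hx hQx hx0
  obtain ⟨y', hy', e⟩ := exists_side_decomp h.pair y
  rw [hyu, zero_smul, add_zero] at e
  obtain ⟨k, hk⟩ : ∃ k : F, y' - pl y' x' • x = k • b := by
    refine h.perp_mid (Submodule.sub_mem _ hy' (Submodule.smul_mem _ _ (mem_side.2 ⟨hxu, hxz⟩))) fun d hd => ?_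
    have hd' : d - pl d x • x' ∈ mid Q u z b := Submodule.sub_mem _ hd (Submodule.smul_mem _ _ hx')
    have hxd : pl x (d - pl d x • x') = 0 := by simp [hp.uz, QuadraticMap.polar_comm Q x d]
    have h1 := hyc _ hd' hxd
    rw [e, QuadraticMap.polar_add_left, QuadraticMap.polar_smul_left, (mem_mid.1 hd').1, smul_zero, zero_add]
      at h1
    rw [← sub_add_cancel d (pl d x • x'), QuadraticMap.polar_add_right, QuadraticMap.polar_sub_left, h1,
      QuadraticMap.polar_smul_left, hxd, QuadraticMap.polar_smul_right, QuadraticMap.polar_sub_left,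
      QuadraticMap.polar_smul_left, hp.uz]
    simp
  exact ⟨pl y z, k, pl y' x', e.trans (by rw [add_assoc, ← hk, sub_add_cancel])⟩

variable [MulAction.IsPretransitive (eichGroup Q) Ω] [Nontrivial Ω]

/-- A change of the pair puts a singular vector of the middle on the same anisotropic line. -/
theorem exists_base (hq : 4 ≤ Fintype.card F) (hN : Nat.card Ω * (Fintype.card F - 1) < singCount Q)
    {ω : Ω} (hb : b ∈ bfix Q p u ω) (hB : ∀ y ∈ bfix Q p u ω, ∃ k l : F, y = k • u + l • b) :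
    ∃ z' v, MidData Q u z' v ∧ v ∈ bfix Q p u ω ∧ (∀ y ∈ bfix Q p u ω, ∃ k l : F, y = k • u + l • v) ∧
      ∃ x ∈ mid Q u z' v, Q x = 0 ∧ x ≠ 0 ∧ ∀ y ∈ bfix Q p x ω, ∃ k l : F, y = k • x + l • v := by
  obtain ⟨x, hx, hQx, hx0⟩ := h.exists_singular_mid
  obtain ⟨x', hx', hp⟩ := h.exists_partner_mid hx hQx hx0
  obtain ⟨hxu, hxz, hxb⟩ := mem_mid.1 hx
  obtain ⟨hxu', hxz', hxb'⟩ := mem_mid.1 hx'
  have hu := h.pair.qu
  obtain ⟨b'', hb1, hb2⟩ := exists_polar_sep (Q.comp (side Q u z).subtype)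
    (polarNondeg_side h.nondeg h.pair) (a := ⟨b, h.b_mem⟩) (b := ⟨x, mem_side.2 ⟨hxu, hxz⟩⟩)
    (fun s e => h.aniso (by rw [← show s • x = b from congrArg Subtype.val e, quad_smul, hQx, mul_zero]))
  have hb1' : pl x b''.1 = 0 := hb1
  have hb2' : pl b b''.1 ≠ 0 := hb2
  obtain ⟨hub'', hzb''⟩ := mem_side.1 b''.2
  obtain ⟨α₀, k₀, l₀, hy₀, hk₀⟩ : ∃ α₀ k₀ l₀ : F, α₀ • u + k₀ • b + l₀ • x ∈ bfix Q p x ω ∧ k₀ ≠ 0 := by
    by_contra hcon
    push Not at hcon
    have hA : b''.1 ∈ afix Q x ω := mem_afix_of_perp p h.nondeg fun y hy => by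
      obtain ⟨α, k, l, rfl⟩ := h.bfix_mid p hq hN hb hB hx hQx hx0 hy
      rw [hcon α k l hy]
      simp [QuadraticMap.polar_add_left, QuadraticMap.polar_smul_left, hub'', hb1']
    rw [mem_afix hQx] at hA
    have h1 := act_mem_bfix p (eG Q x b''.1) hu hb
    rw [eG_fix_of hQx hA.1 hxu hub'', hA.2, eG_apply hQx hA.1] at h1
    obtain ⟨k, l, e⟩ := hB _ h1
    have h2 := congrArg (fun v => pl x' v) e
    simp only [QuadraticMap.polar_add_right, QuadraticMap.polar_sub_right, QuadraticMap.polar_smul_right,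
      hxb, hxb', QuadraticMap.polar_comm Q x' b, QuadraticMap.polar_comm Q x' u, hxu', hp.zu,
      smul_eq_mul, mul_zero, zero_mul, add_zero, zero_add, mul_one, zero_sub, neg_eq_zero] at h2
    exact hb2' h2
  set η := α₀ / k₀
  have hv₀ : k₀ • (b + η • u) ∈ bfix Q p x ω := by
    have h1 := (bfix Q p x ω).sub_mem hy₀ (smul_self_mem_bfix (u := x) p l₀)
    rwa [add_sub_cancel_right, show α₀ • u + k₀ • b = k₀ • (b + η • u) by
      rw [smul_add, smul_smul, mul_div_cancel₀ _ hk₀, add_comm]] at h1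
  set v := b + η • u with hv
  have huv : pl u v = 0 := by simp [hv, h.ub, h.pair.uu]
  have hxv : pl x v = 0 := by
    simp [hv, QuadraticMap.polar_comm Q x b, hxb, QuadraticMap.polar_comm Q x u, hxu]
  have hxv' : pl x' v = 0 := by
    simp [hv, QuadraticMap.polar_comm Q x' b, hxb', QuadraticMap.polar_comm Q x' u, hxu']
  have hQv : Q v = Q b := by
    simp [hv, quad_add, quad_smul, hu, QuadraticMap.polar_smul_right, QuadraticMap.polar_comm Q b u, h.ub]
  have hk : MidData Q x x' (k₀ • v) := ⟨h.nondeg, h.dim, hp, by rw [QuadraticMap.polar_smul_right, hxv, smul_zero],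
    by rw [QuadraticMap.polar_smul_right, hxv', smul_zero],
    by rw [quad_smul, hQv]; exact mul_ne_zero (mul_ne_zero hk₀ hk₀) h.aniso⟩
  have hplane : ∀ y ∈ bfix Q p x ω, ∃ k l : F, y = k • x + l • v := by
    rcases hk.dichotomy p hq hN hv₀ with hreg | hpl
    · have hux : u ∈ afix Q x ω := by
        simpa using symm_mem_afix hu hQx hxu (fun t => h.afix_of_plane p hB
          (by rw [QuadraticMap.polar_smul_right, hxu, smul_zero])
          (by rw [QuadraticMap.polar_smul_right, hxb, smul_zero])) 1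
      obtain ⟨t, ht⟩ := hreg u hux
      have := h.pair.uz
      rw [ht, QuadraticMap.polar_smul_left, QuadraticMap.polar_comm, hxz, smul_zero] at this
      exact absurd this zero_ne_one
    · intro y hy
      obtain ⟨k, l, e⟩ := hpl y hy
      exact ⟨k, l * k₀, by rw [e, smul_smul]⟩
  set b₁ := (pl b b''.1)⁻¹ • b''.1
  have e1 : pl b b₁ = 1 := by rw [QuadraticMap.polar_smul_right, smul_eq_mul, inv_mul_cancel₀ hb2']
  have e2 : pl u b₁ = 0 ∧ pl z b₁ = 0 ∧ pl x b₁ = 0 := by simp [b₁, hub'', hzb'', hb1']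
  clear_value b₁
  set z' := z + (-η) • b₁ + (-(η * η * Q b₁)) • u with hz'
  have hp' : SingPair Q u z' := by
    refine ⟨hu, ?_, ?_⟩
    · simp [hz', quad_add, quad_smul, hu, h.pair.qz, QuadraticMap.polar_add_left, QuadraticMap.polar_smul_left,
        QuadraticMap.polar_smul_right, e2.2.1, h.pair.zu, QuadraticMap.polar_comm Q b₁ u, e2.1]
    · simp [hz', h.pair.uz, e2.1, h.pair.uu]
  have hz'v : pl z' v = 0 := by
    simp [hz', hv, QuadraticMap.polar_add_left, QuadraticMap.polar_smul_left, QuadraticMap.polar_smul_right,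
      h.zb, h.pair.zu, h.pair.uu, h.ub, QuadraticMap.polar_comm Q b₁ b, e1, QuadraticMap.polar_comm Q b₁ u, e2.1]
  refine ⟨z', v, ⟨h.nondeg, h.dim, hp', huv, hz'v, by rw [hQv]; exact h.aniso⟩,
    (bfix Q p u ω).add_mem hb (smul_self_mem_bfix p η), fun y hy => ?_, x, ?_, hQx, hx0, hplane⟩
  · obtain ⟨k, l, e⟩ := hB y hy
    exact ⟨k - l * η, l, by rw [e, hv]; module⟩
  · refine mem_mid.2 ⟨hxu, ?_, by rw [QuadraticMap.polar_comm]; exact hxv⟩
    simp [hz', QuadraticMap.polar_add_left, QuadraticMap.polar_smul_left, hxz, hxu,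
      QuadraticMap.polar_comm Q b₁ x, e2.2.2]

/-- The point is fixed by everything inside the perp of an anisotropic vector. -/
theorem exists_fixesV (hq : 4 ≤ Fintype.card F) (hN : Nat.card Ω * (Fintype.card F - 1) < singCount Q)
    {ω : Ω} (hb : b ∈ bfix Q p u ω) (hB : ∀ y ∈ bfix Q p u ω, ∃ k l : F, y = k • u + l • b) :
    ∃ v, Q v ≠ 0 ∧ FixesV Q ω v := by
  obtain ⟨z', v, h', hv, hB', x, hx, hQx, hx0, hBx⟩ := h.exists_base p hq hN hb hB
  clear hB hb
  refine ⟨v, h'.aniso, ?_⟩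
  obtain ⟨hu, hz, huz⟩ := h'.pair
  set z := z'
  have hK : ∀ g ∈ rootGroup Q (mid Q u z v), g • ω = ω := fun g hg => h'.root_fix_point p hq hN hv hB' hg
  obtain ⟨hxu, hxz, hxv⟩ := mem_mid.1 hx
  let P : V → Prop := fun s => ∀ c, pl s c = 0 → pl c v = 0 → eG Q s c • ω = ω
  have hPu : P u := fun c h1 h2 => ((mem_afix hu).1 (h'.afix_of_plane p hB' h1
    (by rw [QuadraticMap.polar_comm]; exact h2))).2
  have hxzA : ∀ t : F, t • z ∈ afix Q x ω := fun t => mem_afix_of_perp p h'.nondeg fun y hy => by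
    obtain ⟨k, l, rfl⟩ := hBx y hy
    simp [QuadraticMap.polar_add_left, QuadraticMap.polar_smul_left, QuadraticMap.polar_comm Q x z, hxz,
      QuadraticMap.polar_comm Q v z, h'.zb]
  have hxA : x ∈ afix Q z ω := by
    simpa using symm_mem_afix hQx hz (by rw [QuadraticMap.polar_comm]; exact hxz) hxzA 1
  have hDz : ∀ d ∈ mid Q u z v, d ∈ afix Q z ω := h'.mid_le_stable
    (fun g hg y hy => by
      have := act_mem_afix g hz hy
      rwa [(h'.root_fix hg).2.1, hK g hg] at this)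
    (mem_side.2 ⟨hxu, hxz⟩) hxA
    (fun t e => hx0 (by
      rw [e, quad_smul] at hQx
      rw [e, mul_self_eq_zero.1 ((mul_eq_zero.1 hQx).resolve_right h'.aniso), zero_smul]))
  have hPz : P z := by
    intro c h1 h2
    obtain ⟨c', hc', e⟩ := exists_side_decomp h'.pair c
    rw [QuadraticMap.polar_comm Q c z, h1, zero_smul, zero_add] at e
    obtain ⟨g1, g2⟩ := mem_side.1 hc'
    have hc'v : c' ∈ mid Q u z v := mem_mid.2 ⟨g1, g2, by
      rw [e, QuadraticMap.polar_add_left, QuadraticMap.polar_smul_left, h'.zb, smul_zero, zero_add] at h2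
      rw [QuadraticMap.polar_comm]; exact h2⟩
    rw [e]
    exact ((mem_afix hz).1 (add_mem (smul_self_mem_afix hz ω _) (hDz _ hc'v))).2
  have hsmul : ∀ {s} (t : F), Q s = 0 → t ≠ 0 → P s → P (t • s) := by
    intro s t hs ht hP c h1 h2
    rw [QuadraticMap.polar_smul_left, smul_eq_mul] at h1
    have h1' := (mul_eq_zero.1 h1).resolve_left ht
    rw [eG_smul_left hs h1']
    exact hP _ (by rw [QuadraticMap.polar_smul_right, h1', smul_zero])
      (by rw [QuadraticMap.polar_smul_left, h2, smul_zero])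
  have key : ∀ u z, SingPair Q u z → pl u v = 0 → pl z v = 0 → P u → P z →
      ∀ s, Q s = 0 → pl s v = 0 → pl s u ≠ 0 → P s := by
    intro u z hp hu' hz' hPu hPz s hs hsv hsu
    set t := pl s u
    set s₁ := t⁻¹ • s
    have hs₁ : Q s₁ = 0 := by rw [quad_smul, hs, mul_zero]
    have hs₁v : pl s₁ v = 0 := by rw [QuadraticMap.polar_smul_left, hsv, smul_zero]
    have hs₁u : pl s₁ u = 1 := by
      rw [QuadraticMap.polar_smul_left, smul_eq_mul, inv_mul_cancel₀ hsu]
    rw [show s = t • s₁ from (smul_inv_smul₀ hsu s).symm]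
    refine hsmul t hs₁ hsu ?_
    clear_value s₁
    obtain ⟨d, hd, e⟩ := exists_side_decomp hp s₁
    rw [hs₁u, one_smul] at e
    obtain ⟨hud, hzd⟩ := mem_side.1 hd
    have hdv : pl d v = 0 := by
      rw [e] at hs₁v
      simpa [QuadraticMap.polar_add_left, QuadraticMap.polar_smul_left, hu', hz'] using hs₁v
    have hg := hPu d hud hdv
    have hgv : act (eG Q u d) v = v := eG_fix_of hp.qu hud (by rw [QuadraticMap.polar_comm]; exact hu')
      (by rw [QuadraticMap.polar_comm]; exact hdv)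
    have hgz : act (eG Q u d) z = s₁ := by
      have hα : pl s₁ z = -Q d := by
        have := congrArg Q e
        rw [hs₁, quad_add, quad_add, quad_smul, hp.qu, hp.qz] at this
        simp [QuadraticMap.polar_add_left, QuadraticMap.polar_smul_left, hp.uz, hud, hzd] at this
        linear_combination -this
      rw [eG_apply hp.qu hud, hp.zu, hzd]
      conv_rhs => rw [e, hα]
      module
    intro c h1 h2
    obtain ⟨c, rfl⟩ : ∃ x, c = act (eG Q u d) x := ⟨_, (act_act_inv _ c).symm⟩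
    rw [← hgz, act_polar] at h1
    rw [← hgv, act_polar] at h2
    rw [← hgz]
    conv_lhs => rw [← hg, ← mul_smul, ← eG_conj' _ hp.qz h1, mul_smul, hPz c h1 h2, hg]
  intro s c hs hsc hsv hcv
  by_cases hsu : pl s u = 0
  swap
  · exact key u z h'.pair h'.ub h'.zb hPu hPz s hs hsv hsu c hsc hcv
  by_cases hsz : pl s z = 0
  swap
  · exact key z u h'.pair.symm h'.zb h'.ub hPz hPu s hs hsv hsz c hsc hcv
  have hus : pl u s = 0 := by rw [QuadraticMap.polar_comm]; exact hsu
  have hzs : pl z s = 0 := by rw [QuadraticMap.polar_comm]; exact hsz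
  have hsD : s ∈ mid Q u z v := mem_mid.2 ⟨hus, hzs, by rw [QuadraticMap.polar_comm]; exact hsv⟩
  have hA1 : ∀ t : F, t • u ∈ afix Q s ω := symm_mem_afix hu hs hus fun t =>
    h'.afix_of_plane p hB' (by rw [QuadraticMap.polar_smul_right, hus, smul_zero])
      (by rw [QuadraticMap.polar_smul_right, QuadraticMap.polar_comm, hsv, smul_zero])
  have hA2 : ∀ t : F, t • z ∈ afix Q s ω := symm_mem_afix hz hs hzs fun t =>
    hDz _ (Submodule.smul_mem _ _ hsD)
  obtain ⟨c', hc', e⟩ := exists_side_decomp h'.pair c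
  obtain ⟨g1, g2⟩ := mem_side.1 hc'
  have hc'D : c' ∈ mid Q u z v := mem_mid.2 ⟨g1, g2, by
    rw [e] at hcv
    rw [QuadraticMap.polar_comm]
    simpa [QuadraticMap.polar_add_left, QuadraticMap.polar_smul_left, h'.ub, h'.zb] using hcv⟩
  have hsc' : pl s c' = 0 := by
    rw [e] at hsc
    simpa [hsu, hsz] using hsc
  rw [e]
  exact ((mem_afix hs).1 (add_mem (add_mem (hA1 _) (hA2 _))
    ((mem_afix hs).2 ⟨hsc', hK _ (eG_mem_rootGroup hsD hc'D hs hsc')⟩))).2

end MidData

variable [MulAction.IsPretransitive (eichGroup Q) Ω] [Nontrivial Ω]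

omit p [Fact p.Prime] [Algebra (ZMod p) F] [Module (ZMod p) V] in
/-- At most one anisotropic line is fixed at a point. -/
theorem FixesV.line (hQ : PolarNondeg Q) (hn : 7 ≤ Module.finrank F V) (hq : 4 ≤ Fintype.card F)
    (hN : Nat.card Ω * (Fintype.card F - 1) < singCount Q) {ω : Ω} {v v' : V} (hv : Q v ≠ 0)
    (h : FixesV Q ω v) (h' : FixesV Q ω v') : ∃ t : F, v' = t • v := by
  by_contra hc
  push Not at hc
  obtain ⟨x, hQx, hx0, hxv, hxv', hout⟩ := exists_singular_perp_two hQ hn hv hc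
  refine not_fullU hQ hn hq hN hQx hx0 (ω := ω) fun w hw => ?_
  obtain ⟨a, ha1, ha2, ha3⟩ : ∃ a, pl x a = 0 ∧ pl v a = 0 ∧ pl v' a ≠ 0 := by
    by_contra hcon
    push Not at hcon
    let f := QuadraticMap.polarBilin Q
    have hker : ⨅ i : Fin 2, LinearMap.ker (![f x, f v] i) ≤ LinearMap.ker (f v') := fun a ha => by
      simp only [Submodule.mem_iInf, Fin.forall_fin_two, LinearMap.mem_ker] at ha
      exact LinearMap.mem_ker.2 (hcon a ha.1 ha.2)
    have hs := mem_span_of_iInf_ker_le_ker hker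
    rw [Matrix.range_cons, Matrix.range_cons, Matrix.range_empty, Set.union_empty, Set.singleton_union,
      Submodule.mem_span_pair] at hs
    obtain ⟨l, k, e⟩ := hs
    refine hout k l (sub_eq_zero.1 (hQ _ fun y => ?_))
    have := LinearMap.congr_fun e y
    simp only [f, LinearMap.add_apply, LinearMap.smul_apply, QuadraticMap.polarBilin_apply_apply] at this
    simp only [QuadraticMap.polar_sub_left, QuadraticMap.polar_add_left, QuadraticMap.polar_smul_left]
    linear_combination -this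
  set k := pl v' w / pl v' a
  have hka : pl x (k • a) = 0 := by rw [QuadraticMap.polar_smul_right, ha1, smul_zero]
  have hrest : pl x (w - k • a) = 0 := by rw [QuadraticMap.polar_sub_right, hw, hka, sub_zero]
  rw [← sub_add_cancel w (k • a), ← eG_mul hQx hrest hka, mul_smul,
    h x (k • a) hQx hka hxv (by rw [QuadraticMap.polar_smul_left, QuadraticMap.polar_comm, ha2, smul_zero]),
    h' x (w - k • a) hQx hrest hxv' (by
      rw [QuadraticMap.polar_comm, QuadraticMap.polar_sub_right, QuadraticMap.polar_smul_right, smul_eq_mul,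
        div_mul_cancel₀ _ ha3, sub_self])]

omit p [Fact p.Prime] [Algebra (ZMod p) F] [Module (ZMod p) V] in
/-- A small action fixes no anisotropic line. -/
theorem not_fixesV (hQ : PolarNondeg Q) (hn : 7 ≤ Module.finrank F V) (hq : 4 ≤ Fintype.card F)
    (hN : Nat.card Ω * (Fintype.card F - 1) < singCount Q) {ω : Ω} {v : V} (hv : Q v ≠ 0) :
    ¬ FixesV Q ω v := by
  classical
  intro hfix
  have hex : ∀ x : lvlSet Q (Q v), ∃ o : Ω, FixesV Q o x.1 ∧ Q x.1 ≠ 0 := by
    rintro ⟨x, r, hr, hx⟩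
    obtain ⟨k, hk, hkv⟩ := exists_move_level Q hQ (by omega) hv
      (show Q v = Q (r⁻¹ • x) by rw [quad_smul, hx]; field_simp)
    refine ⟨(⟨k, hk⟩ : eichGroup Q) • ω, ?_, by rw [hx]; exact mul_ne_zero (mul_ne_zero hr hr) hv⟩
    have := hfix.map (⟨k, hk⟩ : eichGroup Q)
    rw [show act (⟨k, hk⟩ : eichGroup Q) v = r⁻¹ • x from hkv] at this
    exact this.of_smul (inv_ne_zero hr)
  choose φ hφ hφ0 using hex
  let base : Ω → V := fun o => if h : ∃ x, φ x = o then (h.choose : V) else 0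
  have hbase : ∀ x : lvlSet Q (Q v), ∃ t : {t : F // t ≠ 0}, (x : V) = t.1 • base (φ x) := by
    intro x
    have h : ∃ y, φ y = φ x := ⟨x, rfl⟩
    simp only [base, dif_pos h]
    have hy := hφ h.choose
    rw [h.choose_spec] at hy
    obtain ⟨t, ht⟩ := hy.line hQ hn hq hN (hφ0 _) (hφ x)
    refine ⟨⟨t, fun e => hφ0 x ?_⟩, ht⟩
    rw [ht, e, zero_smul, map_zero]
  choose sc hsc using hbase
  have hcard := Nat.card_le_card_of_injective (fun x => (φ x, sc x)) (fun x y e => by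
    obtain ⟨e1, e2⟩ := Prod.ext_iff.1 e
    exact Subtype.ext (by rw [hsc x, hsc y, show φ x = φ y from e1, show sc x = sc y from e2]))
  rw [Nat.card_prod, Nat.card_eq_fintype_card (α := {t : F // t ≠ 0}), Fintype.card_subtype_compl,
    Fintype.card_subtype_eq] at hcard
  obtain ⟨a, ha0, ha⟩ := exists_singular Q hQ (by omega)
  obtain ⟨a', hp⟩ := exists_pair hQ ha ha0
  obtain ⟨c, hc0, hc⟩ := exists_singular _ (polarNondeg_side hQ hp) (by have := finrank_side hp; omega)
  obtain ⟨c', hp'⟩ := exists_pair (polarNondeg_side hQ hp) hc hc0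
  have h1 := card_lvlSet_ge hp hv
  have h2 := singCount_eq hp
  have h3 := singCount_upper hp'
  rw [show Module.finrank F (side Q a a') - 2 = Module.finrank F V - 4 by have := finrank_side hp; omega] at h3
  set q := Fintype.card F with hqdef
  set m := Module.finrank F V - 4
  rw [show Module.finrank F V - 2 = m + 2 by omega] at h1 h2
  have h4 : 2 ≤ Nat.card {x : F // x ≠ 0 ∧ ∃ t : F, x = t * t} := by
    have := two_mul_card_squares (F := F)
    change q - 1 ≤ _ at this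
    omega
  obtain ⟨r, hr⟩ : ∃ r, q = r + 1 := ⟨q - 1, by omega⟩
  rw [show q - 1 = r by omega] at hcard hN h1 h2 h3
  have h5 : 2 * (r * q ^ (m + 2)) ≤ Nat.card Ω * r := (Nat.mul_le_mul_right _ h4).trans (h1.trans hcard)
  have h6 : q * (singCount (Q.comp (side Q a a').subtype) + 1) ≤ r * q ^ (m + 2) := by
    refine (Nat.mul_le_mul_left _ h3).trans ?_
    rw [pow_add, show q * (r * q ^ m + q * q ^ m) = q ^ m * (q * (r + q)) by ring,
      show r * (q ^ m * q ^ 2) = q ^ m * (q * (r * q)) by ring]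
    refine Nat.mul_le_mul_left _ (Nat.mul_le_mul_left _ ?_)
    obtain ⟨j, rfl⟩ : ∃ j, r = j + 3 := ⟨r - 3, by omega⟩
    rw [hr]; nlinarith
  omega

/-- An anisotropic vector in a dual forces regularity. -/
theorem isReg_of_aniso (hQ : PolarNondeg Q) (hn : 7 ≤ Module.finrank F V) (hq : 4 ≤ Fintype.card F)
    (hN : Nat.card Ω * (Fintype.card F - 1) < singCount Q) {ω : Ω} {u b : V} (hu : Q u = 0) (hu0 : u ≠ 0)
    (hb : b ∈ bfix Q p u ω) (hQb : Q b ≠ 0) : IsReg Q u ω := by
  have hub := bfix_polar p hu hb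
  have hout : ∀ s : F, b ≠ s • u := fun s e => hQb (by rw [e, quad_smul, hu, mul_zero])
  obtain ⟨z, hp, hbz⟩ := exists_pair_perp hQ hu hub hout hu0
  have h : MidData Q u z b := ⟨hQ, hn, hp, hub, by rw [QuadraticMap.polar_comm]; exact hbz, hQb⟩
  rcases h.dichotomy p hq hN hb with hr | hB
  · exact hr
  · obtain ⟨v, hv, hf⟩ := h.exists_fixesV p hq hN hb hB
    exact absurd hf (not_fixesV hQ hn hq hN hv)

end CfsgLib.OrthMinIndex
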