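/-
No radical orbit is regular, so all the duals are totally singular.
-/
import Cfsg.Agent.Lib.OrthMinIndex.AnisoGlobal

set_option autoImplicit false

namespace CfsgLib.OrthMinIndex

open CfsgLib.Classical

variable {F V : Type*} [Field F] [AddCommGroup V] [Module F V] {Q : QuadraticForm F V}
variable {Ω : Type*} [MulAction (eichGroup Q) Ω]

local notation "pl" => QuadraticMap.polar Q

theorem IsReg.smul_of {ω : Ω} {u : V} (hu : Q u = 0) (h : IsReg Q u ω) {g : eichGroup Q} {l : F}
    (hl : l ≠ 0) (hgu : act g u = l • u) : IsReg Q u (g • ω) := by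
  intro a ha
  have hgu' : act g⁻¹ u = l⁻¹ • u := by
    have h1 := act_inv_act g u
    rw [hgu] at h1
    have h' : l • act g⁻¹ u = u := by rw [← map_smul]; exact h1
    rw [← h', inv_smul_smul₀ hl, h']
  have h1 := act_mem_afix g⁻¹ hu ha
  rw [inv_smul_smul, hgu', mem_afix_smul hu (inv_ne_zero hl)] at h1
  obtain ⟨t, ht⟩ := h _ h1
  refine ⟨l * (l * t), ?_⟩
  have h2 : act g⁻¹ a = (l * t) • u := by
    rw [← smul_inv_smul₀ hl (act g⁻¹ a), ← inv_inv l, inv_inv, ht, smul_smul]
  rw [← act_act_inv g a, h2]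
  change (g : qAut Q).1 ((l * t) • u) = _
  rw [map_smul]
  change (l * t) • act g u = _
  rw [hgu, smul_smul, mul_comm]

variable [Fintype F] [FiniteDimensional F V]

/-- Nothing in the complement is orthogonal to all its singular vectors. -/
theorem side_singular_perp (hQ : PolarNondeg Q) (hn : 5 ≤ Module.finrank F V) {u z w : V}
    (hp : SingPair Q u z) (hw : w ∈ side Q u z) (h : ∀ x ∈ side Q u z, Q x = 0 → pl w x = 0) : w = 0 := by
  by_contra hw0
  obtain ⟨x, hx, hxw⟩ := exists_singular_polar _ (polarNondeg_side hQ hp)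
    (by have := finrank_side hp; omega) (v := (⟨w, hw⟩ : side Q u z)) (fun e => hw0 (congrArg Subtype.val e))
  refine hxw ?_
  change pl x.1 w = 0
  rw [QuadraticMap.polar_comm]
  exact h x.1 x.2 hx

variable [Finite V] [Finite Ω] [MulAction.IsPretransitive (eichGroup Q) Ω] [Nontrivial Ω]
variable (p : ℕ) [Fact p.Prime] [Algebra (ZMod p) F] [Module (ZMod p) V]
include p

omit [MulAction.IsPretransitive (eichGroup Q) Ω] [Nontrivial Ω] in
/-- There is at most one regular radical orbit. -/
theorem reg_unique (hQ : PolarNondeg Q) (hn : 7 ≤ Module.finrank F V) (hq : 4 ≤ Fintype.card F)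
    (hN : Nat.card Ω * (Fintype.card F - 1) < singCount Q) {u : V} (hu : Q u = 0) (hu0 : u ≠ 0) {ω ω' : Ω}
    (h : IsReg Q u ω) (h' : IsReg Q u ω') : ∃ w, pl u w = 0 ∧ ω' = eG Q u w • ω := by
  classical
  by_contra hc
  let _ : Fintype (Cls Ω u hu) := Fintype.ofFinite _
  have hcard : ∀ o : Ω, IsReg Q u o →
      Nat.card (bcls Q p hu (Quotient.mk (clsSetoid Q u hu) o)) * Fintype.card F = Nat.card V := by
    intro o ho
    rw [bcls_mk, bfix, ← card_mul_card_dualV p hQ (afix Q u o), mul_comm]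
    congr 1
    rw [← Nat.card_eq_fintype_card]
    exact Nat.card_congr (Equiv.ofBijective
      (fun t : F => (⟨t • u, smul_self_mem_afix hu o t⟩ : afix Q u o))
      ⟨fun t t' e => smul_left_injective F hu0 (congrArg Subtype.val e),
       fun a => ⟨(ho a.1 a.2).choose, Subtype.ext (ho a.1 a.2).choose_spec.symm⟩⟩)
  have hne : (Quotient.mk (clsSetoid Q u hu) ω : Cls Ω u hu) ≠ Quotient.mk _ ω' := fun e => by
    obtain ⟨w, hw, e'⟩ := Quotient.exact e
    exact hc ⟨w, hw, e'.symm⟩
  have hsum := card_mul_eq_sum (Ω := Ω) p hQ hu hu0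
  have h2 : Nat.card (bcls Q p hu (Quotient.mk (clsSetoid Q u hu) ω)) +
      Nat.card (bcls Q p hu (Quotient.mk (clsSetoid Q u hu) ω')) ≤ Nat.card Ω * Nat.card F := by
    rw [hsum, ← Finset.sum_pair (f := fun c => Nat.card (bcls Q p hu c)) hne]
    exact Finset.sum_le_sum_of_subset (Finset.subset_univ _)
  obtain ⟨z, hp⟩ := exists_pair hQ hu hu0
  obtain ⟨a, ha0, ha⟩ := exists_singular _ (polarNondeg_side hQ hp) (by have := finrank_side hp; omega)
  obtain ⟨a', hpa⟩ := exists_pair (polarNondeg_side hQ hp) ha ha0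
  have h3 := singCount_eq hp
  have h4 := singCount_upper hpa
  rw [show Module.finrank F (side Q u z) - 2 = Module.finrank F V - 4 by
    have := finrank_side hp; omega] at h4
  have hV : Nat.card V = Fintype.card F ^ Module.finrank F V := by
    rw [Module.natCard_eq_pow_finrank (K := F), Nat.card_eq_fintype_card]
  have e1 := hcard ω h
  have e2 := hcard ω' h'
  rw [Nat.card_eq_fintype_card (α := F)] at h2
  set q := Fintype.card F
  set m := Module.finrank F V - 4
  rw [show Module.finrank F V - 2 = m + 2 by omega] at h3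
  have hB : ∀ B, B * q = Nat.card V → B = q * q ^ (m + 2) := by
    intro B hB
    rw [hV, show Module.finrank F V = m + 2 + 1 + 1 by omega, pow_succ, pow_succ] at hB
    rw [mul_comm q]
    exact Nat.eq_of_mul_eq_mul_right (show 0 < q by omega) hB
  rw [hB _ e1, hB _ e2, ← Nat.mul_add, mul_comm _ q] at h2
  have h5 : 2 * q ^ (m + 2) ≤ Nat.card Ω := by
    rw [two_mul]; exact Nat.le_of_mul_le_mul_left h2 (by omega)
  obtain ⟨r, hr⟩ : ∃ r, q = r + 1 := ⟨q - 1, by omega⟩
  rw [show q - 1 = r by omega] at hN h3 h4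
  have h6 : q * (singCount (Q.comp (side Q u z).subtype) + 1) ≤ r * q ^ (m + 2) := by
    refine (Nat.mul_le_mul_left _ h4).trans ?_
    rw [pow_add, show q * (r * q ^ m + q * q ^ m) = q ^ m * (q * (r + q)) by ring,
      show r * (q ^ m * q ^ 2) = q ^ m * (q * (r * q)) by ring]
    refine Nat.mul_le_mul_left _ (Nat.mul_le_mul_left _ ?_)
    obtain ⟨j, rfl⟩ : ∃ j, r = j + 3 := ⟨r - 3, by omega⟩
    rw [hr]; nlinarith
  have h7 := Nat.mul_le_mul_right r h5
  rw [show 2 * q ^ (m + 2) * r = 2 * (r * q ^ (m + 2)) by ring] at h7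
  omega

/-- No radical orbit is regular. -/
theorem not_isReg (hQ : PolarNondeg Q) (hn : 7 ≤ Module.finrank F V) (hq : 4 ≤ Fintype.card F)
    (hN : Nat.card Ω * (Fintype.card F - 1) < singCount Q) {ω : Ω} {u : V} (hu : Q u = 0) (hu0 : u ≠ 0) :
    ¬ IsReg Q u ω := by
  intro hreg
  obtain ⟨z, hp⟩ := exists_pair hQ hu hu0
  have hQW := polarNondeg_side hQ hp
  have hd := finrank_side hp
  obtain ⟨a₁, ha₁, hQa₁⟩ := exists_singular _ hQW (by omega)
  obtain ⟨a₂, hpa⟩ := exists_pair hQW hQa₁ ha₁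
  set e : V := a₁.1 + a₂.1 with he_def
  have heW : e ∈ side Q u z := Submodule.add_mem _ a₁.2 a₂.2
  obtain ⟨heu, hez⟩ := mem_side.1 heW
  have he : Q e ≠ 0 := by
    rw [he_def, quad_add, show Q a₁.1 = 0 from hQa₁, show Q a₂.1 = 0 from hpa.qz,
      show pl a₁.1 a₂.1 = 1 from hpa.uz]
    simp
  obtain ⟨a, ha, ha1⟩ := exists_sq_ne_one hq
  obtain ⟨h1, -, h3⟩ := tor_apply hp heu hez he ha
  set τ := tor Q u z e a
  set lam := a * a
  have hlam : lam ≠ 0 := mul_ne_zero ha ha
  clear_value τ lam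
  have hW : ∀ x ∈ side Q u z, act τ x = x := fun x hx => h3 x (mem_side.1 hx).1 (mem_side.1 hx).2
  have hdec : ∀ w, pl u w = 0 → ∃ d ∈ side Q u z, ∀ o : Ω, eG Q u w • o = eG Q u d • o := by
    intro w hw
    obtain ⟨d, hd, e'⟩ := exists_side_decomp hp w
    rw [QuadraticMap.polar_comm Q w u, hw, zero_smul, add_zero] at e'
    exact ⟨d, hd, fun o => by rw [e', add_comm, eG_add_self hu (mem_side.1 hd).1]⟩
  have htau : ∀ d ∈ side Q u z, ∀ o : Ω, τ • eG Q u d • o = eG Q u (lam • d) • τ • o := fun d hd o => by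
    rw [← mul_smul, eG_conj' τ hu (mem_side.1 hd).1, h1, hW d hd, eG_smul_left hu (mem_side.1 hd).1, mul_smul]
  -- the fixed point of the torus
  obtain ⟨w₀, hw₀, hτω⟩ := reg_unique p hQ hn hq hN hu hu0 hreg (hreg.smul_of hu hlam h1)
  obtain ⟨d₀, hd₀, ed₀⟩ := hdec w₀ hw₀
  set c := (1 - lam)⁻¹ • d₀
  have hc : c ∈ side Q u z := Submodule.smul_mem _ _ hd₀
  set ω' := eG Q u c • ω with hω'
  have hreg' : IsReg Q u ω' := hreg.smul_of hu one_ne_zero (by rw [one_smul, eG_fix hu (mem_side.1 hc).1])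
  have hfix : τ • ω' = ω' := by
    rw [hω', htau c hc, hτω, ed₀, ← mul_smul, eG_mul hu (by simp [(mem_side.1 hc).1]) (mem_side.1 hd₀).1]
    congr 2
    have hne : (1 : F) - lam ≠ 0 := sub_ne_zero.2 fun e' => ha1 e'.symm
    rw [smul_smul]
    have : (lam * (1 - lam)⁻¹) • d₀ + d₀ = (1 - lam)⁻¹ • d₀ := by
      conv_lhs => arg 2; rw [← one_smul F d₀]
      rw [← add_smul]
      congr 1
      field_simp
      ring
    exact this
  clear_value c ω'
  have hcomm : ∀ g : eichGroup Q, act g u = u → (∀ o : Ω, τ • g • o = g • τ • o) → g • ω' = ω' := by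
    intro g hgu hg
    obtain ⟨w, hw, ew⟩ := reg_unique p hQ hn hq hN hu hu0 hreg'
      (hreg'.smul_of hu one_ne_zero (by rw [one_smul, hgu]) (g := g))
    obtain ⟨d, hd, ed⟩ := hdec w hw
    rw [ed] at ew
    have h4 : τ • g • ω' = g • ω' := by rw [hg, hfix]
    rw [ew, htau d hd, hfix] at h4
    have hld : pl u (lam • d) = 0 := by simp [(mem_side.1 hd).1]
    have h5 : eG Q u ((lam - 1) • d) • ω' = ω' := by
      rw [show (lam - 1) • d = -d + lam • d by module, ← eG_mul hu (by simp [(mem_side.1 hd).1]) hld,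
        mul_smul, h4, ← eG_inv hu (mem_side.1 hd).1, inv_smul_smul]
    obtain ⟨t, ht⟩ := hreg' _ ((mem_afix hu).2 ⟨by simp [(mem_side.1 hd).1], h5⟩)
    have h6 := congrArg (fun v => pl z v) ht
    simp only [QuadraticMap.polar_smul_right, (mem_side.1 hd).2, hp.zu, smul_eq_mul, mul_one, mul_zero] at h6
    rw [← h6, zero_smul, smul_eq_zero] at ht
    rw [ew, ht.resolve_left (sub_ne_zero.2 ha1), eG_zero hu, one_smul]
  have hroot : ∀ s ∈ side Q u z, ∀ c ∈ side Q u z, Q s = 0 → pl s c = 0 → eG Q s c • ω' = ω' := by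
    intro s hs c hc hQs hsc
    obtain ⟨hus, -⟩ := mem_side.1 hs
    obtain ⟨huc, -⟩ := mem_side.1 hc
    refine hcomm _ (eG_fix_of hQs hsc hus huc) fun o => ?_
    rw [← mul_smul, eG_conj' τ hQs hsc, hW s hs, hW c hc, mul_smul]
  -- every singular vector of the complement lies in the fixer at `z`
  have hxz : ∀ x ∈ side Q u z, Q x = 0 → ∀ t : F, t • x ∈ afix Q z ω' := by
    intro x hx hQx
    rcases eq_or_ne x 0 with rfl | hx0
    · intro t; rw [smul_zero]; exact zero_mem _
    obtain ⟨hux, hzx⟩ := mem_side.1 hx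
    obtain ⟨x', hpx⟩ := exists_pair hQW (u := (⟨x, hx⟩ : side Q u z)) hQx (fun e' => hx0 (congrArg Subtype.val e'))
    have hpx' : SingPair Q x x'.1 := ⟨hQx, hpx.qz, hpx.uz⟩
    have hA : ∀ c ∈ side Q u z, pl x c = 0 → c ∈ afix Q x ω' := fun c hc hxc =>
      (mem_afix hQx).2 ⟨hxc, hroot x hx c hc hQx hxc⟩
    have hB : ∀ y ∈ bfix Q p x ω', ∃ α γ l : F, y = α • u + γ • z + l • x := by
      intro y hy
      obtain ⟨y', hy', e'⟩ := exists_side_decomp hp y
      refine ⟨pl y z, pl y u, pl y' x'.1, ?_⟩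
      suffices y' - pl y' x'.1 • x = 0 by
        conv_lhs => rw [e', ← sub_add_cancel y' (pl y' x'.1 • x), this, zero_add]
      refine side_perp_eq_zero hQ hp (Submodule.sub_mem _ hy' (Submodule.smul_mem _ _ hx)) fun d hd => ?_
      have hd' : d - pl d x • x'.1 ∈ side Q u z := Submodule.sub_mem _ hd (Submodule.smul_mem _ _ x'.2)
      have hxd : pl x (d - pl d x • x'.1) = 0 := by simp [hpx'.uz, QuadraticMap.polar_comm Q x d]
      have h4 := bfix_perp p (fun t => hA _ (Submodule.smul_mem _ t hd')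
        (by rw [QuadraticMap.polar_smul_right, hxd, smul_zero])) hy
      rw [e', QuadraticMap.polar_add_left, QuadraticMap.polar_add_left, QuadraticMap.polar_smul_left,
        QuadraticMap.polar_smul_left, (mem_side.1 hd').1, (mem_side.1 hd').2, smul_zero, smul_zero, zero_add,
        zero_add] at h4
      rw [← sub_add_cancel d (pl d x • x'.1), QuadraticMap.polar_add_right, QuadraticMap.polar_sub_left, h4,
        QuadraticMap.polar_smul_left, hxd, QuadraticMap.polar_smul_right, QuadraticMap.polar_sub_left,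
        QuadraticMap.polar_smul_left, hpx'.uz]
      simp
    have hnr : ¬ IsReg Q x ω' := by
      intro hr
      obtain ⟨c, hc0, hc⟩ := exists_singular _ (polarNondeg_side hQW hpx) (by have := finrank_side hpx; omega)
      obtain ⟨t, ht⟩ := hr c.1.1 (hA _ c.1.2 (mem_side.1 c.2).1)
      have h5 : pl x'.1 c.1.1 = 0 := (mem_side.1 c.2).2
      rw [ht, QuadraticMap.polar_smul_right, hpx'.zu, smul_eq_mul, mul_one] at h5
      rw [h5, zero_smul] at ht
      exact hc0 (Subtype.ext (Subtype.ext ht))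
    have hxu : pl x u = 0 := by rw [QuadraticMap.polar_comm]; exact hux
    have hxz' : pl x z = 0 := by rw [QuadraticMap.polar_comm]; exact hzx
    have hprod : ∀ y ∈ bfix Q p x ω', pl y z = 0 ∨ pl y u = 0 := by
      intro y hy
      have h0 : Q y = 0 := by
        by_contra h0
        exact hnr (isReg_of_aniso p hQ hn hq hN hQx hx0 hy h0)
      obtain ⟨α, γ, l, rfl⟩ := hB y hy
      have e1 : pl (α • u + γ • z + l • x) z = α := by
        simp [QuadraticMap.polar_add_left, QuadraticMap.polar_smul_left, hp.zz, hp.uz, hxz']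
      have e2 : pl (α • u + γ • z + l • x) u = γ := by
        simp [QuadraticMap.polar_add_left, QuadraticMap.polar_smul_left, hp.uu, hp.zu, hxu]
      rw [e1, e2]
      refine mul_eq_zero.1 ?_
      simpa [quad_add, quad_smul, hu, hp.qz, hQx, QuadraticMap.polar_add_left, QuadraticMap.polar_smul_left,
        QuadraticMap.polar_smul_right, hp.uz, hux, hzx, mul_comm] using h0
    have hall : ∀ y ∈ bfix Q p x ω', pl y z = 0 := by
      obtain ⟨y₁, hy₁, hy₁u⟩ : ∃ y ∈ bfix Q p x ω', pl y u ≠ 0 := by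
        by_contra hcon
        push Not at hcon
        have hxA := symm_mem_afix hQx hu hxu (fun t => mem_afix_of_perp p hQ fun y hy => by
          rw [QuadraticMap.polar_smul_right, hcon y hy, smul_zero]) (1 : F)
        rw [one_smul] at hxA
        obtain ⟨t, ht⟩ := hreg' x hxA
        have h5 : pl z x = 0 := hzx
        rw [ht, QuadraticMap.polar_smul_right, hp.zu, smul_eq_mul, mul_one] at h5
        exact hx0 (by rw [ht, h5, zero_smul])
      have hy₁z : pl y₁ z = 0 := (hprod y₁ hy₁).resolve_right hy₁u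
      intro y hy
      rcases hprod y hy with h' | h'
      · exact h'
      · have h5 := hprod _ ((bfix Q p x ω').add_mem hy hy₁)
        rw [QuadraticMap.polar_add_left, QuadraticMap.polar_add_left, hy₁z, h', add_zero, zero_add] at h5
        exact h5.resolve_right hy₁u
    exact symm_mem_afix hQx hp.qz hxz' fun t => mem_afix_of_perp p hQ fun y hy => by
      rw [QuadraticMap.polar_smul_right, hall y hy, smul_zero]
  -- so the radical at `z` fixes the point
  refine not_fullU hQ hn hq hN hp.qz hp.symm.ne_zero (ω := ω') fun w hw => ?_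
  refine ((mem_afix hp.qz).1 (mem_afix_of_perp p hQ fun y hy => ?_)).2
  have hyz : pl z y = 0 := bfix_polar p hp.qz hy
  obtain ⟨y', hy', e'⟩ := exists_side_decomp hp y
  rw [QuadraticMap.polar_comm Q y z, hyz, zero_smul, zero_add] at e'
  have hy0 : y' = 0 := side_singular_perp hQ (by omega) hp hy' fun x hx hQx => by
    have h4 := bfix_perp p (hxz x hx hQx) hy
    rwa [e', QuadraticMap.polar_add_left, QuadraticMap.polar_smul_left, (mem_side.1 hx).2, smul_zero,
      zero_add] at h4
  rw [e', hy0, add_zero, QuadraticMap.polar_smul_left, hw, smul_zero]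

/-- The duals of the fixers are singular. -/
theorem bfix_singular (hQ : PolarNondeg Q) (hn : 7 ≤ Module.finrank F V) (hq : 4 ≤ Fintype.card F)
    (hN : Nat.card Ω * (Fintype.card F - 1) < singCount Q) {ω : Ω} {u b : V} (hu : Q u = 0) (hu0 : u ≠ 0)
    (hb : b ∈ bfix Q p u ω) : Q b = 0 := by
  by_contra h
  exact not_isReg p hQ hn hq hN hu hu0 (isReg_of_aniso p hQ hn hq hN hu hu0 hb h)

variable (Q) in
/-- The span of the dual. -/
def tspan (u : V) (ω : Ω) : Submodule F V := Submodule.span F (bfix Q p u ω : Set V)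

/-- The spans of the duals are totally singular. -/
theorem tspan_singular (hQ : PolarNondeg Q) (hn : 7 ≤ Module.finrank F V) (hq : 4 ≤ Fintype.card F)
    (hN : Nat.card Ω * (Fintype.card F - 1) < singCount Q) {ω : Ω} {u x : V} (hu : Q u = 0) (hu0 : u ≠ 0)
    (hx : x ∈ tspan Q p u ω) : Q x = 0 := by
  have h0 : ∀ a ∈ bfix Q p u ω, ∀ b ∈ bfix Q p u ω, pl a b = 0 := fun a ha b hb => by
    have h := bfix_singular p hQ hn hq hN hu hu0 ((bfix Q p u ω).add_mem ha hb)
    rwa [quad_add, bfix_singular p hQ hn hq hN hu hu0 ha, bfix_singular p hQ hn hq hN hu hu0 hb, add_zero,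
      zero_add] at h
  have h1 : ∀ a ∈ bfix Q p u ω, ∀ y ∈ tspan Q p u ω, pl a y = 0 := fun a ha y hy => by
    induction hy using Submodule.span_induction with
    | mem y hy => exact h0 a ha y hy
    | zero => exact QuadraticMap.polar_zero_right Q a
    | add y y' _ _ e e' => rw [QuadraticMap.polar_add_right, e, e', add_zero]
    | smul t y _ e => rw [QuadraticMap.polar_smul_right, e, smul_zero]
  have h2 : ∀ y ∈ tspan Q p u ω, ∀ y' ∈ tspan Q p u ω, pl y y' = 0 := fun y hy y' hy' => by
    induction hy using Submodule.span_induction with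
    | mem y hy => exact h1 y hy y' hy'
    | zero => exact QuadraticMap.polar_zero_left Q y'
    | add y y'' _ _ e e' => rw [QuadraticMap.polar_add_left, e, e', add_zero]
    | smul t y _ e => rw [QuadraticMap.polar_smul_left, e, smul_zero]
  induction hx using Submodule.span_induction with
  | mem y hy => exact bfix_singular p hQ hn hq hN hu hu0 hy
  | zero => exact map_zero Q
  | add y y' hy hy' e e' => rw [quad_add, e, e', h2 y hy y' hy', add_zero, add_zero]
  | smul t y _ e => rw [quad_smul, e, mul_zero]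

end CfsgLib.OrthMinIndex
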