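/-
The radical orbits through a singular vector: either all duals span lines over the point, or all are
maximal totally singular subspaces, one for each orbit.
-/
import Cfsg.Agent.Lib.OrthMinIndex.Regular

set_option autoImplicit false

namespace CfsgLib.OrthMinIndex

open CfsgLib.Classical

variable {F V : Type*} [Field F] [AddCommGroup V] [Module F V] {Q : QuadraticForm F V}
variable {Ω : Type*} [MulAction (eichGroup Q) Ω]

local notation "pl" => QuadraticMap.polar Q

theorem act_lin (g : eichGroup Q) (x y : F) (v w : V) :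
    act g (x • v + y • w) = x • act g v + y • act g w := by
  change (g : qAut Q).1 (x • v + y • w) = _
  rw [map_add, map_smul, map_smul]

variable [Fintype F] [FiniteDimensional F V]

/-- The group moves a singular vector to any singular line. -/
theorem exists_move_line (hQ : PolarNondeg Q) (hn : 3 ≤ Module.finrank F V) {e e' : V} (he : Q e = 0)
    (he' : Q e' = 0) (he0 : e ≠ 0) (he0' : e' ≠ 0) :
    ∃ (g : eichGroup Q) (s : F), s ≠ 0 ∧ act g e = s • e' := by
  by_cases hee : pl e e' = 0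
  · by_cases hdep : ∃ s : F, e = s • e'
    · obtain ⟨s, hs⟩ := hdep
      exact ⟨1, s, fun h0 => he0 (by rw [hs, h0, zero_smul]), (act_one e).trans hs⟩
    push Not at hdep
    have hli : LinearIndependent F ![e', e] :=
      (LinearIndependent.pair_iff' he0').2 fun a h => hdep a h.symm
    have h2 := finrank_le_half hQ (Submodule.span F (Set.range ![e', e])) fun x hx => by
      rw [Matrix.range_cons, Matrix.range_cons, Matrix.range_empty, Set.union_empty, Set.singleton_union,
        Submodule.mem_span_pair] at hx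
      obtain ⟨a, b, rfl⟩ := hx
      simp [quad_add, quad_smul, he, he', QuadraticMap.polar_smul_left, QuadraticMap.polar_smul_right,
        QuadraticMap.polar_comm Q e' e, hee]
    rw [finrank_span_eq_card hli, Fintype.card_fin] at h2
    obtain ⟨g, hg, hge⟩ := exists_move_eichGroup Q hQ (by omega) he he' he0 he0'
    exact ⟨⟨g, hg⟩, 1, one_ne_zero, hge.trans (one_smul F e').symm⟩
  set e'' := (pl e e')⁻¹ • e'
  have hp : SingPair Q e e'' := ⟨he, by rw [quad_smul, he', mul_zero],
    by rw [QuadraticMap.polar_smul_right, smul_eq_mul, inv_mul_cancel₀ hee]⟩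
  obtain ⟨w, hw, hQw⟩ : ∃ w ∈ side Q e e'', Q w ≠ 0 := by
    by_contra hc
    push Not at hc
    have h1 := finrank_side hp
    have h2 : side Q e e'' = ⊥ := (Submodule.eq_bot_iff _).2 fun w hw =>
      side_perp_eq_zero hQ hp hw fun x hx => polar_eq_zero_of_singular hc hw hx
    rw [h2, finrank_bot] at h1
    omega
  obtain ⟨hew, hew'⟩ := mem_side.1 hw
  set v := e + w + (-Q w) • e'' with hv
  have hQv : Q v = 0 := by
    simp [hv, quad_add, quad_smul, he, hp.qz, QuadraticMap.map_smul, QuadraticMap.polar_smul_right,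
      QuadraticMap.polar_add_left, hp.uz, hew, QuadraticMap.polar_comm Q w e'', hew']
  have h3 : pl e v = -Q w := by simp [hv, hp.uu, hew, hp.uz]
  have h4 : pl ((-Q w) • e'') v = -Q w := by
    simp only [hv, QuadraticMap.polar_smul_left, QuadraticMap.polar_add_right, QuadraticMap.polar_smul_right,
      hp.zu, hew', hp.zz, smul_eq_mul, mul_zero, add_zero, mul_one]
  obtain ⟨d, -, hge⟩ := exists_eich_move Q he (show Q ((-Q w) • e'') = 0 by rw [quad_smul, hp.qz, mul_zero])
    hQv (h3.trans h4.symm) (by rw [h3]; exact neg_ne_zero.2 hQw)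
  exact ⟨eG Q v d, -Q w * (pl e e')⁻¹, mul_ne_zero (neg_ne_zero.2 hQw) (inv_ne_zero hee),
    hge.trans (smul_smul _ _ _)⟩

omit [Fintype F] [FiniteDimensional F V] in
/-- The scalar on a totally singular plane. -/
theorem exists_scale {u z b b' : V} (hp : SingPair Q u z) (hpb : SingPair Q b b') (h1 : pl u b = 0)
    (h2 : pl z b = 0) (h3 : pl u b' = 0) (h4 : pl z b' = 0) {ν : F} (hν : ν ≠ 0) :
    ∃ g : eichGroup Q, act g u = ν • u ∧ act g b = ν • b ∧
      ∀ x, pl u x = 0 → pl z x = 0 → pl b x = 0 → pl b' x = 0 → act g x = x := by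
  set e := b + b' with he_def
  have heu : pl u e = 0 := by rw [he_def, QuadraticMap.polar_add_right, h1, h3, add_zero]
  have hez : pl z e = 0 := by rw [he_def, QuadraticMap.polar_add_right, h2, h4, add_zero]
  have hQe : Q e ≠ 0 := by rw [he_def, quad_add, hpb.qu, hpb.qz, hpb.uz]; simp
  have hbu : pl b u = 0 := by rw [QuadraticMap.polar_comm]; exact h1
  have hbz : pl b z = 0 := by rw [QuadraticMap.polar_comm]; exact h2
  have hb'u : pl b' u = 0 := by rw [QuadraticMap.polar_comm]; exact h3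
  have hX : ∀ (m x y : F), act (eG Q u ((-m) • b')) (x • u + y • b) = (x + m * y) • u + y • b := by
    intro m x y
    rw [eG_apply hp.qu (by simp [h3])]
    simp only [QuadraticMap.polar_add_left, QuadraticMap.polar_smul_left, QuadraticMap.polar_smul_right,
      hp.uu, hbu, h3, hpb.uz, smul_eq_mul, mul_zero, add_zero, zero_add, mul_one, zero_smul]
    module
  have hY : ∀ (k x y : F), act (eG Q b ((-k) • z)) (x • u + y • b) = x • u + (y + k * x) • b := by
    intro k x y
    rw [eG_apply hpb.qu (by simp [hbz])]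
    simp only [QuadraticMap.polar_add_left, QuadraticMap.polar_smul_left, QuadraticMap.polar_smul_right,
      h1, hpb.uu, hp.uz, hbz, smul_eq_mul, mul_zero, add_zero, zero_add, mul_one, zero_smul]
    module
  set c := ν⁻¹
  set h := eG Q u ((-c) • b') * eG Q b ((-(-ν)) • z) * eG Q u ((-c) • b') * eG Q u ((-(-1 : F)) • b') *
    eG Q b ((-(1 : F)) • z) * eG Q u ((-(-1 : F)) • b')
  have hcν : c * ν = 1 := inv_mul_cancel₀ hν
  have hh : ∀ x y : F, act h (x • u + y • b) = (c * x) • u + (ν * y) • b := by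
    intro x y
    simp only [h, act_mul, hX, hY]
    simp only [c]
    match_scalars <;> field_simp <;> ring
  obtain ⟨t1, t2, t3⟩ := tor_apply hp heu hez hQe hν
  refine ⟨tor Q u z e ν * h, ?_, ?_, fun x g1 g2 g3 g4 => ?_⟩
  · have := hh 1 0
    rw [one_smul, zero_smul, add_zero, mul_zero, zero_smul, add_zero, mul_one] at this
    rw [act_mul, this, ← add_zero (c • u), ← zero_smul F u, act_lin, t1, zero_smul, add_zero, smul_smul]
    congr 1
    rw [← mul_assoc, hcν, one_mul]
  · have := hh 0 1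
    rw [one_smul, zero_smul, zero_add, mul_zero, zero_smul, zero_add, mul_one] at this
    rw [act_mul, this, ← add_zero (ν • b), ← zero_smul F b, act_lin, t3 b h1 h2, zero_smul, add_zero]
  · have f1 : ∀ m : F, act (eG Q u (m • b')) x = x := fun m => eG_fix_of hp.qu (by simp [h3])
      (by rw [QuadraticMap.polar_comm]; exact g1)
      (by rw [QuadraticMap.polar_smul_right, QuadraticMap.polar_comm, g4, smul_zero])
    have f2 : ∀ m : F, act (eG Q b (m • z)) x = x := fun m => eG_fix_of hpb.qu (by simp [hbz])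
      (by rw [QuadraticMap.polar_comm]; exact g3)
      (by rw [QuadraticMap.polar_smul_right, QuadraticMap.polar_comm, g2, smul_zero])
    simp only [h, act_mul, f1, f2]
    exact t3 x g1 g2

variable [Finite V] [Finite Ω]
variable (p : ℕ) [Fact p.Prime] [Algebra (ZMod p) F] [Module (ZMod p) V]
include p

/-- Transport does not change the size of a dual. -/
theorem card_bfix_transport {u : V} (hu : Q u = 0) (g : eichGroup Q) {l : F} (hl : l ≠ 0)
    (hgu : act g u = l • u) (ω : Ω) : Nat.card (bfix Q p u (g • ω)) = Nat.card (bfix Q p u ω) := by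
  have key : ∀ (g : eichGroup Q) (l : F), l ≠ 0 → act g u = l • u → ∀ ω : Ω,
      Nat.card (bfix Q p u ω) ≤ Nat.card (bfix Q p u (g • ω)) := by
    intro g l hl hgu ω
    refine Nat.card_le_card_of_injective
      (fun y => ⟨_, mem_bfix_transport p hu g hl hgu y.2⟩) fun y y' e => Subtype.ext ?_
    have h := smul_right_injective V (inv_ne_zero hl) (congrArg Subtype.val e)
    exact (g : qAut Q).1.injective h
  refine le_antisymm ?_ (key g l hl hgu ω)
  have hgu' : act g⁻¹ u = l⁻¹ • u := by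
    have h := act_inv_act g u
    rw [hgu] at h
    have h' : l • act g⁻¹ u = u := by rw [← map_smul]; exact h
    rw [← h', inv_smul_smul₀ hl, h']
  have := key g⁻¹ l⁻¹ (inv_ne_zero hl) hgu' (g • ω)
  rwa [inv_smul_smul] at this

theorem tspan_map {u : V} {ω : Ω} (hu : Q u = 0) (g : eichGroup Q) {y : V} (hy : y ∈ tspan Q p u ω) :
    act g y ∈ tspan Q p (act g u) (g • ω) := by
  have hle : (tspan Q p u ω).map ((g : qAut Q).1 : V →ₗ[F] V) ≤ tspan Q p (act g u) (g • ω) := by
    rw [tspan, Submodule.map_span, Submodule.span_le]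
    rintro _ ⟨x, hx, rfl⟩
    exact Submodule.subset_span (act_mem_bfix p g hu hx)
  exact hle (Submodule.mem_map_of_mem hy)

theorem tspan_smul {u : V} {ω : Ω} (hu : Q u = 0) {t : F} (ht : t ≠ 0) :
    tspan Q p u ω ≤ tspan Q p (t • u) ω := by
  rw [tspan, Submodule.span_le]
  intro x hx
  have := (tspan Q p (t • u) ω).smul_mem t⁻¹ (Submodule.subset_span (mem_bfix_smul p hu ht hx))
  rwa [inv_smul_smul₀ ht] at this

theorem self_mem_tspan {u : V} {ω : Ω} : u ∈ tspan Q p u ω := by
  have := Submodule.subset_span (R := F) (smul_self_mem_bfix (u := u) (ω := ω) (Q := Q) p 1)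
  rwa [one_smul] at this

/-- The complement of the line takes one part in `q` of a dual. -/
theorem card_bfix_side {u z : V} (hp : SingPair Q u z) (ω : Ω) :
    Nat.card (bfix Q p u ω) =
      Nat.card F * Nat.card {w : side Q u z // (w : V) ∈ bfix Q p u ω} := by
  rw [← Nat.card_prod]
  refine (Nat.card_congr (Equiv.ofBijective
    (fun x : F × {w : side Q u z // (w : V) ∈ bfix Q p u ω} =>
      (⟨x.1 • u + x.2.1.1, (bfix Q p u ω).add_mem (smul_self_mem_bfix p _) x.2.2⟩ : bfix Q p u ω))
    ⟨?_, ?_⟩)).symm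
  · rintro ⟨t, w, hw⟩ ⟨t', w', hw'⟩ e
    have e' : t • u + w.1 = t' • u + w'.1 := congrArg Subtype.val e
    have h1 := congrArg (fun v => pl z v) e'
    simp only [QuadraticMap.polar_add_right, QuadraticMap.polar_smul_right, hp.zu, (mem_side.1 w.2).2,
      (mem_side.1 w'.2).2, smul_eq_mul, mul_one, add_zero] at h1
    subst h1
    rw [add_left_cancel_iff] at e'
    obtain rfl : w = w' := Subtype.ext e'
    rfl
  · rintro ⟨y, hy⟩
    obtain ⟨w, hw, e⟩ := exists_side_decomp hp y
    rw [QuadraticMap.polar_comm Q y u, bfix_polar p hp.qu hy, zero_smul, add_zero] at e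
    refine ⟨⟨pl y z, ⟨w, hw⟩, ?_⟩, Subtype.ext e.symm⟩
    have := (bfix Q p u ω).sub_mem hy (smul_self_mem_bfix (u := u) p (pl y z))
    conv at this => arg 2; arg 1; rw [e]
    rwa [add_sub_cancel_left] at this

variable [MulAction.IsPretransitive (eichGroup Q) Ω] [Nontrivial Ω]

/-- At most `q + 1` radical orbits pass through a singular vector. -/
theorem card_clsAt_singular (hQ : PolarNondeg Q) (hn : 7 ≤ Module.finrank F V) (hq : 4 ≤ Fintype.card F)
    (hN : Nat.card Ω * (Fintype.card F - 1) < singCount Q) {u z : V} (hp : SingPair Q u z)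
    {b : side Q u z} (hb : Q (b : V) = 0) (hb0 : b ≠ 0) :
    Nat.card (ClsAt Q Ω p hp.qu (b : V)) ≤ Fintype.card F + 1 := by
  classical
  by_contra hlt
  push Not at hlt
  have hu := hp.qu
  have hQW := polarNondeg_side hQ hp
  have hd := finrank_side hp
  let ι := F × {w : side Q u z // w ≠ 0 ∧ Q (w : V) = 0}
  let vec : ι → V := fun x => x.1 • u + x.2.1.1
  have hout : ∀ (w : side Q u z), w ≠ 0 → ∀ (t s : F), t • u + (w : V) ≠ s • u := by
    intro w hw t s e
    have e' : (w : V) = (s - t) • u := by linear_combination (norm := module) e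
    have h1 := (mem_side.1 w.2).2
    rw [e', QuadraticMap.polar_smul_right, hp.zu, smul_eq_mul, mul_one] at h1
    exact hw (Subtype.ext (by rw [e', h1, zero_smul]; rfl))
  have hinj : Function.Injective vec := by
    rintro ⟨t, w, hw⟩ ⟨t', w', hw'⟩ e
    have e' : t • u + (w : V) = t' • u + (w' : V) := e
    have h1 := congrArg (fun v => pl z v) e'
    simp only [QuadraticMap.polar_add_right, QuadraticMap.polar_smul_right, hp.zu, (mem_side.1 w.2).2,
      (mem_side.1 w'.2).2, smul_eq_mul, mul_one, add_zero] at h1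
    subst h1
    rw [add_left_cancel_iff] at e'
    obtain rfl : w = w' := Subtype.ext e'
    rfl
  let _ : Fintype ι := Fintype.ofFinite ι
  have hsum := sum_clsAt_le (Ω := Ω) p hQ hu hp.ne_zero vec hinj (fun i s => hout i.2.1 i.2.2.1 i.1 s)
  have heq : ∀ i, Nat.card (ClsAt Q Ω p hu (vec i)) = Nat.card (ClsAt Q Ω p hu (b : V)) := fun i =>
    (card_clsAt_eq p hQ (by omega) hu hp.ne_zero (mem_side.1 b.2).1 (perp_coord hp i.1 i.2.1).1
      (fun s e => hout b hb0 0 s (by rw [zero_smul, zero_add]; exact e))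
      (fun s => hout i.2.1 i.2.2.1 i.1 s) one_ne_zero
      (by rw [(perp_coord hp i.1 i.2.1).2, i.2.2.2, hb, mul_zero])).symm
  rw [Finset.sum_congr rfl fun i _ => heq i, Finset.sum_const, smul_eq_mul, Finset.card_univ,
    ← Nat.card_eq_fintype_card, Nat.card_prod, Nat.card_eq_fintype_card (α := F),
    show Nat.card {w : side Q u z // w ≠ 0 ∧ Q (w : V) = 0} = singCount (Q.comp (side Q u z).subtype) from rfl]
    at hsum
  obtain ⟨b', hpb⟩ := exists_pair hQW (u := b) hb hb0
  have hd' := finrank_side hpb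
  obtain ⟨e, he0, he⟩ := exists_singular _ (polarNondeg_side hQW hpb) (by omega)
  obtain ⟨e', hpe⟩ := exists_pair (polarNondeg_side hQW hpb) he he0
  have h1 := singCount_eq hp
  have h2 := singCount_eq hpb
  have h3 := singCount_lower hpe
  rw [show Module.finrank F (side (Q.comp (side Q u z).subtype) b b') - 2 = Module.finrank F V - 6 by omega]
    at h3
  rw [show Module.finrank F (side Q u z) - 2 = Module.finrank F V - 4 by omega] at h2
  set q := Fintype.card F
  set m := Module.finrank F V - 6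
  rw [show Module.finrank F V - 2 = m + 4 by omega] at h1
  rw [show Module.finrank F V - 4 = m + 2 by omega] at h2
  set S1 := singCount (Q.comp (side Q u z).subtype)
  set S00 := singCount ((Q.comp (side Q u z).subtype).comp
    (side (Q.comp (side Q u z).subtype) b b').subtype)
  set μ := Nat.card (ClsAt Q Ω p hu (b : V))
  have h5 : (q + 2) * S1 ≤ Nat.card Ω := by
    refine le_of_mul_le_mul_left (le_trans ?_ ((Nat.le_add_right _ _).trans hsum |>.trans
      (le_of_eq (mul_comm _ q)))) (show 0 < q by omega)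
    rw [mul_comm (q * S1) μ, ← mul_assoc, ← mul_assoc, mul_comm μ q]
    exact Nat.mul_le_mul_right _ (Nat.mul_le_mul_left _ (by omega))
  obtain ⟨r, hr⟩ : ∃ r, q = r + 4 := ⟨q - 4, by omega⟩
  rw [show q - 1 = r + 3 by omega] at hN h1 h2 h3
  have h6 := Nat.mul_le_mul_right (r + 3) h5
  have e1 : (q + 2) * S1 * (r + 3) = q * S1 + (r * r + 8 * r + 14) * S1 := by rw [hr]; ring
  have h7 : (r + 3) * q ^ (m + 4) + q ≤ (r * r + 8 * r + 14) * S1 + 1 := by
    have g1 : q * S00 + (q - 1) + (r + 3) * q ^ (m + 2) = S1 := by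
      rw [Nat.mul_add, Nat.mul_one] at h2; omega
    have g2 : (r + 3) * q ^ m ≤ S00 := by omega
    rw [← g1]
    have g3 : (r + 3) * q ^ (m + 4) ≤
        (r * r + 8 * r + 14) * (q * ((r + 3) * q ^ m) + (r + 3) * q ^ (m + 2)) := by
      rw [pow_add, pow_add, show (r + 3) * (q ^ m * q ^ 4) = q ^ m * ((r + 3) * q * q ^ 3) by ring,
        show (r * r + 8 * r + 14) * (q * ((r + 3) * q ^ m) + (r + 3) * (q ^ m * q ^ 2)) =
          q ^ m * ((r + 3) * q * ((r * r + 8 * r + 14) * (1 + q))) by ring]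
      refine Nat.mul_le_mul_left _ (Nat.mul_le_mul_left _ ?_)
      rw [hr]; nlinarith
    have g4 : (r * r + 8 * r + 14) * (q * ((r + 3) * q ^ m) + (q - 1) + (r + 3) * q ^ (m + 2)) ≤
        (r * r + 8 * r + 14) * (q * S00 + (q - 1) + (r + 3) * q ^ (m + 2)) :=
      Nat.mul_le_mul_left _ (Nat.add_le_add_right (Nat.add_le_add_right (Nat.mul_le_mul_left _ g2) _) _)
    have g5 : (r * r + 8 * r + 14) * (q * ((r + 3) * q ^ m) + (q - 1) + (r + 3) * q ^ (m + 2)) =
        (r * r + 8 * r + 14) * (q * ((r + 3) * q ^ m) + (r + 3) * q ^ (m + 2)) +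
          (r * r + 8 * r + 14) * (q - 1) := by ring
    have g6 : 1 * (q - 1) ≤ (r * r + 8 * r + 14) * (q - 1) := Nat.mul_le_mul_right _ (by omega)
    omega
  rw [Nat.mul_add, Nat.mul_one] at h1
  omega

/-- A dual of dimension more than two is a maximal totally singular subspace, and the orbits through
one of its vectors are told apart by their duals. -/
theorem big_cls (hQ : PolarNondeg Q) (hn : 7 ≤ Module.finrank F V) (hq : 4 ≤ Fintype.card F)
    (hN : Nat.card Ω * (Fintype.card F - 1) < singCount Q) {u z : V} (hp : SingPair Q u z)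
    {b : side Q u z} (hb0 : b ≠ 0) {ω₀ : Ω} (hbω : (b : V) ∈ bfix Q p u ω₀)
    (h3 : 3 ≤ Module.finrank F (tspan Q p u ω₀)) :
    ∀ ω : Ω, (b : V) ∈ bfix Q p u ω → Nat.card (bfix Q p u ω) = Fintype.card F ^ (Module.finrank F V / 2) ∧
      ∀ ω' : Ω, bfix Q p u ω' = bfix Q p u ω → ∃ w, pl u w = 0 ∧ eG Q u w • ω' = ω := by
  classical
  have hu := hp.qu
  set q := Fintype.card F with hqdef
  set n := Module.finrank F V with hndef
  have hb : Q (b : V) = 0 := bfix_singular p hQ hn hq hN hu hp.ne_zero hbω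
  have hQW := polarNondeg_side hQ hp
  have hd := finrank_side hp
  obtain ⟨b', hpb⟩ := exists_pair hQW (u := b) hb hb0
  have hQW0 := polarNondeg_side hQW hpb
  have hd' := finrank_side hpb
  have hbu : pl u (b : V) = 0 := (mem_side.1 b.2).1
  have hbz : pl z (b : V) = 0 := (mem_side.1 b.2).2
  have hbb : pl (b : V) b'.1 = 1 := hpb.uz
  have hbV : SingPair Q (b : V) b'.1 := ⟨hb, hpb.qz, hbb⟩
  have he : ∀ e : (side (Q.comp (side Q u z).subtype) b b'), pl u e.1.1 = 0 ∧ pl z e.1.1 = 0 ∧ pl (b : V) e.1.1 = 0 ∧ pl b'.1 e.1.1 = 0 := fun e =>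
    ⟨(mem_side.1 e.1.2).1, (mem_side.1 e.1.2).2, (mem_side.1 e.2).1, (mem_side.1 e.2).2⟩
  set T := tspan Q p u ω₀ with hT
  have hTs : ∀ x ∈ T, Q x = 0 := fun x hx => tspan_singular p hQ hn hq hN hu hp.ne_zero hx
  have hTd := finrank_le_half hQ T hTs
  have hbT : (b : V) ∈ T := Submodule.subset_span hbω
  have huT : u ∈ T := self_mem_tspan p
  -- the components in the inner complement
  have comp : ∀ y ∈ T, ∃ (α β : F) (e : (side (Q.comp (side Q u z).subtype) b b')), y = α • u + β • (b : V) + e.1.1 ∧ Q e.1.1 = 0 := by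
    intro y hy
    obtain ⟨w, hw, e1⟩ := exists_side_decomp hp y
    rw [polar_eq_zero_of_singular hTs hy huT, zero_smul, add_zero] at e1
    obtain ⟨e, he', e2⟩ := exists_side_decomp hpb (⟨w, hw⟩ : (side Q u z))
    have h1 : pl w (b : V) = 0 := by
      have := polar_eq_zero_of_singular hTs hy hbT
      rwa [e1, QuadraticMap.polar_add_left, QuadraticMap.polar_smul_left, hbu, smul_zero, zero_add] at this
    rw [show QuadraticMap.polar (Q.comp (side Q u z).subtype) (⟨w, hw⟩ : (side Q u z)) b = 0 from h1, zero_smul, add_zero] at e2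
    have e3 : w = pl w b'.1 • (b : V) + e.1 := congrArg Subtype.val e2
    have e4 : y = pl y z • u + pl w b'.1 • (b : V) + e.1 := by rw [add_assoc, ← e3]; exact e1
    refine ⟨_, _, ⟨e, he'⟩, e4, ?_⟩
    have h0 := hTs y hy
    rw [e4] at h0
    obtain ⟨g1, g2, g3, g4⟩ := he ⟨e, he'⟩
    simpa [quad_add, quad_smul, hu, hb, QuadraticMap.polar_add_left, QuadraticMap.polar_smul_left,
      QuadraticMap.polar_smul_right, hbu, g1, g3] using h0
  obtain ⟨y₀, hy₀, hy₀o⟩ : ∃ y ∈ bfix Q p u ω₀, ∀ k l : F, y ≠ k • u + l • (b : V) := by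
    by_contra hcon
    push Not at hcon
    have hle : T ≤ Submodule.span F {u, (b : V)} := Submodule.span_le.2 fun x hx => by
      obtain ⟨k, l, rfl⟩ := hcon x hx
      exact Submodule.mem_span_pair.2 ⟨k, l, rfl⟩
    have h4 := (Submodule.finrank_mono hle).trans (finrank_span_le_card _)
    have h5 : ({u, (b : V)} : Set V).toFinset.card ≤ 2 := by simpa using Finset.card_le_two
    omega
  obtain ⟨α₀, β₀, e₀, ey₀, hQe₀⟩ := comp y₀ (Submodule.subset_span hy₀)
  have he₀ : e₀ ≠ 0 := fun e => hy₀o α₀ β₀ (by rw [ey₀, e]; simp)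
  have hy₀' : β₀ • (b : V) + e₀.1.1 ∈ bfix Q p u ω₀ := by
    have := (bfix Q p u ω₀).sub_mem hy₀ (smul_self_mem_bfix (u := u) p α₀)
    rwa [ey₀, add_assoc, add_sub_cancel_left] at this
  -- the moves
  have move : ∀ (x : F × {e : (side (Q.comp (side Q u z).subtype) b b') // e ≠ 0 ∧ Q e.1.1 = 0}), ∃ ω : Ω, (b : V) ∈ bfix Q p u ω ∧
      Nat.card (bfix Q p u ω) = Nat.card (bfix Q p u ω₀) ∧ x.2.1.1.1 + x.1 • (b : V) ∈ bfix Q p u ω := by
    rintro ⟨t, e, he0, hQe⟩
    obtain ⟨k, s, hs, hk⟩ := exists_move_line hQW0 (by omega) (e := e₀) (e' := e) hQe₀ hQe he₀ he0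
    obtain ⟨k₁, hk₁b, hk₁b', hk₁⟩ := exists_lift hpb k.2
    obtain ⟨g₁, hg₁u, hg₁z, hg₁⟩ := exists_lift hp k₁.2
    obtain ⟨g₂, hg₂u, hg₂b, hg₂⟩ := exists_scale hp hbV hbu hbz (mem_side.1 b'.2).1 (mem_side.1 b'.2).2 hs
    obtain ⟨ee', hpe⟩ := exists_pair hQW0 (u := e) hQe he0
    obtain ⟨f1, f2, f3, f4⟩ := he ee'
    set g₃ := eG Q (b : V) ((β₀ - t) • ee'.1.1)
    have hd3 : pl (b : V) ((β₀ - t) • ee'.1.1) = 0 := by rw [QuadraticMap.polar_smul_right, f3, smul_zero]
    have hee : pl e.1.1 ee'.1.1 = 1 := hpe.uz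
    set g := g₃ * (g₂ * g₁)
    have hgu : act g u = s • u := by
      have h1 : act g₃ u = u := eG_fix_of hb hd3 hbu (by rw [QuadraticMap.polar_smul_right, f1, smul_zero])
      rw [act_mul, act_mul, hg₁u, hg₂u]
      change (g₃ : qAut Q).1 (s • u) = _
      rw [map_smul]
      exact congrArg (s • ·) h1
    have hg₁b : act g₁ (b : V) = b := (hg₁ b).trans (congrArg Subtype.val hk₁b)
    have hgb : act g (b : V) = s • (b : V) := by
      rw [act_mul, act_mul, hg₁b, hg₂b]
      change (g₃ : qAut Q).1 (s • (b : V)) = _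
      rw [map_smul]
      exact congrArg (s • ·) (eG_fix hb hd3)
    have hge : act g (β₀ • (b : V) + e₀.1.1) = s • (e.1.1 + t • (b : V)) := by
      have h1 : act g₁ e₀.1.1 = s • e.1.1 := by
        rw [hg₁ e₀.1]
        have := (hk₁ e₀).trans (congrArg Subtype.val hk)
        exact congrArg Subtype.val this
      obtain ⟨a1, a2, a3, a4⟩ := he e
      have h2 : act g₂ e.1.1 = e.1.1 := hg₂ _ a1 a2 a3 a4
      rw [act_mul, act_mul, ← one_smul F e₀.1.1, act_lin, hg₁b, h1, one_smul, act_lin, hg₂b, h2,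
        smul_smul, act_lin, eG_fix hb hd3, eG_apply hb hd3]
      rw [QuadraticMap.polar_comm Q e.1.1 (b : V), a3, QuadraticMap.polar_smul_right, hee]
      module
    refine ⟨g • ω₀, ?_, card_bfix_transport p hu g hs hgu ω₀, ?_⟩
    · have := mem_bfix_transport p hu g hs hgu hbω
      rwa [hgb, inv_smul_smul₀ hs] at this
    · have := mem_bfix_transport p hu g hs hgu hy₀'
      rwa [hge, inv_smul_smul₀ hs] at this
  choose mv hmv₁ hmv₂ hmv₃ using move
  -- the duals through `b`
  let _ : Fintype (ClsAt Q Ω p hu (b : V)) := Fintype.ofFinite _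
  set I := Finset.univ.filter fun c : ClsAt Q Ω p hu (b : V) =>
    Nat.card (bcls Q p hu c.1) = Nat.card (bfix Q p u ω₀) with hI
  set BS := I.image (fun c => bcls Q p hu c.1) with hBS
  have hsz : ∀ B ∈ BS, ∃ ω : Ω, B = bfix Q p u ω ∧ (b : V) ∈ B ∧ Nat.card B = Nat.card (bfix Q p u ω₀) := by
    intro B hB
    obtain ⟨⟨c, hc⟩, hcI, rfl⟩ := Finset.mem_image.1 hB
    induction c using Quotient.inductionOn with | _ ω =>
    exact ⟨ω, rfl, hc, (Finset.mem_filter.1 hcI).2⟩
  have hcls : ∀ x, bfix Q p u (mv x) ∈ BS := fun x =>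
    Finset.mem_image.2 ⟨⟨Quotient.mk _ (mv x), hmv₁ x⟩, Finset.mem_filter.2 ⟨Finset.mem_univ _, hmv₂ x⟩, rfl⟩
  set s₀ := Nat.card {w : (side Q u z) // (w : V) ∈ bfix Q p u ω₀}
  have hB₀ : Nat.card (bfix Q p u ω₀) = q * s₀ := by
    rw [card_bfix_side p hp, Nat.card_eq_fintype_card (α := F)]
  let X : AddSubgroup V → Type _ := fun B => {w : (side Q u z) // (w : V) ∈ B ∧ w ≠ 0 ∧ w ≠ b}
  have hX : ∀ B ∈ BS, Nat.card (X B) + 2 = s₀ := by
    intro B hB
    obtain ⟨ω, rfl, hbB, hc⟩ := hsz B hB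
    have h4 : Nat.card {w : (side Q u z) // (w : V) ∈ bfix Q p u ω} = s₀ := by
      have h5 := card_bfix_side p hp ω
      rw [hc, hB₀, Nat.card_eq_fintype_card (α := F)] at h5
      exact (Nat.eq_of_mul_eq_mul_left (by omega) h5).symm
    rw [← h4]
    have h6 : Nat.card {w : (side Q u z) | (w : V) ∈ bfix Q p u ω ∧ w ≠ 0 ∧ w ≠ b} + 2 =
        Nat.card {w : (side Q u z) | (w : V) ∈ bfix Q p u ω} := by
      rw [Nat.card_coe_set_eq, Nat.card_coe_set_eq,
        ← Set.ncard_sdiff_add_ncard_of_subset (s := ({0, b} : Set (side Q u z))) (t := {w : (side Q u z) | (w : V) ∈ bfix Q p u ω}) (by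
          rintro w (rfl | rfl)
          · exact (bfix Q p u ω).zero_mem
          · exact hbB), Set.ncard_pair (Ne.symm hb0)]
      congr 2
      ext w
      simp
    exact h6
  set S00 := singCount ((Q.comp (side Q u z).subtype).comp (side (Q.comp (side Q u z).subtype) b b').subtype)
  have hcov : q * S00 ≤ BS.card * (s₀ - 2) := by
    have hi := Nat.card_le_card_of_injective
      (fun x : F × {e : (side (Q.comp (side Q u z).subtype) b b') // e ≠ 0 ∧ Q e.1.1 = 0} => (⟨⟨bfix Q p u (mv x), hcls x⟩, x.2.1.1 + x.1 • b,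
        hmv₃ x, fun e => x.2.2.1 ?_, fun e => x.2.2.1 ?_⟩ : Σ B : BS, X B.1)) ?_
    rotate_left
    · obtain ⟨g1, g2, g3, g4⟩ := he x.2.1
      have h4 : x.2.1.1.1 + x.1 • (b : V) = 0 := congrArg Subtype.val e
      have h5 := congrArg (fun v => pl b'.1 v) h4
      simp only [QuadraticMap.polar_add_right, QuadraticMap.polar_smul_right, g4, hbV.zu,
        QuadraticMap.polar_zero_right, smul_eq_mul, mul_one, zero_add] at h5
      rw [h5, zero_smul, add_zero] at h4
      exact Subtype.ext (Subtype.ext h4)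
    · obtain ⟨g1, g2, g3, g4⟩ := he x.2.1
      have h4 : x.2.1.1.1 + x.1 • (b : V) = b := congrArg Subtype.val e
      have h5 := congrArg (fun v => pl b'.1 v) h4
      simp only [QuadraticMap.polar_add_right, QuadraticMap.polar_smul_right, g4, hbV.zu,
        smul_eq_mul, mul_one, zero_add] at h5
      rw [h5, one_smul, add_eq_right] at h4
      exact Subtype.ext (Subtype.ext h4)
    · rintro ⟨t, e, he'⟩ ⟨t', e', he''⟩ h
      have h4 : e.1.1 + t • (b : V) = e'.1.1 + t' • (b : V) := congrArg (fun s => (s.2.1 : V)) h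
      have h5 := congrArg (fun v => pl b'.1 v) h4
      simp only [QuadraticMap.polar_add_right, QuadraticMap.polar_smul_right, (he e).2.2.2, (he e').2.2.2,
        hbV.zu, smul_eq_mul, mul_one, zero_add] at h5
      subst h5
      rw [add_right_cancel_iff] at h4
      obtain rfl : e = e' := Subtype.ext (Subtype.ext h4)
      rfl
    rw [Nat.card_prod, Nat.card_eq_fintype_card (α := F), Nat.card_sigma,
      Finset.sum_congr rfl fun B _ => show Nat.card (X B.1) = s₀ - 2 by have := hX B.1 B.2; omega,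
      Finset.sum_const, smul_eq_mul, Finset.card_univ, Fintype.card_coe] at hi
    exact hi
  have hIq : I.card ≤ q + 1 := by
    refine (Finset.card_le_univ I).trans ?_
    rw [← Nat.card_eq_fintype_card]
    exact card_clsAt_singular p hQ hn hq hN hp hb hb0
  have hBq : BS.card ≤ q + 1 := Finset.card_image_le.trans hIq
  -- the dimension
  set d := Module.finrank F T
  have hTc : Nat.card T = q ^ d := by
    rw [Module.natCard_eq_pow_finrank (K := F), Nat.card_eq_fintype_card]
  have hdvd : Nat.card (bfix Q p u ω₀) ∣ q ^ d := by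
    rw [← hTc]
    exact AddSubgroup.card_dvd_of_le (show bfix Q p u ω₀ ≤ T.toAddSubgroup from fun x hx => Submodule.subset_span hx)
  obtain ⟨j, hj⟩ : ∃ j, d = j + 1 := ⟨d - 1, by omega⟩
  have hs₀ : s₀ ≤ q ^ j ∧ (s₀ = q ^ j ∨ 2 * s₀ ≤ q ^ j) := by
    rw [hB₀, hj, pow_succ, mul_comm _ q] at hdvd
    have h4 := Nat.dvd_of_mul_dvd_mul_left (show 0 < q by omega) hdvd
    obtain ⟨k, hk⟩ := h4
    have hpos : 0 < q ^ j := Nat.pow_pos (by omega)
    rcases Nat.lt_or_ge k 2 with hk2 | hk2
    · interval_cases k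
      · omega
      · omega
    · have : s₀ * 2 ≤ s₀ * k := Nat.mul_le_mul_left _ hk2
      omega
  obtain ⟨e₀', hpe₀⟩ := exists_pair hQW0 (u := e₀) hQe₀ he₀
  have hS := singCount_lower hpe₀
  rw [show Module.finrank F (side (Q.comp (side Q u z).subtype) b b') - 2 = n - 6 by omega] at hS
  have hS' : (q - 1) * q ^ (n - 6) ≤ S00 ∧ q * ((q - 1) * q ^ (n - 6)) + q * (q - 1) ≤ q * S00 := by
    have h4 : (q - 1) * q ^ (n - 6) + (q - 1) ≤ S00 := by
      change _ ≤ S00 + 1 at hS
      change (q - 1) * q ^ (n - 6) + q ≤ S00 + 1 at hS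
      omega
    exact ⟨by omega, by rw [← Nat.mul_add]; exact Nat.mul_le_mul_left _ h4⟩
  have hlow : q * S00 ≤ (q + 1) * (s₀ - 2) := hcov.trans (Nat.mul_le_mul_right _ hBq)
  obtain ⟨r, hr⟩ : ∃ r, q = r + 4 := ⟨q - 4, by omega⟩
  have hn8 : n ≤ 8 := by
    by_contra hlt
    push Not at hlt
    have h4 : q * ((q - 1) * q ^ (n - 6)) < (q + 1) * q ^ j :=
      calc q * ((q - 1) * q ^ (n - 6)) < q * ((q - 1) * q ^ (n - 6)) + q * (q - 1) :=
            Nat.lt_add_of_pos_right (Nat.mul_pos (by omega) (by omega))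
        _ ≤ (q + 1) * (s₀ - 2) := hS'.2.trans hlow
        _ ≤ _ := Nat.mul_le_mul_left _ (by omega)
    have h5 : q ^ j ≤ q ^ (n - 6) := Nat.pow_le_pow_right (by omega) (by omega)
    have h6 : q * ((q - 1) * q ^ (n - 6)) < (q + 1) * q ^ (n - 6) := h4.trans_le (Nat.mul_le_mul_left _ h5)
    rw [← mul_assoc] at h6
    have h7 := Nat.lt_of_mul_lt_mul_right h6
    have h8 : 2 * q ≤ q * (q - 1) := by rw [mul_comm 2]; exact Nat.mul_le_mul_left _ (by omega)
    omega
  have hhalf : j + 1 = n / 2 := by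
    by_contra hne
    have hj2 : j = 2 := by omega
    have hn8' : n = 8 := by omega
    rw [hj2] at hs₀
    rw [hn8'] at hS'
    have h4 : q * ((q - 1) * q ^ 2) ≤ (q + 1) * q ^ 2 :=
      calc q * ((q - 1) * q ^ 2) ≤ q * S00 := Nat.mul_le_mul_left _ hS'.1
        _ ≤ (q + 1) * (s₀ - 2) := hlow
        _ ≤ _ := Nat.mul_le_mul_left _ (by omega)
    rw [← mul_assoc] at h4
    have h7 := Nat.le_of_mul_le_mul_right h4 (Nat.pow_pos (by omega))
    have h8 : 2 * q ≤ q * (q - 1) := by rw [mul_comm 2]; exact Nat.mul_le_mul_left _ (by omega)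
    omega
  -- the exact count
  have hfull : s₀ = q ^ j ∧ q + 1 ≤ BS.card := by
    have hn78 : n = 7 ∨ n = 8 := by omega
    rcases hn78 with hn7 | hn8'
    · have hj2 : j = 2 := by omega
      rw [hj2] at hs₀ ⊢
      rw [hn7] at hS'
      norm_num at hS'
      have h4 : q * ((q - 1) * q) + q * (q - 1) ≤ BS.card * (s₀ - 2) := hS'.2.trans hcov
      rw [hr, show r + 4 - 1 = r + 3 by omega] at h4
      rw [hr] at hs₀ hBq ⊢
      constructor
      · rcases hs₀.2 with h5 | h5
        · exact h5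
        · exfalso
          have h6 := h4.trans (Nat.mul_le_mul hBq (Nat.sub_le s₀ 2))
          have h7 := Nat.mul_le_mul_left (r + 4 + 1) h5
          nlinarith
      · by_contra hlt
        push Not at hlt
        have h5 : BS.card * (s₀ - 2) ≤ (r + 4) * ((r + 4) ^ 2 - 2) :=
          Nat.mul_le_mul (by omega) (by omega)
        have h6 := Nat.le_of_mul_le_mul_left
          (show (r + 4) * ((r + 3) * (r + 4) + (r + 3)) ≤ (r + 4) * ((r + 4) ^ 2 - 2) by
            rw [Nat.mul_add]; exact h4.trans h5) (by omega)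
        have h7 : (r + 3) * (r + 4) + (r + 3) + 1 = (r + 4) ^ 2 := by ring
        omega
    · have hj3 : j = 3 := by omega
      rw [hj3] at hs₀ ⊢
      rw [hn8'] at hS'
      norm_num at hS'
      -- the inner complement is split
      obtain ⟨f1, f2, f3, f4⟩ := he e₀'
      obtain ⟨y₁, hy₁T, hy₁e, hy₁o⟩ : ∃ y ∈ T, pl y e₀'.1.1 = 0 ∧ ∀ k l : F, y ≠ k • u + l • (b : V) := by
        let L : T →ₗ[F] F := (QuadraticMap.polarBilin Q e₀'.1.1).comp T.subtype
        have g1 := LinearMap.finrank_range_add_finrank_ker L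
        have g2 := Submodule.finrank_le (LinearMap.range L)
        rw [Module.finrank_self] at g2
        by_contra hcon
        push Not at hcon
        have hle : (LinearMap.ker L).map T.subtype ≤ Submodule.span F {u, (b : V)} := by
          rintro _ ⟨x, hx, rfl⟩
          obtain ⟨k, l, e⟩ := hcon x.1 x.2 (by
            rw [QuadraticMap.polar_comm]; exact LinearMap.mem_ker.1 hx)
          exact Submodule.mem_span_pair.2 ⟨k, l, e.symm⟩
        have h4 := (Submodule.finrank_mono hle).trans (finrank_span_le_card _)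
        have h5 : ({u, (b : V)} : Set V).toFinset.card ≤ 2 := by simpa using Finset.card_le_two
        rw [Submodule.finrank_map_subtype_eq] at h4
        omega
      obtain ⟨α₁, β₁, e₁, ey₁, hQe₁⟩ := comp y₁ hy₁T
      obtain ⟨a1, a2, a3, a4⟩ := he e₁
      obtain ⟨c1, c2, c3, c4⟩ := he e₀
      have he₁e : pl e₁.1.1 e₀'.1.1 = 0 := by
        rw [ey₁] at hy₁e
        simpa [QuadraticMap.polar_add_left, QuadraticMap.polar_smul_left, f1, f3] using hy₁e
      have he₁e₀ : pl e₀.1.1 e₁.1.1 = 0 := by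
        have := polar_eq_zero_of_singular hTs (Submodule.subset_span hy₀) hy₁T
        rw [ey₀, ey₁] at this
        simpa [QuadraticMap.polar_add_left, QuadraticMap.polar_smul_left, QuadraticMap.polar_smul_right,
          hp.uu, hbu, QuadraticMap.polar_comm Q (b : V) u, hbV.uu, a1, a3,
          QuadraticMap.polar_comm Q e₀.1.1 u, c1, QuadraticMap.polar_comm Q e₀.1.1 (b : V), c3] using this
      have he₁ : e₁ ≠ 0 := fun e => hy₁o α₁ β₁ (by rw [ey₁, e]; simp)
      have he₁m : e₁ ∈ side ((Q.comp (side Q u z).subtype).comp (side (Q.comp (side Q u z).subtype) b b').subtype) e₀ e₀' := mem_side.2 ⟨he₁e₀, by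
        change pl e₀'.1.1 e₁.1.1 = 0
        rw [QuadraticMap.polar_comm]; exact he₁e⟩
      obtain ⟨e₁', hpe₁⟩ := exists_pair (polarNondeg_side hQW0 hpe₀) (u := ⟨e₁, he₁m⟩) hQe₁
        (fun e => he₁ (congrArg Subtype.val e))
      have g1 := singCount_eq hpe₀
      have g2 := singCount_lower hpe₁
      have g3 := finrank_side hpe₀
      rw [show Module.finrank F (side (Q.comp (side Q u z).subtype) b b') - 2 = 2 by omega] at g1
      rw [show Module.finrank F (side ((Q.comp (side Q u z).subtype).comp (side (Q.comp (side Q u z).subtype) b b').subtype) e₀ e₀') - 2 = 0 by omega,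
        pow_zero, mul_one] at g2
      have h4 : (q - 1) * q ^ 2 + q * (2 * q - 1) ≤ S00 + 1 := by
        change _ ≤ singCount _ + 1
        rw [g1]
        refine Nat.add_le_add_left (Nat.mul_le_mul_left _ ?_) _
        change 2 * q - 1 ≤ _
        change q - 1 + q ≤ _ at g2
        omega
      rw [hr, show r + 4 - 1 = r + 3 by omega, show 2 * (r + 4) - 1 = 2 * r + 7 by omega] at h4
      have h5 : (r + 4) ^ 3 ≤ S00 + 1 := by nlinarith
      rw [hr] at hcov hBq hs₀ hlow ⊢
      constructor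
      · rcases hs₀.2 with h6 | h6
        · exact h6
        · exfalso
          have h7 := hlow.trans (Nat.mul_le_mul_left _ (Nat.sub_le s₀ 2))
          have h8 := Nat.mul_le_mul_left (r + 4 + 1) h6
          have h9 := Nat.mul_le_mul_left (r + 4) h5
          nlinarith
      · by_contra hlt
        push Not at hlt
        have h6 : (r + 4) * S00 ≤ (r + 4) * ((r + 4) ^ 3 - 2) :=
          hcov.trans (Nat.mul_le_mul (by omega) (by omega))
        have h7 := Nat.le_of_mul_le_mul_left h6 (by omega)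
        omega
  obtain ⟨hfull, hcard⟩ := hfull
  have hI' : I = Finset.univ := Finset.eq_univ_of_card _ (le_antisymm (Finset.card_le_univ _) (by
    rw [← Nat.card_eq_fintype_card]
    exact (card_clsAt_singular p hQ hn hq hN hp hb hb0).trans (hcard.trans Finset.card_image_le)))
  have hinjI : Set.InjOn (fun c : ClsAt Q Ω p hu (b : V) => bcls Q p hu c.1) I :=
    Finset.card_image_iff.1 (le_antisymm Finset.card_image_le (hIq.trans hcard))
  intro ω hω
  have hmem : ∀ ω (h : (b : V) ∈ bfix Q p u ω), (⟨Quotient.mk _ ω, h⟩ : ClsAt Q Ω p hu (b : V)) ∈ I := fun ω h => by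
    rw [hI']; exact Finset.mem_univ _
  refine ⟨?_, fun ω' hω' => ?_⟩
  · have h4 := (Finset.mem_filter.1 (hmem ω hω)).2
    rw [bcls_mk] at h4
    rw [h4, hB₀, hfull, ← hhalf, pow_succ, mul_comm]
  · have h4 := hinjI (Finset.mem_coe.2 (hmem ω' (hω' ▸ hω))) (Finset.mem_coe.2 (hmem ω hω)) hω'
    exact Quotient.exact (congrArg Subtype.val h4)

/-- Either all spans are lines over the point, or all are maximal and tell the orbits apart. -/
theorem span_dichotomy (hQ : PolarNondeg Q) (hn : 7 ≤ Module.finrank F V) (hq : 4 ≤ Fintype.card F)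
    (hN : Nat.card Ω * (Fintype.card F - 1) < singCount Q) :
    (∀ (ω : Ω) (u : V), Q u = 0 → u ≠ 0 → Module.finrank F (tspan Q p u ω) = 2) ∨
    (∀ (ω : Ω) (u : V), Q u = 0 → u ≠ 0 → Module.finrank F (tspan Q p u ω) = Module.finrank F V / 2 ∧
      (∀ x ∈ tspan Q p u ω, x ∈ bfix Q p u ω) ∧
      ∀ ω', tspan Q p u ω' = tspan Q p u ω → ∃ w, pl u w = 0 ∧ eG Q u w • ω' = ω) := by
  classical
  have hex : ∀ (ω : Ω) (u z : V), SingPair Q u z → ∃ b : side Q u z, b ≠ 0 ∧ (b : V) ∈ bfix Q p u ω := by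
    intro ω u z hp
    by_contra hcon
    push Not at hcon
    refine not_fullU hQ hn hq hN hp.qu hp.ne_zero (ω := ω) fun w hw => ?_
    refine ((mem_afix hp.qu).1 (mem_afix_of_perp p hQ fun y hy => ?_)).2
    obtain ⟨y', hy', e⟩ := exists_side_decomp hp y
    rw [QuadraticMap.polar_comm Q y u, bfix_polar p hp.qu hy, zero_smul, add_zero] at e
    have hy'B : y' ∈ bfix Q p u ω := by
      have := (bfix Q p u ω).sub_mem hy (smul_self_mem_bfix (u := u) p (pl y z))
      conv at this => arg 2; arg 1; rw [e]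
      rwa [add_sub_cancel_left] at this
    by_cases h0 : (⟨y', hy'⟩ : side Q u z) = 0
    · rw [e, show y' = 0 from congrArg Subtype.val h0, add_zero, QuadraticMap.polar_smul_left, hw, smul_zero]
    · exact absurd hy'B (hcon _ h0)
  have h2 : ∀ (ω : Ω) (u : V), Q u = 0 → u ≠ 0 → 2 ≤ Module.finrank F (tspan Q p u ω) := by
    intro ω u hu hu0
    obtain ⟨z, hp⟩ := exists_pair hQ hu hu0
    obtain ⟨b, hb0, hb⟩ := hex ω u z hp
    have hli : LinearIndependent F ![u, (b : V)] := (LinearIndependent.pair_iff' hu0).2 fun a e => hb0 (by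
      have h1 := (mem_side.1 b.2).2
      rw [← e, QuadraticMap.polar_smul_right, hp.zu, smul_eq_mul, mul_one] at h1
      exact Subtype.ext (by rw [← e, h1, zero_smul]; rfl))
    have hle : Submodule.span F (Set.range ![u, (b : V)]) ≤ tspan Q p u ω := Submodule.span_le.2 (by
      rintro _ ⟨i, rfl⟩
      fin_cases i
      · exact self_mem_tspan p
      · exact Submodule.subset_span hb)
    have := Submodule.finrank_mono hle
    rwa [finrank_span_eq_card hli, Fintype.card_fin] at this
  by_cases hbig : ∃ (ω : Ω) (u : V), Q u = 0 ∧ u ≠ 0 ∧ 3 ≤ Module.finrank F (tspan Q p u ω)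
  swap
  · push Not at hbig
    exact Or.inl fun ω u hu hu0 => le_antisymm (Nat.le_of_lt_succ (hbig ω u hu hu0)) (h2 ω u hu hu0)
  right
  obtain ⟨ω₀, u₀, hu₀, hu₀0, h3⟩ := hbig
  intro ω u hu hu0
  obtain ⟨g, hg, hgu⟩ := exists_move_eichGroup Q hQ (by omega) hu₀ hu hu₀0 hu0
  have h3' : 3 ≤ Module.finrank F (tspan Q p u ((⟨g, hg⟩ : eichGroup Q) • ω₀)) := by
    refine h3.trans ?_
    rw [← LinearEquiv.finrank_map_eq g.1]
    refine Submodule.finrank_mono ?_
    rintro _ ⟨x, hx, rfl⟩
    have := tspan_map p hu₀ (⟨g, hg⟩ : eichGroup Q) hx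
    rwa [show act (⟨g, hg⟩ : eichGroup Q) u₀ = u from hgu] at this
  obtain ⟨z, hp⟩ := exists_pair hQ hu hu0
  obtain ⟨b₀, hb₀0, hb₀⟩ := hex ((⟨g, hg⟩ : eichGroup Q) • ω₀) u z hp
  obtain ⟨b, hb0, hb⟩ := hex ω u z hp
  have hout : ∀ c : side Q u z, c ≠ 0 → ∀ s : F, (c : V) ≠ s • u := fun c hc s e => hc (by
    have h1 := (mem_side.1 c.2).2
    rw [e, QuadraticMap.polar_smul_right, hp.zu, smul_eq_mul, mul_one] at h1
    exact Subtype.ext (by rw [e, h1, zero_smul]; rfl))
  obtain ⟨h, hhu, hhb⟩ := exists_move_perp hQ (by omega) hu hu hu0 hu0 (mem_side.1 b.2).1 (mem_side.1 b₀.2).1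
    (hout b hb0) (hout b₀ hb₀0)
    (by rw [bfix_singular p hQ hn hq hN hu hu0 hb, bfix_singular p hQ hn hq hN hu hu0 hb₀])
  have hb₀h : (b₀ : V) ∈ bfix Q p u (h • ω) := by
    have := act_mem_bfix p h hu hb
    rwa [hhu, hhb] at this
  have hc := (big_cls p hQ hn hq hN hp hb₀0 hb₀ h3' _ hb₀h).1
  rw [card_bfix_transport p hu h one_ne_zero (by rw [one_smul]; exact hhu)] at hc
  set T := tspan Q p u ω
  have hTc : Nat.card T = Fintype.card F ^ Module.finrank F T := by
    rw [Module.natCard_eq_pow_finrank (K := F), Nat.card_eq_fintype_card]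
  have hle : bfix Q p u ω ≤ T.toAddSubgroup := fun x hx => Submodule.subset_span hx
  have hcle : Nat.card (bfix Q p u ω) ≤ Nat.card T :=
    Nat.card_le_card_of_injective (fun x => (⟨x.1, hle x.2⟩ : T))
      fun x y e => Subtype.ext (congrArg (fun t : T => (t : V)) e)
  rw [hc, hTc] at hcle
  have hd1 := (Nat.pow_le_pow_iff_right (show 1 < Fintype.card F by omega)).1 hcle
  have hd2 := finrank_le_half hQ T fun x hx => tspan_singular p hQ hn hq hN hu hu0 hx
  have hd : Module.finrank F T = Module.finrank F V / 2 := by omega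
  have heq : bfix Q p u ω = T.toAddSubgroup := by
    refine AddSubgroup.eq_of_le_of_card_ge hle (le_of_eq ?_)
    rw [hc, ← hd, ← hTc]
    rfl
  refine ⟨hd, fun x hx => by rw [heq]; exact hx, fun ω' hω' => ?_⟩
  obtain ⟨b', hb'0, hb'⟩ := hex ω' u z hp
  have hb'T : (b' : V) ∈ bfix Q p u ω := by
    rw [heq]
    exact (show (b' : V) ∈ T from hω' ▸ Submodule.subset_span hb')
  have h3T : 3 ≤ Module.finrank F T := by omega
  refine (big_cls p hQ hn hq hN hp hb'0 hb'T h3T ω hb'T).2 ω' ?_
  have h3'' : 3 ≤ Module.finrank F (tspan Q p u ω') := by rw [hω']; exact h3T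
  have hc' := (big_cls p hQ hn hq hN hp hb'0 hb' h3'' ω' hb').1
  refine AddSubgroup.eq_of_le_of_card_ge (fun x hx => ?_) (le_of_eq (hc.trans hc'.symm))
  rw [heq]
  exact (show x ∈ T from hω' ▸ Submodule.subset_span hx)

end CfsgLib.OrthMinIndex
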