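/-
A transitive action of the group of Eichler transformations has at least as many points as there are
singular points.
-/
import Cfsg.Agent.Lib.OrthMinIndex.Cover

set_option autoImplicit false

namespace CfsgLib.OrthMinIndex

open CfsgLib.Classical

variable {F V : Type*} [Field F] [AddCommGroup V] [Module F V] {Q : QuadraticForm F V}
variable {Ω : Type*} [MulAction (eichGroup Q) Ω]

local notation "pl" => QuadraticMap.polar Q

/-- A vector orthogonal to the perp of a subspace lies in it. -/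
theorem mem_of_perp_perp [FiniteDimensional F V] (hQ : PolarNondeg Q) {U : Submodule F V} {y : V}
    (h : ∀ d, (∀ x ∈ U, pl x d = 0) → pl y d = 0) : y ∈ U := by
  let B : LinearMap.BilinForm F V := QuadraticMap.polarBilin Q
  have hB : B.Nondegenerate := PolarNondeg.nondegenerate hQ
  have hr : B.IsRefl := fun a b e => (QuadraticMap.polar_comm Q b a).trans e
  rw [← LinearMap.BilinForm.orthogonal_orthogonal hB hr U]
  intro d hd
  exact (QuadraticMap.polar_comm Q d y).trans (h d fun x hx => hd x hx)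

variable [Fintype F] [FiniteDimensional F V] [Finite V] [Finite Ω]
variable [MulAction.IsPretransitive (eichGroup Q) Ω] [Nontrivial Ω]
variable (p : ℕ) [Fact p.Prime] [Algebra (ZMod p) F] [Module (ZMod p) V]
include p

/-- The radical fixer contains the perp of the span. -/
theorem mem_afix_of_span (hQ : PolarNondeg Q) {u a : V} {ω : Ω}
    (h : ∀ b ∈ tspan Q p u ω, pl b a = 0) : a ∈ afix Q u ω :=
  mem_afix_of_perp p hQ fun b hb => h b (Submodule.subset_span hb)

theorem tspan_perp {u a : V} {ω : Ω} (h : ∀ t : F, t • a ∈ afix Q u ω) {y : V}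
    (hy : y ∈ tspan Q p u ω) : pl y a = 0 := by
  induction hy using Submodule.span_induction with
  | mem y hy => exact bfix_perp p h hy
  | zero => exact QuadraticMap.polar_zero_left Q a
  | add y y' _ _ e e' => rw [QuadraticMap.polar_add_left, e, e', add_zero]
  | smul t y _ e => rw [QuadraticMap.polar_smul_left, e, smul_zero]

/-- Orthogonality to the spans is symmetric. -/
theorem tspan_perp_symm (hQ : PolarNondeg Q) {u x : V} {ω : Ω} (hu : Q u = 0) (hx : Q x = 0)
    (h : ∀ b ∈ tspan Q p u ω, pl b x = 0) {y : V} (hy : y ∈ tspan Q p x ω) : pl y u = 0 :=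
  tspan_perp p (symm_mem_afix hu hx (h u (self_mem_tspan p)) fun t => mem_afix_of_span p hQ fun b hb => by
    rw [QuadraticMap.polar_smul_right, h b hb, smul_zero]) hy

/-- Moving inside a span: either it is symmetric or it shrinks. -/
theorem tspan_move (hQ : PolarNondeg Q) {u x : V} {ω : Ω} (hu : Q u = 0) (hx : Q x = 0)
    (h : ∀ b ∈ tspan Q p u ω, pl b x = 0) (hnu : u ∉ tspan Q p x ω) {d : V}
    (hd : ∀ b ∈ tspan Q p u ω, pl b d = 0) (hxd : pl x d = 0) {y : V} (hy : y ∈ tspan Q p x ω) :
    pl y d = 0 := by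
  by_contra hne
  apply hnu
  have hud := hd u (self_mem_tspan p)
  have hg : eG Q u d • ω = ω := ((mem_afix hu).1 (mem_afix_of_span p hQ hd)).2
  have h1 := tspan_map p hx (eG Q u d) hy
  rw [hg, eG_fix_of hu hud ((QuadraticMap.polar_comm Q x u).trans (h u (self_mem_tspan p))) hxd,
    eG_apply hu hud, tspan_perp_symm p hQ hu hx h hy] at h1
  have h2 := (tspan Q p x ω).smul_mem (pl y d)⁻¹ ((tspan Q p x ω).sub_mem hy h1)
  rwa [zero_smul, add_zero, mul_zero, add_zero, sub_sub_cancel, inv_smul_smul₀ hne] at h2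

variable (hQ : PolarNondeg Q) (hn : 7 ≤ Module.finrank F V) (hq : 4 ≤ Fintype.card F)
  (hN : Nat.card Ω * (Fintype.card F - 1) < singCount Q)
include hQ hn hq hN

theorem tspan_self_perp {u b x : V} {ω : Ω} (hu : Q u = 0) (hu0 : u ≠ 0) (hb : b ∈ tspan Q p u ω)
    (hx : x ∈ tspan Q p u ω) : pl b x = 0 :=
  polar_eq_zero_of_singular (fun _ hy => tspan_singular p hQ hn hq hN hu hu0 hy) hb hx

/-- Spans of equal dimension are symmetric. -/
theorem tspan_symm {ω : Ω} {d : ℕ}
    (hd : ∀ v : V, Q v = 0 → v ≠ 0 → Module.finrank F (tspan Q p v ω) = d) {u x : V} (hu : Q u = 0)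
    (hu0 : u ≠ 0) (hx : x ∈ tspan Q p u ω) (hx0 : x ≠ 0) : u ∈ tspan Q p x ω := by
  by_contra hnu
  have hQx := tspan_singular p hQ hn hq hN hu hu0 hx
  have hle : tspan Q p x ω ≤ tspan Q p u ω := fun y hy => mem_of_perp_perp hQ fun e he =>
    tspan_move p hQ hu hQx (fun b hb => tspan_self_perp p hQ hn hq hN hu hu0 hb hx) hnu he (he x hx) hy
  have := Submodule.eq_of_le_of_finrank_eq hle ((hd x hQx hx0).trans (hd u hu hu0).symm)
  rw [this] at hnu
  exact hnu (self_mem_tspan p)

/-- A proportional vector has the same span. -/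
theorem tspan_eq_of_smul {ω : Ω} {d : ℕ}
    (hd : ∀ v : V, Q v = 0 → v ≠ 0 → Module.finrank F (tspan Q p v ω) = d) {u : V} (hu : Q u = 0)
    (hu0 : u ≠ 0) {t : F} (ht : t ≠ 0) : tspan Q p (t • u) ω = tspan Q p u ω :=
  (Submodule.eq_of_le_of_finrank_eq (tspan_smul p hu ht) ((hd u hu hu0).trans
    (hd _ (by rw [quad_smul, hu, mul_zero]) (smul_ne_zero ht hu0)).symm)).symm

/-- The spans cannot all be lines over their points. -/
theorem not_lines {ω : Ω} (h2 : ∀ v : V, Q v = 0 → v ≠ 0 → Module.finrank F (tspan Q p v ω) = 2)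
    {u : V} (hu : Q u = 0) (hu0 : u ≠ 0) : False := by
  have hsymm := fun {u x : V} => tspan_symm p hQ hn hq hN h2 (u := u) (x := x)
  set U := tspan Q p u ω
  obtain ⟨b, hbU, hbu⟩ : ∃ b ∈ U, ∀ s : F, b ≠ s • u := by
    by_contra hc
    push Not at hc
    have hle : U ≤ Submodule.span F {u} := fun y hy => by
      obtain ⟨s, rfl⟩ := hc y hy
      exact Submodule.smul_mem _ _ (Submodule.mem_span_singleton_self u)
    have := Submodule.finrank_mono hle
    rw [finrank_span_singleton hu0, h2 u hu hu0] at this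
    omega
  have hQb := tspan_singular p hQ hn hq hN hu hu0 hbU
  have hub : pl u b = 0 := tspan_self_perp p hQ hn hq hN hu hu0 (self_mem_tspan p) hbU
  have hli : LinearIndependent F ![u, b] := (LinearIndependent.pair_iff' hu0).2 fun a e => hbu a e.symm
  have hU : ∀ y ∈ U, ∃ k l : F, y = k • u + l • b := by
    intro y hy
    have hle : Submodule.span F (Set.range ![u, b]) ≤ U := Submodule.span_le.2 (by
      rintro _ ⟨i, rfl⟩
      fin_cases i
      · exact self_mem_tspan p
      · exact hbU)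
    have := Submodule.eq_of_le_of_finrank_eq hle (by
      rw [finrank_span_eq_card hli, Fintype.card_fin, h2 u hu hu0])
    rw [← this, Matrix.range_cons, Matrix.range_cons, Matrix.range_empty, Set.union_empty,
      Set.singleton_union, Submodule.mem_span_pair] at hy
    obtain ⟨k, l, e⟩ := hy
    exact ⟨k, l, e.symm⟩
  have hP : ∀ v ∈ U, v ≠ 0 → tspan Q p v ω = U := by
    intro v hv hv0
    by_cases hvu : ∃ s : F, v = s • u
    · obtain ⟨s, rfl⟩ := hvu
      exact tspan_eq_of_smul p hQ hn hq hN h2 hu hu0 (fun e => hv0 (by rw [e, zero_smul]))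
    push Not at hvu
    have hle : Submodule.span F (Set.range ![u, v]) ≤ tspan Q p v ω := Submodule.span_le.2 (by
      rintro _ ⟨i, rfl⟩
      fin_cases i
      · exact hsymm hu hu0 hv hv0
      · exact self_mem_tspan p)
    have hle' : Submodule.span F (Set.range ![u, v]) ≤ U := Submodule.span_le.2 (by
      rintro _ ⟨i, rfl⟩
      fin_cases i
      · exact self_mem_tspan p
      · exact hv)
    have hli' : LinearIndependent F ![u, v] := (LinearIndependent.pair_iff' hu0).2 fun a e => hvu a e.symm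
    have hr : Module.finrank F (Submodule.span F (Set.range ![u, v])) = 2 := by
      rw [finrank_span_eq_card hli', Fintype.card_fin]
    exact (Submodule.eq_of_le_of_finrank_eq hle (hr.trans (h2 v (tspan_singular p hQ hn hq hN hu hu0 hv) hv0).symm)).symm.trans
      (Submodule.eq_of_le_of_finrank_eq hle' (hr.trans (h2 u hu hu0).symm))
  obtain ⟨z, hp, hbz⟩ := exists_pair_perp hQ hu hub hbu hu0
  have hbW : b ∈ side Q u z := mem_side.2 ⟨hub, by rw [QuadraticMap.polar_comm]; exact hbz⟩
  have hQW := polarNondeg_side hQ hp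
  obtain ⟨b', hpb⟩ := exists_pair hQW (u := (⟨b, hbW⟩ : side Q u z)) hQb
    (fun e => hbu 0 (by rw [zero_smul]; exact congrArg Subtype.val e))
  obtain ⟨x, hx0, hQx⟩ := exists_singular _ (polarNondeg_side hQW hpb)
    (by have := finrank_side hp; have := finrank_side hpb; omega)
  have hxu : pl u x.1.1 = 0 := (mem_side.1 x.1.2).1
  have hxz : pl z x.1.1 = 0 := (mem_side.1 x.1.2).2
  have hxb : pl b x.1.1 = 0 := (mem_side.1 x.2).1
  have hxb' : pl b'.1 x.1.1 = 0 := (mem_side.1 x.2).2
  have hbb' : pl b'.1 b = 1 := hpb.zu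
  have hx0' : x.1.1 ≠ 0 := fun e => hx0 (Subtype.ext (Subtype.ext e))
  have hQx' : Q x.1.1 = 0 := hQx
  set X := x.1.1
  have hperp : ∀ c ∈ U, pl c X = 0 := fun c hc => by
    obtain ⟨k, l, rfl⟩ := hU c hc
    simp [QuadraticMap.polar_add_left, QuadraticMap.polar_smul_left, hxu, hxb]
  have hXU : X ∉ U := fun hX => by
    obtain ⟨k, l, e⟩ := hU X hX
    have h1 := congrArg (fun v => pl z v) e
    have h3 := congrArg (fun v => pl b'.1 v) e
    simp only [QuadraticMap.polar_add_right, QuadraticMap.polar_smul_right, hxz, hp.zu,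
      QuadraticMap.polar_comm Q z b, hbz, smul_eq_mul, mul_one, mul_zero, add_zero] at h1
    simp only [QuadraticMap.polar_add_right, QuadraticMap.polar_smul_right, hxb', hbb',
      smul_eq_mul, mul_one, ← h1, zero_mul, zero_add] at h3
    exact hx0' (by rw [e, ← h1, ← h3, zero_smul, zero_smul, add_zero])
  have hnu : u ∉ tspan Q p X ω := fun h => hXU (hsymm hQx' hx0' h hu0)
  obtain ⟨y, hy, hyX⟩ : ∃ y ∈ tspan Q p X ω, ∀ s : F, y ≠ s • X := by
    by_contra hc
    push Not at hc
    have hle : tspan Q p X ω ≤ Submodule.span F {X} := fun y hy => by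
      obtain ⟨s, rfl⟩ := hc y hy
      exact Submodule.smul_mem _ _ (Submodule.mem_span_singleton_self X)
    have := Submodule.finrank_mono hle
    rw [finrank_span_singleton hx0', h2 X hQx' hx0'] at this
    omega
  have hyU : y ∈ U ⊔ Submodule.span F {X} := mem_of_perp_perp hQ fun d hd =>
    tspan_move p hQ hu hQx' hperp hnu (fun c hc => hd c (Submodule.mem_sup_left hc))
      (hd X (Submodule.mem_sup_right (Submodule.mem_span_singleton_self X))) hy
  obtain ⟨v, hv, w, hw, e⟩ := Submodule.mem_sup.1 hyU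
  obtain ⟨l, rfl⟩ := Submodule.mem_span_singleton.1 hw
  have hvT : v ∈ tspan Q p X ω := by
    have := (tspan Q p X ω).sub_mem hy ((tspan Q p X ω).smul_mem l (self_mem_tspan p))
    rwa [← e, add_sub_cancel_right] at this
  have hv0 : v ≠ 0 := fun e0 => hyX l (by rw [← e, e0, zero_add])
  have h := hsymm hQx' hx0' hvT hv0
  rw [hP v hv hv0] at h
  exact hXU h

/-- The spans cannot all be maximal. -/
theorem not_maximal (hmax : ∀ (ω : Ω) (v : V), Q v = 0 → v ≠ 0 →
      Module.finrank F (tspan Q p v ω) = Module.finrank F V / 2 ∧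
      (∀ x ∈ tspan Q p v ω, x ∈ bfix Q p v ω) ∧
      ∀ ω', tspan Q p v ω' = tspan Q p v ω → ∃ w, pl v w = 0 ∧ eG Q v w • ω' = ω)
    (ω : Ω) {u : V} (hu : Q u = 0) (hu0 : u ≠ 0) : False := by
  have hd := fun v hv hv0 => (hmax ω v hv hv0).1
  have hP : ∀ {u x : V}, Q u = 0 → u ≠ 0 → x ∈ tspan Q p u ω → x ≠ 0 →
      tspan Q p x ω = tspan Q p u ω := by
    intro u x hu hu0 hx hx0
    by_cases hxu : ∃ s : F, x = s • u
    · obtain ⟨s, rfl⟩ := hxu
      exact tspan_eq_of_smul p hQ hn hq hN hd hu hu0 (fun e => hx0 (by rw [e, zero_smul]))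
    push Not at hxu
    set U := tspan Q p u ω with hU
    have hQU : ∀ y ∈ U, Q y = 0 := fun y hy => tspan_singular p hQ hn hq hN hu hu0 hy
    have hperp : ∀ {a b}, a ∈ U → b ∈ U → pl a b = 0 := fun ha hb => polar_eq_zero_of_singular hQU ha hb
    have huU : u ∈ U := self_mem_tspan p
    have hux := hperp huU hx
    obtain ⟨z, hp, hxz⟩ := exists_pair_perp hQ hu hux hxu hu0
    have hxW : x ∈ side Q u z := mem_side.2 ⟨hux, by rw [QuadraticMap.polar_comm]; exact hxz⟩
    have hQW := polarNondeg_side hQ hp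
    have hdim := finrank_side hp
    obtain ⟨a₁, ha₁, hQa₁⟩ := exists_singular _ hQW (by omega)
    obtain ⟨a₂, hpa⟩ := exists_pair hQW hQa₁ ha₁
    set e : V := a₁.1 + a₂.1 with he_def
    have he : Q e ≠ 0 := by
      rw [he_def, quad_add, show Q a₁.1 = 0 from hQa₁, show Q a₂.1 = 0 from hpa.qz,
        show pl a₁.1 a₂.1 = 1 from hpa.uz]
      simp
    obtain ⟨heu, hez⟩ := mem_side.1 (Submodule.add_mem _ a₁.2 a₂.2 : e ∈ side Q u z)
    obtain ⟨a, ha, ha1⟩ := exists_sq_ne_one hq
    obtain ⟨t1, -, t3⟩ := tor_apply hp heu hez he ha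
    set τ := tor Q u z e a
    set lam := a * a
    have hlam : lam ≠ 0 := mul_ne_zero ha ha
    clear_value τ lam
    have hW : ∀ y ∈ side Q u z, act τ y = y := fun y hy => t3 y (mem_side.1 hy).1 (mem_side.1 hy).2
    have hdec : ∀ y, pl u y = 0 → ∃ y' ∈ side Q u z, y = pl y z • u + y' := fun y hy => by
      obtain ⟨y', hy', e'⟩ := exists_side_decomp hp y
      rw [QuadraticMap.polar_comm Q y u, hy, zero_smul, add_zero] at e'
      exact ⟨y', hy', e'⟩
    have hcls : ∀ ω' : Ω, (∀ y ∈ U, y ∈ tspan Q p u ω') →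
        ∃ w ∈ side Q u z, ω' = eG Q u w • ω := by
      intro ω' h
      have := Submodule.eq_of_le_of_finrank_eq h ((hd u hu hu0).trans (hmax ω' u hu hu0).1.symm)
      obtain ⟨w, hw, e'⟩ := (hmax ω u hu hu0).2.2 ω' this.symm
      obtain ⟨w', hw', ew⟩ := hdec w hw
      have hw'u : pl u w' = 0 := (mem_side.1 hw').1
      refine ⟨-w', neg_mem hw', ?_⟩
      rw [← e', ← eG_inv hu hw'u, ew, add_comm, eG_add_self hu hw'u, inv_smul_smul]
    have hτU : ∀ y ∈ U, y ∈ tspan Q p u (τ • ω) := by
      intro y hy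
      obtain ⟨y', hy', ey⟩ := hdec y (hperp huU hy)
      have hy'U : y' ∈ U := by
        rw [show y' = y - pl y z • u from eq_sub_of_add_eq' ey.symm]
        exact U.sub_mem hy (U.smul_mem _ huU)
      have h1 := tspan_map p hu τ (U.add_mem (U.smul_mem (lam⁻¹ * pl y z) huU) hy'U)
      rw [t1] at h1
      have h2 := tspan_smul p (show Q (lam • u) = 0 by rw [quad_smul, hu, mul_zero]) (inv_ne_zero hlam) h1
      rw [inv_smul_smul₀ hlam] at h2
      rw [← one_smul F y', act_lin, t1, hW y' hy', smul_smul, one_smul] at h2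
      rwa [show lam⁻¹ * pl y z * lam = pl y z by field_simp, ← ey] at h2
    obtain ⟨e₀, he₀, hτω⟩ := hcls _ hτU
    have key : ∀ c ∈ U, eG Q x c • ω = ω ∧ pl x c = 0 := by
      intro c hc
      refine ⟨?_, hperp hx hc⟩
      obtain ⟨c', hc', ec⟩ := hdec c (hperp huU hc)
      have hc'U : c' ∈ U := by
        rw [show c' = c - pl c z • u from eq_sub_of_add_eq' ec.symm]
        exact U.sub_mem hc (U.smul_mem _ huU)
      have hxc' := hperp hx hc'U
      have hQx := hQU x hx
      have h1 : pl c z • u ∈ afix Q x ω := symm_mem_afix hu hQx hux (fun t => mem_afix_of_span p hQ fun b hb => by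
        rw [QuadraticMap.polar_smul_right, hperp hb hx, smul_zero]) _
      set g := eG Q x c'
      have hgU : ∀ y ∈ U, act g y = y := fun y hy => eG_fix_of hQx hxc' (hperp hy hx) (hperp hy hc'U)
      have hgw : ∀ w ∈ side Q u z, act g w - w ∈ U := fun w hw => by
        rw [eG_apply hQx hxc', add_sub_assoc, add_sub_cancel_left]
        exact U.sub_mem (U.smul_mem _ hc'U) (U.smul_mem _ hx)
      obtain ⟨c₀, hc₀, hgω⟩ := hcls (g • ω) fun y hy => by
        have := tspan_map p hu g hy
        rwa [hgU u huU, hgU y hy] at this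
      have hcomm : τ • g • ω = g • τ • ω := by
        rw [← mul_smul, eG_conj' τ hQx hxc', hW x hxW, hW c' hc', mul_smul]
      have hu₀ := (mem_side.1 hc₀).1
      have hue := (mem_side.1 he₀).1
      have hgu : act g u = u := hgU u huU
      have hgeu : pl u (act g e₀) = 0 := by rw [← hgu, act_polar, hue]
      have hL : τ • g • ω = eG Q u (lam • c₀ + e₀) • ω := by
        rw [hgω, ← mul_smul, eG_conj' τ hu hu₀, t1, hW c₀ hc₀, eG_smul_left hu hu₀, mul_smul, hτω,
          ← mul_smul, eG_mul hu (by rw [QuadraticMap.polar_smul_right, hu₀, smul_zero]) hue]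
      have hR : g • τ • ω = eG Q u (act g e₀ + c₀) • ω := by
        rw [hτω, ← mul_smul, eG_conj' g hu hue, hgu, mul_smul, hgω, ← mul_smul, eG_mul hu hgeu hu₀]
      have hy1 : pl u (lam • c₀ + e₀) = 0 := by simp [hu₀, hue]
      have hy2 : pl u (act g e₀ + c₀) = 0 := by simp [hu₀, hgeu]
      have hA : lam • c₀ + e₀ - (act g e₀ + c₀) ∈ afix Q u ω := by
        refine (mem_afix hu).2 ⟨by rw [QuadraticMap.polar_sub_right, hy1, hy2, sub_zero], ?_⟩
        rw [sub_eq_neg_add, ← eG_mul hu (by rw [QuadraticMap.polar_neg_right, hy2, neg_zero]) hy1, mul_smul,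
          ← hL, hcomm, hR, ← eG_inv hu hy2, inv_smul_smul]
      have hA2 : (lam - 1) • c₀ ∈ afix Q u ω := by
        have h3 : act g e₀ - e₀ ∈ afix Q u ω :=
          mem_afix_of_span p hQ fun b hb => hperp hb (hgw e₀ he₀)
        have := add_mem hA h3
        rwa [show lam • c₀ + e₀ - (act g e₀ + c₀) + (act g e₀ - e₀) = (lam - 1) • c₀ by module] at this
      have hc₀A : c₀ ∈ afix Q u ω := mem_afix_of_span p hQ fun b hb => by
        have h4 : pl ((lam - 1) • c₀) b = 0 := polar_eq_zero_of_trace p fun t => by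
          have := (hmax ω u hu hu0).2.1 _ (U.smul_mem t hb) _ hA2
          rwa [QuadraticMap.polar_comm] at this
        rw [QuadraticMap.polar_smul_left, smul_eq_mul, QuadraticMap.polar_comm] at h4
        exact (mul_eq_zero.1 h4).resolve_left (sub_ne_zero.2 ha1)
      have h2 : c' ∈ afix Q x ω :=
        (mem_afix hQx).2 ⟨hxc', hgω.trans ((mem_afix hu).1 hc₀A).2⟩
      have := add_mem h1 h2
      rw [← ec] at this
      exact ((mem_afix hQx).1 this).2
    have hQx := hQU x hx
    have hperp' : ∀ y ∈ tspan Q p x ω, ∀ c ∈ U, pl y c = 0 := fun y hy c hc =>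
      tspan_perp p (fun t => (mem_afix hQx).2 ⟨(key _ (U.smul_mem t hc)).2, (key _ (U.smul_mem t hc)).1⟩) hy
    have hsup : ∀ y ∈ tspan Q p x ω ⊔ U, Q y = 0 := by
      intro y hy
      obtain ⟨a', ha', c, hc, rfl⟩ := Submodule.mem_sup.1 hy
      rw [quad_add, tspan_singular p hQ hn hq hN hQx hx0 ha', hQU c hc, hperp' a' ha' c hc, add_zero,
        add_zero]
    have h5 := finrank_le_half hQ _ hsup
    have h6 : U = tspan Q p x ω ⊔ U := Submodule.eq_of_le_of_finrank_le le_sup_right (by
      rw [hd u hu hu0]; omega)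
    have h7 : tspan Q p x ω ≤ U := by rw [h6]; exact le_sup_left
    exact Submodule.eq_of_le_of_finrank_eq h7 ((hd x hQx hx0).trans (hd u hu hu0).symm)
  obtain ⟨z, hp⟩ := exists_pair hQ hu hu0
  have hz0 := hp.symm.ne_zero
  set U := tspan Q p u ω
  set U' := tspan Q p z ω
  have hQU : ∀ y ∈ U, Q y = 0 := fun y hy => tspan_singular p hQ hn hq hN hu hu0 hy
  have hUU' : ∀ y ∈ U, y ∈ U' → y = 0 := fun y hy hy' => by
    by_contra hy0
    have hzU : z ∈ U := by
      rw [show U = U' from (hP hu hu0 hy hy0).symm.trans (hP hp.qz hz0 hy' hy0)]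
      exact self_mem_tspan p
    have := polar_eq_zero_of_singular hQU (self_mem_tspan p : u ∈ U) hzU
    rw [hp.uz] at this
    exact one_ne_zero this
  obtain ⟨b, hb, hbu⟩ : ∃ b ∈ U, ∀ s : F, b ≠ s • u := by
    by_contra hc
    push Not at hc
    have hle : U ≤ Submodule.span F {u} := fun y hy => by
      obtain ⟨s, rfl⟩ := hc y hy
      exact Submodule.smul_mem _ _ (Submodule.mem_span_singleton_self u)
    have := Submodule.finrank_mono hle
    rw [finrank_span_singleton hu0, hd u hu hu0] at this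
    omega
  have hub : pl u b = 0 := polar_eq_zero_of_singular hQU (self_mem_tspan p) hb
  have hg : eG Q u b • ω = ω :=
    ((mem_afix hu).1 (mem_afix_of_span p hQ fun c hc => polar_eq_zero_of_singular hQU hc hb)).2
  obtain ⟨y, hy0, hyu, hyb⟩ : ∃ y : U', y ≠ 0 ∧ pl u y.1 = 0 ∧ pl b y.1 = 0 := by
    let L : U' →ₗ[F] F × F :=
      ((QuadraticMap.polarBilin Q u).prod (QuadraticMap.polarBilin Q b)).comp U'.subtype
    obtain ⟨y, hy, hy0⟩ : ∃ y ∈ LinearMap.ker L, y ≠ 0 := by
      refine Submodule.exists_mem_ne_zero_of_ne_bot fun e => ?_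
      have h1 := LinearMap.finrank_range_add_finrank_ker L
      have h2 := Submodule.finrank_le (LinearMap.range L)
      rw [e, finrank_bot, hd z hp.qz hz0] at h1
      rw [Module.finrank_prod, Module.finrank_self] at h2
      omega
    obtain ⟨g1, g2⟩ := Prod.ext_iff.1 (LinearMap.mem_ker.1 hy)
    exact ⟨y, hy0, g1, g2⟩
  have hy0' : y.1 ≠ 0 := fun e => hy0 (Subtype.ext e)
  set v := act (eG Q u b) z
  have hQv : Q v = 0 := (act_quad _ z).trans hp.qz
  have hv0 : v ≠ 0 := act_ne_zero _ hz0
  have hyv : y.1 ∈ tspan Q p v ω := by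
    have := tspan_map p hp.qz (eG Q u b) y.2
    rwa [show act (eG Q u b) y.1 = y.1 from eG_fix_of hu hub (by rw [QuadraticMap.polar_comm]; exact hyu)
      (by rw [QuadraticMap.polar_comm]; exact hyb), hg] at this
  have hvU' : v ∈ U' := by
    rw [show U' = tspan Q p v ω from (hP hp.qz hz0 y.2 hy0').symm.trans (hP hQv hv0 hyv hy0')]
    exact self_mem_tspan p
  have hd' : v - z ∈ U' := U'.sub_mem hvU' (self_mem_tspan p)
  have e : v - z = b - (pl z b + Q b) • u := by
    change act (eG Q u b) z - z = _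
    rw [eG_apply hu hub, hp.zu]
    module
  have hz : v - z = 0 := hUU' _ (by rw [e]; exact U.sub_mem hb (U.smul_mem _ (self_mem_tspan p))) hd'
  rw [e, sub_eq_zero] at hz
  exact hbu _ hz

omit hN in
/-- A transitive action has at least as many points as there are singular points. -/
theorem singCount_le_card_mul : singCount Q ≤ Nat.card Ω * (Fintype.card F - 1) := by
  by_contra hlt
  push Not at hlt
  obtain ⟨u, hu0, hu⟩ := exists_singular Q hQ (by omega)
  obtain ⟨ω⟩ : Nonempty Ω := inferInstance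
  rcases span_dichotomy (Ω := Ω) p hQ hn hq hlt with h | h
  · exact not_lines p hQ hn hq hlt (h ω) hu hu0
  · exact not_maximal p hQ hn hq hlt h ω hu hu0

end CfsgLib.OrthMinIndex
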