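/-
The least index of a proper subgroup of the projective orthogonal groups in coordinates.
-/
import Cfsg.Agent.Lib.OrthMinIndex.Singular
import Cfsg.Agent.Lib.Classical.QuadPOmega
import Cfsg.Agent.Lib.Classical.QuadSimple

set_option autoImplicit false

namespace CfsgLib.OrthMinIndex

open CfsgLib.Classical Cfsg

/-- The singular points and the singular vectors. -/
theorem card_singPts_mul {F V : Type*} [Field F] [AddCommGroup V] [Module F V] [Fintype F]
    (Q : QuadraticForm F V) :
    Nat.card (SingPts Q) * (Fintype.card F - 1) = singCount Q := by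
  classical
  have hF : Nat.card {t : F // t ≠ 0} = Fintype.card F - 1 := by
    rw [Nat.card_eq_fintype_card, Fintype.card_subtype_compl, Fintype.card_subtype_eq]
  rw [← hF, ← Nat.card_prod, singCount]
  refine Nat.card_congr (Equiv.ofBijective
    (fun x : SingPts Q × {t : F // t ≠ 0} => (⟨x.2.1 • x.1.1.rep,
      smul_ne_zero x.2.2 x.1.1.rep_nonzero, by rw [quad_smul, x.1.2, mul_zero]⟩ : {v : V // v ≠ 0 ∧ Q v = 0}))
    ⟨?_, ?_⟩)
  · rintro ⟨P, t, ht⟩ ⟨P', t', ht'⟩ e
    have e' : t • P.1.rep = t' • P'.1.rep := congrArg Subtype.val e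
    obtain rfl : P = P' := Subtype.ext (by
      rw [← Projectivization.mk_rep P.1, ← Projectivization.mk_rep P'.1, Projectivization.mk_eq_mk_iff']
      exact ⟨t⁻¹ * t', by rw [mul_smul, ← e', inv_smul_smul₀ ht]⟩)
    obtain rfl : t = t' := smul_left_injective F P.1.rep_nonzero e'
    rfl
  · rintro ⟨v, hv, h⟩
    obtain ⟨a, ha⟩ := Projectivization.exists_smul_eq_mk_rep F v hv
    refine ⟨(singMk Q hv h, ⟨(a⁻¹ : Fˣ).val, Units.ne_zero _⟩), Subtype.ext ?_⟩
    change ((a⁻¹ : Fˣ) : F) • (Projectivization.mk F v hv).rep = v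
    rw [← ha, Units.smul_def, smul_smul, ← Units.val_mul, inv_mul_cancel, Units.val_one, one_smul]

variable {F : Type*} [Field F] [Fintype F] {ι : Type} [Fintype ι] [DecidableEq ι]

/-- `Ω` in coordinates is the group of Eichler transformations. -/
theorem exists_omega_equiv (Q : QuadraticForm F (ι → F)) (hQ : PolarNondeg Q) (hn : 5 ≤ Fintype.card ι) :
    ∃ e : Omega F ⇑Q ≃* eichGroup Q, ∀ (g : Omega F ⇑Q) (x : ι → F),
      (e g : qAut Q).1 x = isoApply (g : isometryGroup F ⇑Q) x := by
  have h : (Omega F ⇑Q).map (isoEquiv Q).toMonoidHom = eichGroup Q := by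
    rw [eichGroup_eq_commutator Q hQ (by rwa [Module.finrank_pi])]
    exact map_commutator_equiv (isoEquiv Q)
  exact ⟨((isoEquiv Q).subgroupMap _).trans (MulEquiv.subgroupCongr h), fun g x => isoEquiv_apply Q g.1 x⟩

/-- The least index of a proper subgroup is the number of singular points. -/
theorem min_index_pomega (Q : QuadraticForm F (ι → F)) (hQ : PolarNondeg Q) (hn : 7 ≤ Fintype.card ι)
    (hq : 4 ≤ Fintype.card F) :
    (∀ H : Subgroup (POmega F ⇑Q), H ≠ ⊤ → (zeros Q - 1) / (Fintype.card F - 1) ≤ H.index) ∧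
      ∃ H : Subgroup (POmega F ⇑Q), H.index = (zeros Q - 1) / (Fintype.card F - 1) := by
  classical
  obtain ⟨p, hp⟩ := CharP.exists F
  haveI := hp
  haveI : Fact p.Prime := ⟨CharP.char_is_prime F p⟩
  letI := ZMod.algebra F p
  have hfr : 7 ≤ Module.finrank F (ι → F) := by rwa [Module.finrank_pi]
  obtain ⟨e, he⟩ := exists_omega_equiv Q hQ (by omega)
  have hsing : singCount Q = zeros Q - 1 := by
    have := singCount_add_one (Q := Q); omega
  haveI : Finite (eichGroup Q) := Finite.of_equiv _ e.toEquiv
  have hs : Function.Surjective (QuotientGroup.mk' (Subgroup.center (Omega F ⇑Q))) :=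
    QuotientGroup.mk'_surjective _
  rw [← hsing]
  have hge : ∀ K : Subgroup (Omega F ⇑Q), K ≠ ⊤ → singCount Q / (Fintype.card F - 1) ≤ K.index := by
    intro K hK
    set K' := K.map e.toMonoidHom with hK'
    have hi : K'.index = K.index := Subgroup.index_map_equiv K e
    haveI : Nontrivial (eichGroup Q ⧸ K') := by
      rw [← Finite.one_lt_card_iff_nontrivial, ← Subgroup.index_eq_card, hi]
      exact Subgroup.one_lt_index_of_ne_top hK
    have h := singCount_le_card_mul (Q := Q) (Ω := eichGroup Q ⧸ K') p hQ hfr hq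
    rw [← Subgroup.index_eq_card, hi] at h
    exact Nat.div_le_of_le_mul (by rwa [mul_comm])
  refine ⟨fun H hH => ?_, ?_⟩
  · have hi := H.index_comap_of_surjective hs
    refine (hge _ fun h => hH ?_).trans hi.le
    exact Subgroup.index_eq_one.mp (by rw [← hi, h, Subgroup.index_top])
  · obtain ⟨u, hu0, hu⟩ := exists_singular Q hQ (by omega)
    set P := singMk Q hu0 hu
    haveI := eichGroup_isPretransitive Q hQ (by omega)
    set K := (MulAction.stabilizer (eichGroup Q) P).comap e.toMonoidHom
    have hK : K.index = singCount Q / (Fintype.card F - 1) := by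
      rw [Subgroup.index_comap_of_surjective _ e.surjective, MulAction.index_stabilizer,
        MulAction.orbit_eq_univ, Set.ncard_univ, ← card_singPts_mul, Nat.mul_div_cancel _ (by omega)]
    have hle : Subgroup.center (Omega F ⇑Q) ≤ K := by
      intro g hg
      have hval : ∀ x, (e g : qAut Q).1 x = x ∨ (e g : qAut Q).1 x = (-1 : F) • x := by
        intro x
        rcases Omega_central_eq Q hQ (by omega) hg with h | h
        · left; rw [he, h, isoApply_one]
        · right; rw [he, h, negIso_apply, neg_one_smul]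
      change ((e g : eichGroup Q) : qAut Q) • P = P
      rcases hval u with h | h
      · exact smul_singMk_eq Q hu0 hu hu0 hu 1 (by rw [h, one_smul])
      · exact smul_singMk_eq Q hu0 hu hu0 hu (-1) h
    refine ⟨K.map (QuotientGroup.mk' _), ?_⟩
    rw [Subgroup.index_map_eq K hs (by rw [QuotientGroup.ker_mk']; exact hle), hK]

end CfsgLib.OrthMinIndex
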