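/-
Prime fields: the duals are subspaces, their images bound the number of points, and level sets.
-/
import Cfsg.Agent.Lib.OrthMinIndex.Counting
import Cfsg.Agent.Lib.OrthMinIndex.Full

set_option autoImplicit false

namespace CfsgLib.OrthMinIndex

open CfsgLib.Classical

variable {F V : Type*} [Field F] [AddCommGroup V] [Module F V] {Q : QuadraticForm F V}

local notation "pl" => QuadraticMap.polar Q

variable (F) in
/-- Every scalar is a multiple of one. -/
def IsPrimeF : Prop := ∀ t : F, ∃ k : ℕ, (k : F) = t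

omit [Module F V] in
theorem prime_smul_mem [Module F V] (hF : IsPrimeF F) (A : AddSubgroup V) {x : V} (hx : x ∈ A) (t : F) :
    t • x ∈ A := by
  obtain ⟨k, rfl⟩ := hF t
  rw [Nat.cast_smul_eq_nsmul]
  exact A.nsmul_mem hx k

theorem isPrimeF_of_card [Fintype F] {p : ℕ} [Fact p.Prime] (h : Fintype.card F = p) : IsPrimeF F := by
  classical
  haveI : CharP F p := charP_of_card_eq_prime h
  intro t
  obtain ⟨k, hk⟩ := (ZMod.ringEquiv F h).surjective t
  refine ⟨k.val, ?_⟩
  rw [← hk, ← map_natCast (ZMod.ringEquiv F h), ZMod.natCast_zmod_val]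

/-! ### Subspaces of the complement -/

variable (Q) in
/-- The transformations fixing a hyperbolic pair. -/
def pairFix (u z : V) : Subgroup (eichGroup Q) where
  carrier := {g | act g u = u ∧ act g z = z}
  one_mem' := ⟨act_one u, act_one z⟩
  mul_mem' := fun {a b} ha hb => ⟨by rw [act_mul, hb.1, ha.1], by rw [act_mul, hb.2, ha.2]⟩
  inv_mem' := fun {a} ha => ⟨by conv_lhs => rw [← ha.1, act_inv_act],
    by conv_lhs => rw [← ha.2, act_inv_act]⟩

variable {Ω : Type*} [MulAction (eichGroup Q) Ω]

section sideFix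

variable (p : ℕ) [Algebra (ZMod p) F]

variable (Q) in
/-- The part of the dual in the complement. -/
def sideFix (hF : IsPrimeF F) (u z : V) (ω : Ω) : Submodule F V where
  carrier := {w | w ∈ side Q u z ∧ w ∈ bfix Q p u ω}
  zero_mem' := ⟨zero_mem _, zero_mem _⟩
  add_mem' := fun ha hb => ⟨add_mem ha.1 hb.1, add_mem ha.2 hb.2⟩
  smul_mem' := fun t _ ha => ⟨Submodule.smul_mem _ t ha.1, prime_smul_mem hF _ ha.2 t⟩

theorem mem_sideFix {hF : IsPrimeF F} {u z : V} {ω : Ω} {w : V} :
    w ∈ sideFix Q p hF u z ω ↔ w ∈ side Q u z ∧ w ∈ bfix Q p u ω := Iff.rfl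

theorem sideFix_le {hF : IsPrimeF F} {u z : V} {ω : Ω} : sideFix Q p hF u z ω ≤ side Q u z :=
  fun _ h => h.1

variable [Fact p.Prime] [Finite F]

/-- The component in the complement of a vector of the dual. -/
theorem exists_sideFix_decomp (hF : IsPrimeF F) {u z : V} (hp : SingPair Q u z) {ω : Ω} {y : V}
    (hy : y ∈ bfix Q p u ω) : ∃ w ∈ sideFix Q p hF u z ω, y = pl y z • u + w := by
  obtain ⟨w, hw, e⟩ := exists_side_decomp hp y
  rw [QuadraticMap.polar_comm Q y u, bfix_polar p hp.qu hy, zero_smul, add_zero] at e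
  refine ⟨w, ⟨hw, ?_⟩, e⟩
  have := (bfix Q p u ω).sub_mem hy (smul_self_mem_bfix (u := u) p (pl y z))
  conv at this => arg 2; arg 1; rw [e]
  rwa [add_sub_cancel_left] at this

variable [Finite V]

theorem card_bfix_sideFix (hF : IsPrimeF F) {u z : V} (hp : SingPair Q u z) (ω : Ω) :
    Nat.card (bfix Q p u ω) = Nat.card F * Nat.card (sideFix Q p hF u z ω) := by
  rw [← Nat.card_prod]
  refine (Nat.card_congr (Equiv.ofBijective
    (fun x : F × sideFix Q p hF u z ω =>
      (⟨x.1 • u + x.2.1, (bfix Q p u ω).add_mem (smul_self_mem_bfix p _) x.2.2.2⟩ : bfix Q p u ω))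
    ⟨?_, ?_⟩)).symm
  · rintro ⟨t, w, hw⟩ ⟨t', w', hw'⟩ e
    have e' : t • u + w = t' • u + w' := congrArg Subtype.val e
    have h1 := congrArg (fun v => pl z v) e'
    simp only [QuadraticMap.polar_add_right, QuadraticMap.polar_smul_right, hp.zu, (mem_side.1 hw.1).2,
      (mem_side.1 hw'.1).2, smul_eq_mul, mul_one, add_zero] at h1
    subst h1
    rw [add_left_cancel_iff] at e'
    subst e'
    rfl
  · rintro ⟨y, hy⟩
    obtain ⟨w, hw, e⟩ := exists_sideFix_decomp p hF hp hy
    exact ⟨(pl y z, ⟨w, hw⟩), Subtype.ext e.symm⟩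

omit [Finite F] [Finite V] in
theorem sideFix_map (hF : IsPrimeF F) {u z : V} (hu : Q u = 0) {g : eichGroup Q} (hg : g ∈ pairFix Q u z)
    (ω : Ω) (w : V) : act g w ∈ sideFix Q p hF u z (g • ω) ↔ w ∈ sideFix Q p hF u z ω := by
  have key : ∀ {g : eichGroup Q}, g ∈ pairFix Q u z → ∀ (ω : Ω) (w : V), w ∈ sideFix Q p hF u z ω →
      act g w ∈ sideFix Q p hF u z (g • ω) := by
    intro g hg ω w hw
    obtain ⟨h1, h2⟩ := mem_side.1 hw.1
    refine ⟨mem_side.2 ⟨by rw [← hg.1, act_polar, h1], by rw [← hg.2, act_polar, h2]⟩, ?_⟩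
    have := act_mem_bfix p g hu hw.2
    rwa [hg.1] at this
  refine ⟨fun h => ?_, key hg ω w⟩
  have := key (inv_mem hg) _ _ h
  rwa [act_inv_act, inv_smul_smul] at this

end sideFix

/-! ### Images of a subspace -/

variable (Q) in
/-- The images of a set under the stabilizer of the pair. -/
def imgs (u z : V) (C : Set V) : Set (Set V) := Set.range fun g : pairFix Q u z => act (g : eichGroup Q) '' C

variable [Fintype F] [Finite V] [Finite Ω]
variable (p : ℕ) [Fact p.Prime] [Algebra (ZMod p) F] [Module (ZMod p) V]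

open scoped _root_.Classical in
/-- The images of a dual bound the number of points. -/
theorem card_imgs_mul_le (hQ : PolarNondeg Q) (hF : IsPrimeF F) {u z : V} (hp : SingPair Q u z) (ω : Ω) :
    (imgs Q u z (sideFix Q p hF u z ω : Set V)).ncard * Nat.card (sideFix Q p hF u z ω) ≤ Nat.card Ω := by
  set C := (sideFix Q p hF u z ω : Set V) with hC
  let _ : Fintype (Cls Ω u hp.qu) := Fintype.ofFinite _
  have hsum := card_mul_eq_sum (Ω := Ω) p hQ hp.qu hp.ne_zero
  have hch : ∀ I : imgs Q u z C, ∃ g : pairFix Q u z, act (g : eichGroup Q) '' C = I.1 := fun I => I.2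
  choose g hg using hch
  let cls : imgs Q u z C → Cls Ω u hp.qu := fun I => Quotient.mk _ ((g I : eichGroup Q) • ω)
  have hval : ∀ I : imgs Q u z C, (sideFix Q p hF u z ((g I : eichGroup Q) • ω) : Set V) = I.1 := by
    intro I
    rw [← hg I]
    ext w
    rw [SetLike.mem_coe]
    constructor
    · intro hw
      refine ⟨act (g I : eichGroup Q)⁻¹ w, ?_, act_act_inv _ _⟩
      rw [hC, SetLike.mem_coe, ← sideFix_map p hF hp.qu (g I).2, act_act_inv]
      exact hw
    · rintro ⟨v, hv, rfl⟩
      exact (sideFix_map p hF hp.qu (g I).2 ω v).2 hv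
  have hinj : Function.Injective cls := by
    intro I J e
    obtain ⟨w, hw, e'⟩ := Quotient.exact e
    refine Subtype.ext ?_
    rw [← hval I, ← hval J]
    ext x
    simp only [SetLike.mem_coe, mem_sideFix]
    rw [← e', bfix_eG p hp.qu hw]
  have hcard : ∀ I : imgs Q u z C,
      Nat.card (bcls Q p hp.qu (cls I)) = Nat.card F * Nat.card (sideFix Q p hF u z ω) := by
    intro I
    rw [bcls_mk, card_bfix_sideFix p hF hp]
    congr 1
    exact (Nat.card_congr
      { toFun := fun w : sideFix Q p hF u z ω => (⟨act (g I : eichGroup Q) w.1,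
          (sideFix_map p hF hp.qu (g I).2 ω w.1).2 w.2⟩ : sideFix Q p hF u z ((g I : eichGroup Q) • ω))
        invFun := fun w => ⟨act (g I : eichGroup Q)⁻¹ w.1,
          (sideFix_map p hF hp.qu (g I).2 ω _).1 (by rw [act_act_inv]; exact w.2)⟩
        left_inv := fun w => Subtype.ext (act_inv_act _ _)
        right_inv := fun w => Subtype.ext (act_act_inv _ _) }).symm
  let _ : Fintype (imgs Q u z C) := Fintype.ofFinite _
  refine le_of_mul_le_mul_right ?_ (Nat.card_pos (α := F))
  rw [hsum, ← Nat.card_coe_set_eq, Nat.card_eq_fintype_card (α := imgs Q u z C)]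
  calc Fintype.card (imgs Q u z C) * Nat.card (sideFix Q p hF u z ω) * Nat.card F
      = ∑ I : imgs Q u z C, Nat.card (bcls Q p hp.qu (cls I)) := by
        rw [Finset.sum_congr rfl fun I _ => hcard I, Finset.sum_const, smul_eq_mul, Finset.card_univ]
        ring
    _ = ∑ c ∈ Finset.univ.image cls, Nat.card (bcls Q p hp.qu c) :=
        (Finset.sum_image (f := fun c => Nat.card (bcls Q p hp.qu c))
          (fun _ _ _ _ e => hinj e)).symm
    _ ≤ _ := Finset.sum_le_sum_of_subset (Finset.subset_univ _)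

omit [Fintype F] [Finite Ω] [MulAction (eichGroup Q) Ω] in
/-- Covering of a family by the images. -/
theorem card_le_imgs_mul {α : Type*} [Finite α] {u z : V} {C : Set V} (f : α → Set V)
    (h : ∀ a, ∃ g ∈ pairFix Q u z, f a ⊆ act g '' C) {P : ℕ}
    (hP : ∀ g ∈ pairFix Q u z, Nat.card {a : α // f a ⊆ act g '' C} ≤ P) :
    Nat.card α ≤ (imgs Q u z C).ncard * P := by
  classical
  haveI : Finite (Set V) := inferInstance
  let _ : Fintype (imgs Q u z C) := Fintype.ofFinite _
  choose g hg hga using h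
  have key := Nat.card_le_card_of_injective
    (fun a => (⟨⟨_, ⟨g a, hg a⟩, rfl⟩, a, hga a⟩ : Σ I : imgs Q u z C, {a : α // f a ⊆ I.1}))
    (fun a b e => congrArg (fun x : Σ I : imgs Q u z C, {a : α // f a ⊆ I.1} => x.2.1) e)
  rw [Nat.card_sigma] at key
  refine key.trans ((Finset.sum_le_card_nsmul _ _ P ?_).trans ?_)
  · rintro ⟨I, ⟨g, hg⟩, rfl⟩ -
    exact hP g hg
  · rw [smul_eq_mul, Finset.card_univ, ← Nat.card_eq_fintype_card, Nat.card_coe_set_eq]

/-! ### Level sets -/

variable (Q) in
/-- The number of vectors with a given value. -/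
noncomputable def valCard (c : F) : ℕ := Nat.card {x : V // Q x = c}

omit [MulAction (eichGroup Q) Ω] [Finite Ω] [Fact p.Prime] [Module (ZMod p) V] [Algebra (ZMod p) F] in
/-- Removing a hyperbolic pair. -/
theorem valCard_eq [FiniteDimensional F V] {u z : V} (h : SingPair Q u z) {c : F} (hc : c ≠ 0) :
    valCard Q c = (Fintype.card F - 1) * Fintype.card F ^ (Module.finrank F V - 2) +
      Fintype.card F * valCard (Q.comp (side Q u z).subtype) c := by
  classical
  have hF : Nat.card {t : F // t ≠ 0} = Fintype.card F - 1 := by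
    rw [Nat.card_eq_fintype_card, Fintype.card_subtype_compl, Fintype.card_subtype_eq]
  rw [← hF, ← card_side h, ← Nat.card_eq_fintype_card (α := F), ← Nat.card_prod, valCard, valCard,
    ← Nat.card_prod, ← Nat.card_sum]
  symm
  refine Nat.card_congr (Equiv.ofBijective
    (fun x : ({t : F // t ≠ 0} × side Q u z) ⊕ (F × {w : side Q u z // Q.comp (side Q u z).subtype w = c}) =>
      match x with
      | Sum.inl y => (⟨pairCoord h ((y.1.1, (c - Q (y.2 : V)) / y.1.1), y.2), by
          rw [quad_pairCoord, hypSum_apply]; simp [mul_div_cancel₀ _ y.1.2]⟩ : {x : V // Q x = c})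
      | Sum.inr y => ⟨pairCoord h ((0, y.1), y.2.1), by
          have e : Q ((y.2.1 : side Q u z) : V) = c := y.2.2
          rw [quad_pairCoord, hypSum_apply]; simp [e]⟩) ⟨?_, ?_⟩)
  · rintro (⟨⟨α, hα⟩, w⟩ | ⟨t, w, hw⟩) (⟨⟨α', hα'⟩, w'⟩ | ⟨t', w', hw'⟩) e <;>
      have e0 := congrArg Subtype.val e <;>
      dsimp only at e0 <;>
      have e' := (pairCoord h).injective e0 <;>
      simp only [Prod.mk.injEq] at e'
    · obtain ⟨⟨rfl, -⟩, rfl⟩ := e'
      rfl
    · exact absurd e'.1.1 hα
    · exact absurd e'.1.1.symm hα'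
    · obtain ⟨⟨-, rfl⟩, rfl⟩ := e'
      rfl
  · rintro ⟨x, hx⟩
    obtain ⟨⟨⟨α, γ⟩, w⟩, rfl⟩ := (pairCoord h).surjective x
    rw [quad_pairCoord, hypSum_apply] at hx
    simp only [LinearMap.coe_comp] at hx
    rcases eq_or_ne α 0 with rfl | hα
    · refine ⟨Sum.inr ⟨γ, w, ?_⟩, rfl⟩
      simpa using hx
    · refine ⟨Sum.inl ⟨⟨α, hα⟩, w⟩, Subtype.ext ?_⟩
      change pairCoord h ((α, (c - Q (w : V)) / α), w) = _
      congr 3
      rw [div_eq_iff hα]
      have hx' : α * γ + Q (w : V) = c := by simpa using hx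
      linear_combination -hx'

omit [MulAction (eichGroup Q) Ω] [Finite Ω] [Fact p.Prime] [Module (ZMod p) V] [Algebra (ZMod p) F] in
theorem valCard_lower_aux (hq : Fintype.card F ≤ 3) :
    ∀ (n : ℕ) (W : Submodule F V), Module.finrank F W = n → 1 ≤ n → PolarNondeg (Q.comp W.subtype) →
      ∀ c : F, c ≠ 0 → Fintype.card F ^ (n - 1) ≤ valCard (Q.comp W.subtype) c +
        Fintype.card F ^ ((n - 1) / 2) := by
  intro n
  induction n using Nat.strong_induction_on with
  | _ n ih =>
    intro W hW h1 hQ c hc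
    haveI : Module.Finite F V := Module.Finite.of_finite
    set q := Fintype.card F with hqdef
    rcases Nat.lt_or_ge n 3 with h3 | h3
    · rcases Nat.lt_or_ge n 2 with h2 | h2
      · obtain rfl : n = 1 := by omega
        simp
      · obtain rfl : n = 2 := by omega
        obtain ⟨v, hv⟩ := exists_value _ hQ (by omega) hc
        simp only [Nat.reduceSub, pow_one, Nat.reduceDiv, pow_zero]
        have hv0 : v ≠ 0 := fun e => hc (by rw [← hv, e, map_zero])
        have hone : 1 ≤ valCard (Q.comp W.subtype) c := Nat.card_pos_iff.2 ⟨⟨⟨v, hv⟩⟩, inferInstance⟩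
        rcases Nat.lt_or_ge q 3 with hq3 | hq3
        · omega
        · have h2F : (2 : F) ≠ 0 := Ring.two_ne_zero fun h => by
            have := FiniteField.even_card_of_char_two h
            omega
          have hne : (⟨v, hv⟩ : {x : W // Q.comp W.subtype x = c}) ≠
              ⟨-v, by rw [QuadraticMap.map_neg]; exact hv⟩ := fun e => hv0 (by
            have e' : v + v = 0 := eq_neg_iff_add_eq_zero.1 (congrArg Subtype.val e)
            rw [← two_smul F] at e'
            exact (smul_eq_zero.1 e').resolve_left h2F)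
          haveI : Nontrivial {x : W // Q.comp W.subtype x = c} := ⟨_, _, hne⟩
          have := Finite.one_lt_card (α := {x : W // Q.comp W.subtype x = c})
          change 1 < valCard (Q.comp W.subtype) c at this
          omega
    · obtain ⟨a, ha0, ha⟩ := exists_singular _ hQ (by omega)
      obtain ⟨a', hp⟩ := exists_pair hQ ha ha0
      have hd := finrank_side hp
      rw [valCard_eq hp hc, hW]
      set W' := (side (Q.comp W.subtype) a a').map W.subtype
      have e : valCard ((Q.comp W.subtype).comp (side (Q.comp W.subtype) a a').subtype) c =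
          valCard (Q.comp W'.subtype) c :=
        Nat.card_congr ((Submodule.equivMapOfInjective _ W.subtype_injective _).toEquiv.subtypeEquiv
          fun x => Iff.rfl)
      have hW' : Module.finrank F W' = n - 2 := by
        rw [Submodule.finrank_map_subtype_eq]; omega
      have hQ' : PolarNondeg (Q.comp W'.subtype) :=
        polarNondeg_congr (Submodule.equivMapOfInjective _ W.subtype_injective _) (fun _ => rfl)
          (polarNondeg_side hQ hp)
      have := ih (n - 2) (by omega) W' hW' (by omega) hQ' c hc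
      rw [e]
      obtain ⟨k, rfl⟩ : ∃ k, n = k + 3 := ⟨n - 3, by omega⟩
      rw [show k + 3 - 2 - 1 = k by omega] at this
      rw [show k + 3 - 1 = k + 2 by omega, show (k + 2) / 2 = k / 2 + 1 by omega,
        show k + 3 - 2 = k + 1 by omega]
      obtain ⟨r, hr⟩ : ∃ r, q = r + 1 := ⟨q - 1, by have := Fintype.card_pos (α := F); omega⟩
      clear_value q
      rw [← hqdef, hr, Nat.add_sub_cancel]
      rw [hr] at this
      have h2 := Nat.mul_le_mul_left (r + 1) this
      calc (r + 1) ^ (k + 2) = r * (r + 1) ^ (k + 1) + (r + 1) * (r + 1) ^ k := by ring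
        _ ≤ r * (r + 1) ^ (k + 1) + (r + 1) * (valCard (Q.comp W'.subtype) c + (r + 1) ^ (k / 2)) :=
            Nat.add_le_add_left h2 _
        _ = _ := by ring

omit [MulAction (eichGroup Q) Ω] [Finite Ω] [Fact p.Prime] [Module (ZMod p) V] [Algebra (ZMod p) F] in
/-- Level sets are large. -/
theorem valCard_lower (hq : Fintype.card F ≤ 3) (hQ : PolarNondeg Q) (hn : 1 ≤ Module.finrank F V)
    {c : F} (hc : c ≠ 0) :
    Fintype.card F ^ (Module.finrank F V - 1) ≤
      valCard Q c + Fintype.card F ^ ((Module.finrank F V - 1) / 2) := by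
  have h := valCard_lower_aux (Q := Q) hq (Module.finrank F (⊤ : Submodule F V)) ⊤ rfl
    (by rwa [finrank_top])
    (polarNondeg_congr (Submodule.topEquiv (R := F) (M := V)).symm (fun _ => rfl) hQ) c hc
  rw [finrank_top] at h
  have e : valCard (Q.comp (⊤ : Submodule F V).subtype) c = valCard Q c :=
    Nat.card_congr ((Submodule.topEquiv (R := F) (M := V)).toEquiv.subtypeEquiv fun x => Iff.rfl)
  rwa [e] at h

end CfsgLib.OrthMinIndex
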