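/-
Over the fields with two and three elements a dual meets the complement in a line or in all of it.
-/
import Cfsg.Agent.Lib.OrthMinIndex.PrimeBasic
import Cfsg.Agent.Lib.OrthMinIndex.Singular

set_option autoImplicit false

namespace CfsgLib.OrthMinIndex

open CfsgLib.Classical

universe uF uV

variable {F : Type uF} {V : Type uV} [Field F] [AddCommGroup V] [Module F V] {Q : QuadraticForm F V}

local notation "pl" => QuadraticMap.polar Q

/-- A space with a totally singular subspace has many singular vectors. -/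
theorem singCount_of_sub [Fintype F] : ∀ (i : ℕ) (V : Type uV) [AddCommGroup V] [Module F V] [Finite V]
    [FiniteDimensional F V] (Q : QuadraticForm F V), PolarNondeg Q → ∀ T : Submodule F V,
    (∀ x ∈ T, Q x = 0) → i ≤ Module.finrank F T →
    (Fintype.card F ^ i - 1) * (Fintype.card F ^ (Module.finrank F V - 1 - i) + 1) ≤ singCount Q := by
  intro i
  induction i with
  | zero => intro V _ _ _ _ Q _ T _ _; simp
  | succ k ih =>
    intro V _ _ _ _ Q hQ T hT hi
    have h2 := finrank_le_half hQ T hT
    obtain ⟨a, haT, ha0⟩ : ∃ a ∈ T, a ≠ 0 := Submodule.exists_mem_ne_zero_of_ne_bot fun e => by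
      rw [e, finrank_bot] at hi; omega
    obtain ⟨a', hp⟩ := exists_pair hQ (hT a haT) ha0
    have hd := finrank_side hp
    have hk : k ≤ Module.finrank F (T.comap (side Q a a').subtype) := by
      let L : T →ₗ[F] F := (QuadraticMap.polarBilin Q a').comp T.subtype
      have g1 := LinearMap.finrank_range_add_finrank_ker L
      have g2 := Submodule.finrank_le (LinearMap.range L)
      rw [Module.finrank_self] at g2
      refine le_trans (show k ≤ Module.finrank F (LinearMap.ker L) by omega) ?_
      refine LinearMap.finrank_le_finrank_of_injective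
        (f := LinearMap.codRestrict (T.comap (side Q a a').subtype)
          (LinearMap.codRestrict (side Q a a') (T.subtype.comp (LinearMap.ker L).subtype) fun x =>
            mem_side.2 ⟨polar_eq_zero_of_singular hT haT x.1.2, LinearMap.mem_ker.1 x.2⟩)
          fun x => x.1.2) ?_
      intro x y e
      exact Subtype.ext (Subtype.ext (congrArg
        (fun v : T.comap (side Q a a').subtype => ((v : side Q a a') : V)) e))
    have h1 := ih (side Q a a') (Q.comp (side Q a a').subtype) (polarNondeg_side hQ hp)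
      (T.comap (side Q a a').subtype) (fun x hx => hT _ hx) hk
    have h3 := singCount_eq hp
    set q := Fintype.card F
    have hq : 1 ≤ q := Fintype.card_pos
    obtain ⟨e, he⟩ : ∃ e, Module.finrank F V = k + 2 + e := ⟨Module.finrank F V - k - 2, by omega⟩
    rw [show Module.finrank F V - 1 - (k + 1) = e by omega]
    rw [show Module.finrank F V - 2 = k + e by omega] at h3
    rw [show Module.finrank F (side Q a a') - 1 - k = e - 1 by omega] at h1
    set S := singCount (Q.comp (side Q a a').subtype)
    obtain ⟨r, hr⟩ : ∃ r, q = r + 1 := ⟨q - 1, by omega⟩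
    clear_value q S
    subst hr
    rw [Nat.add_sub_cancel] at h3
    rcases Nat.eq_zero_or_pos k with rfl | hk0
    · simp only [zero_add, pow_one, Nat.add_sub_cancel] at h3 ⊢
      have : r + 1 ≤ (r + 1) * (S + 1) := Nat.le_mul_of_pos_right _ (Nat.succ_pos _)
      rw [Nat.mul_add, Nat.mul_one]
      omega
    · obtain ⟨e', rfl⟩ : ∃ e', e = e' + 1 := ⟨e - 1, by omega⟩
      rw [Nat.add_sub_cancel] at h1
      obtain ⟨A, hA⟩ : ∃ A, (r + 1) ^ k = A + 1 :=
        ⟨(r + 1) ^ k - 1, by have := Nat.one_le_pow k (r + 1) (by omega); omega⟩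
      rw [hA, Nat.add_sub_cancel] at h1
      rw [pow_add, pow_succ (r + 1) e', hA] at h3
      rw [pow_succ (r + 1) k, pow_succ (r + 1) e', hA]
      have h4 := Nat.mul_le_mul_left (r + 1) h1
      have h5 : (A + 1) * (r + 1) - 1 = A * (r + 1) + r := by rw [Nat.add_mul, Nat.one_mul]; omega
      rw [h5]
      nlinarith

variable {Ω : Type*} [MulAction (eichGroup Q) Ω]
variable [Fintype F] [FiniteDimensional F V] [Finite V]

/-- The stabilizer of the pair moves a vector of the complement to any other with its value. -/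
theorem exists_pairFix_move (hQ : PolarNondeg Q) (hn : 7 ≤ Module.finrank F V) {u z : V} (hp : SingPair Q u z)
    {x x' : V} (hx : x ∈ side Q u z) (hx' : x' ∈ side Q u z) (h0 : x ≠ 0) (h0' : x' ≠ 0) (h : Q x = Q x') :
    ∃ g ∈ pairFix Q u z, act g x = x' := by
  have hQW := polarNondeg_side hQ hp
  have hd := finrank_side hp
  obtain ⟨k, hk, hkx⟩ : ∃ k ∈ eichGroup (Q.comp (side Q u z).subtype), k.1 ⟨x, hx⟩ = ⟨x', hx'⟩ := by
    by_cases hz : Q x = 0
    · exact exists_move_eichGroup _ hQW (by omega) (u := ⟨x, hx⟩) (u' := ⟨x', hx'⟩) hz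
        (show Q x' = 0 from h ▸ hz) (fun e => h0 (congrArg Subtype.val e))
        (fun e => h0' (congrArg Subtype.val e))
    · exact exists_move_level _ hQW (by omega) (v := ⟨x, hx⟩) (v' := ⟨x', hx'⟩) hz h
  obtain ⟨g, hgu, hgz, hg⟩ := exists_lift hp hk
  exact ⟨g, ⟨hgu, hgz⟩, (hg ⟨x, hx⟩).trans (congrArg Subtype.val hkx)⟩

/-- A variant of the covering with any equivariant relation. -/
theorem card_le_imgs_rel {α : Type*} [Finite α] {u z : V} {C : Set V} (R : Set V → α → Prop)
    (h : ∀ a, ∃ g ∈ pairFix Q u z, R (act g '' C) a) {P : ℕ}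
    (hP : ∀ g ∈ pairFix Q u z, Nat.card {a : α // R (act g '' C) a} ≤ P) :
    Nat.card α ≤ (imgs Q u z C).ncard * P := by
  classical
  let _ : Fintype (imgs Q u z C) := Fintype.ofFinite _
  choose g hg hga using h
  have key := Nat.card_le_card_of_injective
    (fun a => (⟨⟨_, ⟨g a, hg a⟩, rfl⟩, a, hga a⟩ : Σ I : imgs Q u z C, {a : α // R I.1 a}))
    (fun a b e => congrArg (fun x : Σ I : imgs Q u z C, {a : α // R I.1 a} => x.2.1) e)
  rw [Nat.card_sigma] at key
  refine key.trans ((Finset.sum_le_card_nsmul _ _ P ?_).trans ?_)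
  · rintro ⟨I, ⟨g, hg⟩, rfl⟩ -
    exact hP g hg
  · rw [smul_eq_mul, Finset.card_univ, ← Nat.card_eq_fintype_card, Nat.card_coe_set_eq]

variable (Q) in
/-- The singular vectors of a set orthogonal to all of it. -/
def singRad (C : Set V) : Set V := {x ∈ C | Q x = 0 ∧ ∀ y ∈ C, pl x y = 0}

omit [Fintype F] [FiniteDimensional F V] [Finite V] in
theorem singRad_image (g : eichGroup Q) (C : Set V) : singRad Q (act g '' C) = act g '' singRad Q C := by
  ext x
  constructor
  · rintro ⟨⟨v, hv, rfl⟩, h1, h2⟩
    exact ⟨v, ⟨hv, by rwa [act_quad] at h1, fun y hy => by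
      have := h2 _ ⟨y, hy, rfl⟩
      rwa [act_polar] at this⟩, rfl⟩
  · rintro ⟨v, ⟨hv, h1, h2⟩, rfl⟩
    exact ⟨⟨v, hv, rfl⟩, by rw [act_quad, h1], by rintro _ ⟨y, hy, rfl⟩; rw [act_polar, h2 y hy]⟩

variable (Q) in
/-- The singular radical as a subspace. -/
def singRadSub (C : Submodule F V) : Submodule F V where
  carrier := singRad Q C
  zero_mem' := ⟨C.zero_mem, map_zero Q, fun y _ => QuadraticMap.polar_zero_left Q y⟩
  add_mem' := fun {a b} ha hb => ⟨C.add_mem ha.1 hb.1,
    by rw [quad_add, ha.2.1, hb.2.1, ha.2.2 b hb.1, add_zero, add_zero],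
    fun y hy => by rw [QuadraticMap.polar_add_left, ha.2.2 y hy, hb.2.2 y hy, add_zero]⟩
  smul_mem' := fun t a ha => ⟨C.smul_mem t ha.1, by rw [quad_smul, ha.2.1, mul_zero],
    fun y hy => by rw [QuadraticMap.polar_smul_left, ha.2.2 y hy, smul_zero]⟩

variable (Q) in
/-- The parameters of the transformations at `s` inside the complement, orthogonal to `x`. -/
noncomputable def paramSub (u z s x : V) : Submodule F V :=
  side Q u z ⊓ LinearMap.ker ((QuadraticMap.polarBilin Q s).prod (QuadraticMap.polarBilin Q x))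

theorem mem_paramSub {u z s x a : V} :
    a ∈ paramSub Q u z s x ↔ (pl u a = 0 ∧ pl z a = 0) ∧ pl s a = 0 ∧ pl x a = 0 := by
  rw [paramSub, Submodule.mem_inf, mem_side, LinearMap.mem_ker]
  simp

theorem finrank_paramSub_ge {u z s x : V} (hp : SingPair Q u z) :
    Module.finrank F V - 4 ≤ Module.finrank F (paramSub Q u z s x) := by
  have hd := finrank_side hp
  let L : side Q u z →ₗ[F] F × F :=
    ((QuadraticMap.polarBilin Q s).prod (QuadraticMap.polarBilin Q x)).comp (side Q u z).subtype
  have g1 := LinearMap.finrank_range_add_finrank_ker L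
  have g2 := Submodule.finrank_le (LinearMap.range L)
  rw [Module.finrank_prod, Module.finrank_self] at g2
  have g3 : Module.finrank F (LinearMap.ker L) ≤ Module.finrank F (paramSub Q u z s x) := by
    refine LinearMap.finrank_le_finrank_of_injective
      (f := LinearMap.codRestrict (paramSub Q u z s x) ((side Q u z).subtype.comp (LinearMap.ker L).subtype)
        fun y => ?_) ?_
    · obtain ⟨h1, h2⟩ := Prod.ext_iff.1 (LinearMap.mem_ker.1 y.2)
      exact mem_paramSub.2 ⟨mem_side.1 y.1.2, h1, h2⟩
    · intro y y' e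
      exact Subtype.ext (Subtype.ext (congrArg (fun v : paramSub Q u z s x => (v : V)) e))
  omega

/-- A dual with a totally singular radical has many images. -/
theorem imgs_singRad_lower (hQ : PolarNondeg Q) (hn : 7 ≤ Module.finrank F V) {u z : V} (hp : SingPair Q u z)
    {C : Submodule F V} (hCW : C ≤ side Q u z) (h2 : 2 ≤ Module.finrank F (singRadSub Q C)) :
    (Fintype.card F ^ (Module.finrank F V - 3 - Module.finrank F (singRadSub Q C)) + 1) *
      (Fintype.card F ^ (Module.finrank F V - 4 - Module.finrank F (singRadSub Q C)) + 1) ≤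
      (imgs Q u z (C : Set V)).ncard := by
  classical
  have hQW := polarNondeg_side hQ hp
  have hdW := finrank_side hp
  set q := Fintype.card F with hq
  set n := Module.finrank F V with hn'
  have hq1 : 1 < q := Fintype.one_lt_card
  have hq0 : 0 < q := by omega
  set I := (imgs Q u z (C : Set V)).ncard with hI
  set R := singRadSub Q C
  have hlt : 1 < Module.finrank F R := h2
  have hRs : ∀ x ∈ R, Q x = 0 := fun x hx => hx.2.1
  have hRC : ∀ x ∈ R, x ∈ side Q u z := fun x hx => hCW hx.1
  set j := Module.finrank F R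
  set R' := R.comap (side Q u z).subtype
  have hR' : j = Module.finrank F R' :=
    (Submodule.comapSubtypeEquivOfLe (show R ≤ side Q u z from hRC)).finrank_eq.symm
  have hj2 := finrank_le_half hQW R' fun x hx => hRs _ hx
  rw [← hR'] at hj2
  have hS1 := singCount_of_sub j _ _ hQW R' (fun x hx => hRs _ hx) hR'.le
  obtain ⟨a, haR, ha0⟩ : ∃ a ∈ R, a ≠ 0 := Submodule.exists_mem_ne_zero_of_ne_bot fun e => by
    change 1 < j at hlt
    rw [show j = 0 by simp [j, e]] at hlt
    omega
  obtain ⟨a', hpa⟩ := exists_pair hQW (u := (⟨a, hRC a haR⟩ : side Q u z)) (hRs a haR)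
    (fun e => ha0 (congrArg Subtype.val e))
  obtain ⟨b, hbR, hba', hb0⟩ : ∃ b ∈ R, pl a'.1 b = 0 ∧ b ≠ 0 := by
    let L : R →ₗ[F] F := (QuadraticMap.polarBilin Q a'.1).comp R.subtype
    have g1 := LinearMap.finrank_range_add_finrank_ker L
    have g2 := Submodule.finrank_le (LinearMap.range L)
    rw [Module.finrank_self] at g2
    obtain ⟨y, hy, hy0⟩ : ∃ y ∈ LinearMap.ker L, y ≠ 0 := Submodule.exists_mem_ne_zero_of_ne_bot fun e => by
      rw [e, finrank_bot] at g1; omega
    exact ⟨y.1, y.2, LinearMap.mem_ker.1 hy, fun e => hy0 (Subtype.ext e)⟩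
  have hbW0 : (⟨b, hRC b hbR⟩ : side Q u z) ∈ side (Q.comp (side Q u z).subtype) ⟨a, hRC a haR⟩ a' :=
    mem_side.2 ⟨polar_eq_zero_of_singular hRs haR hbR, hba'⟩
  have hQW0 := polarNondeg_side hQW hpa
  have hdW0 := finrank_side hpa
  let Sg := {x : side Q u z // x ≠ 0 ∧ Q (x : V) = 0}
  have hpart : ∀ x : Sg, ∃ x', SingPair (Q.comp (side Q u z).subtype) x.1 x' :=
    fun x => exists_pair hQW x.2.2 x.2.1
  choose prt hprt using hpart
  let α := Σ x : Sg, F × {e : side (Q.comp (side Q u z).subtype) x.1 (prt x) // e ≠ 0 ∧ Q e.1.1 = 0}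
  have hα : q * (((q ^ j - 1) * (q ^ (n - 3 - j) + 1)) * ((q ^ (j - 1) - 1) * (q ^ (n - 4 - j) + 1))) ≤
      Nat.card α := by
    let _ : Fintype Sg := Fintype.ofFinite _
    rw [Nat.card_sigma, mul_left_comm]
    refine le_trans ?_ (Finset.card_nsmul_le_sum _ _ (q * ((q ^ (j - 1) - 1) * (q ^ (n - 4 - j) + 1)))
      fun x _ => ?_)
    · rw [smul_eq_mul, Finset.card_univ, ← Nat.card_eq_fintype_card]
      refine Nat.mul_le_mul_right _ ?_
      rw [show n - 3 - j = Module.finrank F (side Q u z) - 1 - j by omega]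
      exact hS1
    · rw [Nat.card_prod, Nat.card_eq_fintype_card (α := F)]
      refine Nat.mul_le_mul_left _ ?_
      have hd1 := finrank_side (hprt x)
      -- carry the radical to this complement
      obtain ⟨g, hg, hga⟩ := exists_pairFix_move hQ hn hp (hRC a haR) x.1.2 ha0
        (fun e => x.2.1 (Subtype.ext e)) (by rw [hRs a haR, x.2.2])
      let W1 := side (Q.comp (side Q u z).subtype) x.1 (prt x)
      let T1 : Submodule F W1 :=
        ((R.map ((g : qAut Q).1 : V →ₗ[F] V)).comap (side Q u z).subtype).comap W1.subtype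
      have hT1 : j - 1 ≤ Module.finrank F T1 := by
        let L : R →ₗ[F] F := (QuadraticMap.polarBilin Q (prt x).1).comp
          (((g : qAut Q).1 : V →ₗ[F] V).comp R.subtype)
        have g1 := LinearMap.finrank_range_add_finrank_ker L
        have g2 := Submodule.finrank_le (LinearMap.range L)
        rw [Module.finrank_self] at g2
        have hmem : ∀ y : LinearMap.ker L, act g y.1.1 ∈ side Q u z := fun y => by
          obtain ⟨h1, h2⟩ := mem_side.1 (hRC _ y.1.2)
          exact mem_side.2 ⟨by rw [← hg.1, act_polar, h1], by rw [← hg.2, act_polar, h2]⟩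
        refine le_trans (show j - 1 ≤ Module.finrank F (LinearMap.ker L) by omega) ?_
        refine LinearMap.finrank_le_finrank_of_injective
          (f := LinearMap.codRestrict T1 (LinearMap.codRestrict W1 (LinearMap.codRestrict (side Q u z)
            ((((g : qAut Q).1 : V →ₗ[F] V).comp R.subtype).comp (LinearMap.ker L).subtype) hmem)
            fun y => mem_side.2 ⟨?_, LinearMap.mem_ker.1 y.2⟩) fun y => ⟨y.1.1, y.1.2, rfl⟩) ?_
        · change pl x.1.1 (act g y.1.1) = 0
          rw [← hga, act_polar]
          exact polar_eq_zero_of_singular hRs haR y.1.2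
        · intro y y' e
          refine Subtype.ext (Subtype.ext ((g : qAut Q).1.injective ?_))
          exact congrArg (fun v : T1 => ((v : W1) : side Q u z).1) e
      have := singCount_of_sub (j - 1) _ _ (polarNondeg_side hQW (hprt x)) T1
        (fun y hy => by
          obtain ⟨r, hr, e⟩ := hy
          change Q y.1.1 = 0
          rw [← show act g r = y.1.1 from e, act_quad]
          exact hRs r hr) hT1
      rwa [show Module.finrank F W1 - 1 - (j - 1) = n - 4 - j by
        change Module.finrank F (side (Q.comp (side Q u z).subtype) x.1 (prt x)) - 1 - (j - 1) = _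
        omega] at this
  have hP : (q ^ j - 1) * (q ^ j - q) = q * ((q ^ j - 1) * (q ^ (j - 1) - 1)) := by
    obtain ⟨i, hi⟩ : ∃ i, j = i + 1 := ⟨j - 1, by omega⟩
    rw [hi, Nat.add_sub_cancel, pow_succ' q i]
    rw [mul_left_comm q (q * q ^ i - 1), Nat.mul_sub q (q ^ i) 1, mul_one]
  have hcount : Nat.card α ≤ I * (q * ((q ^ j - 1) * (q ^ (j - 1) - 1))) := by
    rw [← hP]
    refine card_le_imgs_rel (fun J (a : α) => (a.1.1 : V) ∈ singRad Q J ∧
      a.2.2.1.1.1 + a.2.1 • (a.1.1 : V) ∈ singRad Q J) ?_ ?_
    · rintro ⟨x, t, e, he0, he⟩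
      obtain ⟨g₀, hg₀, hg₀a⟩ := exists_pairFix_move hQ hn hp (hRC a haR) x.1.2 ha0
        (fun e => x.2.1 (Subtype.ext e)) (by rw [hRs a haR, x.2.2])
      set y₁ := act g₀ b
      have hy₁W : y₁ ∈ side Q u z := by
        obtain ⟨h1, h2⟩ := mem_side.1 (hRC b hbR)
        exact mem_side.2 ⟨by rw [← hg₀.1, act_polar, h1], by rw [← hg₀.2, act_polar, h2]⟩
      have hxy : pl x.1.1 y₁ = 0 := by
        rw [← hg₀a, act_polar]; exact polar_eq_zero_of_singular hRs haR hbR
      obtain ⟨w, hw, ew⟩ := exists_side_decomp (hprt x) (⟨y₁, hy₁W⟩ : side Q u z)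
      rw [show QuadraticMap.polar (Q.comp (side Q u z).subtype) (⟨y₁, hy₁W⟩ : side Q u z) x.1 = 0 from
        (QuadraticMap.polar_comm Q y₁ x.1.1).trans hxy, zero_smul, add_zero] at ew
      set c := QuadraticMap.polar (Q.comp (side Q u z).subtype) (⟨y₁, hy₁W⟩ : side Q u z) (prt x)
      have ew' : y₁ = c • (x.1 : V) + w.1 := congrArg Subtype.val ew
      have hQy₁ : Q y₁ = 0 := (act_quad _ _).trans (hRs b hbR)
      have hQw : Q (w : V) = 0 := by
        have h1 := (perp_coord (show SingPair Q x.1.1 (prt x).1 from ⟨x.2.2, (hprt x).qz, (hprt x).uz⟩) c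
          ⟨w.1, mem_side.2 ⟨(mem_side.1 hw).1, (mem_side.1 hw).2⟩⟩).2
        rw [← ew', hQy₁] at h1
        exact h1.symm
      have hw0 : (⟨w, hw⟩ : side (Q.comp (side Q u z).subtype) x.1 (prt x)) ≠ 0 := fun e0 => by
        have hw0' : (w : V) = 0 := congrArg (fun v : side (Q.comp (side Q u z).subtype) x.1 (prt x) => v.1.1) e0
        rw [hw0', add_zero] at ew'
        have h2 : act g₀ b = act g₀ (c • a) := by
          rw [← zero_add (c • a), ← zero_smul F a, act_lin, hg₀a, zero_smul, zero_add]
          exact ew'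
        have h3 : b = c • a := (g₀ : qAut Q).1.injective h2
        have h4 := hba'
        rw [h3, QuadraticMap.polar_smul_right, show pl a'.1 a = 1 from hpa.zu, smul_eq_mul, mul_one] at h4
        exact hb0 (by rw [h3, h4, zero_smul])
      obtain ⟨k, s, hs, hk⟩ := exists_move_line (polarNondeg_side hQW (hprt x))
        (by have := finrank_side (hprt x); omega)
        (e := (⟨w, hw⟩ : side (Q.comp (side Q u z).subtype) x.1 (prt x))) (e' := e) hQw he hw0 he0
      obtain ⟨k₁, hk₁x, -, hk₁⟩ := exists_lift (hprt x) k.2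
      obtain ⟨g₁, hg₁u, hg₁z, hg₁⟩ := exists_lift hp k₁.2
      refine ⟨g₁ * g₀, mul_mem ⟨hg₁u, hg₁z⟩ hg₀, ?_⟩
      have h1x : act g₁ (x.1 : V) = x.1 := (hg₁ x.1).trans (congrArg Subtype.val hk₁x)
      have h1w : act g₁ (w : V) = s • e.1.1 := by
        rw [hg₁ w]
        have h5 := (hk₁ ⟨w, hw⟩).trans (congrArg Subtype.val hk)
        exact congrArg Subtype.val h5
      have hRimg : ∀ r ∈ R, act (g₁ * g₀) r ∈ singRad Q (act (g₁ * g₀) '' (C : Set V)) := fun r hr => by
        rw [singRad_image]; exact ⟨r, hr, rfl⟩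
      have ha1 : act (g₁ * g₀) a = x.1 := by rw [act_mul, hg₀a, h1x]
      refine ⟨?_, ?_⟩
      · have := hRimg a haR
        rwa [ha1] at this
      · have hb1 : act (g₁ * g₀) b = c • (x.1 : V) + s • e.1.1 := by
          rw [act_mul]
          change act g₁ y₁ = _
          rw [ew', ← one_smul F (w : V), act_lin, h1x, h1w, one_smul]
        have := hRimg _ (R.add_mem (R.smul_mem (t - s⁻¹ * c) haR) (R.smul_mem s⁻¹ hbR))
        rw [act_lin, ha1, hb1, smul_add, smul_smul, inv_smul_smul₀ hs] at this
        convert this using 1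
        module
    · intro g _
      have hc := Nat.card_le_card_of_injective
        (fun a : {a : α // (a.1.1 : V) ∈ singRad Q (act g '' (C : Set V)) ∧
            a.2.2.1.1.1 + a.2.1 • (a.1.1 : V) ∈ singRad Q (act g '' (C : Set V))} =>
          (⟨⟨act g⁻¹ a.1.1.1, by
              obtain ⟨r, hr, e⟩ := (singRad_image g (C : Set V)).subset a.2.1
              rw [← e, act_inv_act]; exact hr, fun e => a.1.1.2.1 (Subtype.ext (by
                have e' : act g⁻¹ (a.1.1.1 : V) = 0 := e
                exact (g⁻¹ : eichGroup Q).1.1.map_eq_zero_iff.1 e'))⟩,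
            ⟨act g⁻¹ (a.1.2.2.1.1.1 + a.1.2.1 • (a.1.1.1 : V)), by
              obtain ⟨r, hr, e⟩ := (singRad_image g (C : Set V)).subset a.2.2
              rw [← e, act_inv_act]; exact hr, fun k e => a.1.2.2.2.1 (by
                have e1 : a.1.2.2.1.1.1 + a.1.2.1 • (a.1.1.1 : V) = k • (a.1.1.1 : V) := by
                  refine (g⁻¹ : eichGroup Q).1.1.injective ?_
                  rw [map_smul]; exact e
                have e2 : a.1.2.2.1.1.1 = (k - a.1.2.1) • (a.1.1.1 : V) := by
                  rw [sub_smul, ← e1, add_sub_cancel_right]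
                have e3 : pl (prt a.1.1).1 a.1.2.2.1.1.1 = 0 := (mem_side.1 a.1.2.2.1.2).2
                rw [e2, QuadraticMap.polar_smul_right,
                  show pl (prt a.1.1).1 (a.1.1.1 : V) = 1 from (hprt a.1.1).zu, smul_eq_mul, mul_one] at e3
                exact Subtype.ext (Subtype.ext (e2.trans (by rw [e3, zero_smul]; rfl))))⟩⟩ :
            Σ x : {x : V // x ∈ R ∧ x ≠ 0}, {y : V // y ∈ R ∧ ∀ k : F, y ≠ k • x.1})) ?_
      · refine hc.trans (le_of_eq ?_)
        let _ : Fintype {x : V // x ∈ R ∧ x ≠ 0} := Fintype.ofFinite _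
        have hRc : Nat.card R = q ^ j := by
          rw [Module.natCard_eq_pow_finrank (K := F), Nat.card_eq_fintype_card]
        rw [Nat.card_sigma, Finset.sum_congr rfl (g := fun _ => q ^ j - q), Finset.sum_const, smul_eq_mul,
          Finset.card_univ, ← Nat.card_eq_fintype_card]
        · congr 1
          change Nat.card {x : V | x ∈ R ∧ x ≠ 0} = _
          rw [Nat.card_coe_set_eq, show {x : V | x ∈ R ∧ x ≠ 0} = (R : Set V) \ {0} by ext v; simp,
            Set.ncard_sdiff_singleton_of_mem R.zero_mem (s := (R : Set V)), ← Nat.card_coe_set_eq]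
          exact congrArg (· - 1) hRc
        · intro x _
          change Nat.card {y : V | y ∈ R ∧ ∀ k : F, y ≠ k • x.1} = _
          rw [Nat.card_coe_set_eq, show {y : V | y ∈ R ∧ ∀ k : F, y ≠ k • x.1} =
            (R : Set V) \ Set.range (fun k : F => k • x.1) by ext v; simp [eq_comm],
            Set.ncard_sdiff (Set.range_subset_iff.2 fun k => R.smul_mem k x.2.1), ← Nat.card_coe_set_eq,
            ← Nat.card_coe_set_eq, Nat.card_range_of_injective (smul_left_injective F x.2.2),
            Nat.card_eq_fintype_card (α := F)]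
          exact congrArg (· - q) hRc
      · intro a a' e
        have e1 := (g⁻¹ : eichGroup Q).1.1.injective (congrArg (fun x => x.1.1) e)
        have e2 := (g⁻¹ : eichGroup Q).1.1.injective (congrArg (fun x => x.2.1) e)
        obtain ⟨⟨x, t, w, hw⟩, hh⟩ := a
        obtain ⟨⟨x', t', w', hw'⟩, hh'⟩ := a'
        obtain rfl : x = x' := Subtype.ext (Subtype.ext e1)
        have e2' : w.1.1 + t • (x.1 : V) = w'.1.1 + t' • (x.1 : V) := e2
        have h3 := congrArg (fun v => pl (prt x).1 v) e2'
        simp only [QuadraticMap.polar_add_right, QuadraticMap.polar_smul_right,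
          show pl (prt x).1 w.1.1 = 0 from (mem_side.1 w.2).2, show pl (prt x).1 w'.1.1 = 0 from (mem_side.1 w'.2).2,
          show pl (prt x).1 (x.1 : V) = 1 from (hprt x).zu, smul_eq_mul, mul_one, zero_add] at h3
        subst h3
        rw [add_left_inj] at e2'
        obtain rfl : w = w' := Subtype.ext (Subtype.ext e2')
        rfl
  have hpos : 0 < (q ^ j - 1) * (q ^ (j - 1) - 1) := by
    have h1 := Nat.one_lt_pow (show j ≠ 0 by omega) (show 1 < q by omega)
    have h2 := Nat.one_lt_pow (show j - 1 ≠ 0 by omega) (show 1 < q by omega)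
    exact Nat.mul_pos (by omega) (by omega)
  refine le_of_mul_le_mul_right ?_ (Nat.mul_pos hq0 hpos)
  calc (q ^ (n - 3 - j) + 1) * (q ^ (n - 4 - j) + 1) * (q * ((q ^ j - 1) * (q ^ (j - 1) - 1)))
      = q * (((q ^ j - 1) * (q ^ (n - 3 - j) + 1)) * ((q ^ (j - 1) - 1) * (q ^ (n - 4 - j) + 1))) := by ring
    _ ≤ _ := hα.trans hcount

variable [Finite Ω]
variable (p : ℕ) [Fact p.Prime] [Algebra (ZMod p) F] [Module (ZMod p) V]

variable (Q Ω) in
/-- A small number of points for the fields with two and three elements. -/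
structure SmallN : Prop where
  nondeg : PolarNondeg Q
  dim : 7 ≤ Module.finrank F V
  q23 : Fintype.card F = 2 ∨ Fintype.card F = 3
  dim2 : Fintype.card F = 2 → 8 ≤ Module.finrank F V
  prime : IsPrimeF F
  lt_pow : Nat.card Ω * (Fintype.card F - 1) < Fintype.card F ^ (Module.finrank F V - 1)
  lt_seven : Module.finrank F V = 7 → Nat.card Ω * (Fintype.card F - 1) < 720
  lt_eight_two : Module.finrank F V = 8 → Fintype.card F = 2 → Nat.card Ω < 120
  lt_eight_three : Module.finrank F V = 8 → Fintype.card F = 3 → Nat.card Ω * 2 < 2160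
  lt_sing : Nat.card Ω * (Fintype.card F - 1) < singCount Q
  lt_val : ∀ c : F, c ≠ 0 → Nat.card Ω * (Fintype.card F - 1) < valCard Q c

include p in
/-- The dual meets the complement in at most a line, or in all of it. -/
theorem sideFix_cases (h : SmallN Q Ω) {u z : V} (hp : SingPair Q u z) (ω : Ω) :
    Module.finrank F (sideFix Q p h.prime u z ω) ≤ 1 ∨ sideFix Q p h.prime u z ω = side Q u z := by
  classical
  refine or_iff_not_imp_right.2 fun hne => ?_
  by_contra hd1
  push Not at hd1
  have hQ := h.nondeg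
  have hn := h.dim
  have hQW := polarNondeg_side hQ hp
  have hdW := finrank_side hp
  set C := sideFix Q p h.prime u z ω with hC
  have hCW : C ≤ side Q u z := sideFix_le p
  have hN := card_imgs_mul_le p hQ h.prime hp ω
  rw [← hC] at hN
  have hCcard : Nat.card C = Fintype.card F ^ Module.finrank F C := by
    rw [Module.natCard_eq_pow_finrank (K := F), Nat.card_eq_fintype_card]
  rw [hCcard] at hN
  set d := Module.finrank F C with hd
  set I := (imgs Q u z (C : Set V)).ncard with hI
  set N := Nat.card Ω
  set q := Fintype.card F with hq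
  set n := Module.finrank F V with hn'
  have hq0 : 0 < q := Fintype.card_pos
  have hNb := h.lt_pow
  change N * (q - 1) < q ^ (n - 1) at hNb
  have hq23 : q = 2 ∨ q = 3 := h.q23
  have hcov : ∀ {X P : ℕ}, X ≤ I * P → q ^ d * X ≤ N * P := fun {X P} hX => by
    calc q ^ d * X ≤ q ^ d * (I * P) := Nat.mul_le_mul_left _ hX
      _ = I * q ^ d * P := by ring
      _ ≤ N * P := Nat.mul_le_mul_right _ hN
  -- vectors of a given value
  have hval : ∀ c : F, c ≠ 0 →
      q ^ (n - 3) ≤ valCard (Q.comp (side Q u z).subtype) c + q ^ ((n - 3) / 2) := by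
    intro c hc
    have := valCard_lower (Q := Q.comp (side Q u z).subtype) (by omega) hQW (by omega) hc
    rwa [show Module.finrank F (side Q u z) - 1 = n - 3 by omega] at this
  -- a totally singular radical
  have hrad : Module.finrank F (singRadSub Q C) ≤ 1 := by
    by_contra hlt
    push Not at hlt
    set R := singRadSub Q C
    set j := Module.finrank F R
    have hjd : j ≤ d := Submodule.finrank_mono (fun x hx => hx.1 : R ≤ C)
    have hj2 : 2 * j ≤ n - 2 := by
      have h1 := finrank_le_half hQW (R.comap (side Q u z).subtype) fun x hx => hx.2.1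
      rw [(Submodule.comapSubtypeEquivOfLe (show R ≤ side Q u z from fun x hx => hCW hx.1)).finrank_eq] at h1
      change 2 * j ≤ _ at h1
      omega
    have hlow := imgs_singRad_lower hQ hn hp hCW (show 2 ≤ j from hlt)
    have hfin : q ^ d * ((q ^ (n - 3 - j) + 1) * (q ^ (n - 4 - j) + 1)) ≤ N := by
      rw [← mul_one N]
      exact hcov (hlow.trans (le_of_eq (mul_one _).symm))
    have hfin2 : q ^ j * ((q ^ (n - 3 - j) + 1) * (q ^ (n - 4 - j) + 1)) * (q - 1) ≤ N * (q - 1) :=
      Nat.mul_le_mul_right _ ((Nat.mul_le_mul_right _ (Nat.pow_le_pow_right hq0 hjd)).trans hfin)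
    by_cases hbig : j + 6 ≤ n
    · have h1 : q ^ (n - 1) ≤ q ^ (j + (n - 3 - j) + (n - 4 - j)) := Nat.pow_le_pow_right hq0 (by omega)
      rw [pow_add, pow_add] at h1
      have h2 : q ^ j * (q ^ (n - 3 - j)) * q ^ (n - 4 - j) ≤
          q ^ j * ((q ^ (n - 3 - j) + 1) * (q ^ (n - 4 - j) + 1)) * (q - 1) := by
        rw [mul_assoc]
        exact le_trans (Nat.mul_le_mul_left _ (Nat.mul_le_mul (Nat.le_succ _) (Nat.le_succ _)))
          (Nat.le_mul_of_pos_right _ (by omega))
      omega
    · have hn78 : n = 7 ∧ j = 2 ∨ n = 8 ∧ j = 3 := by omega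
      rcases hn78 with ⟨hn7, hj⟩ | ⟨hn8, hj⟩
      · have h3 := h.lt_seven hn7
        change N * (q - 1) < 720 at h3
        rw [hn7, hj] at hfin2
        rcases hq23 with e | e
        · have := h.dim2 e; omega
        · rw [e] at hfin2 h3; norm_num at hfin2; omega
      · rw [hn8, hj] at hfin2
        rcases hq23 with e | e
        · have h3 := h.lt_eight_two hn8 e
          rw [e] at hfin2; norm_num at hfin2
          change N < 120 at h3
          omega
        · have h3 := h.lt_eight_three hn8 e
          rw [e] at hfin2; norm_num at hfin2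
          change N * 2 < 2160 at h3
          omega
  -- the dual is a plane
  have hd2 : d = 2 := by
    by_contra hne2
    have hd3 : 3 ≤ d := by omega
    have hq3 : q ^ 3 ≤ q ^ d := Nat.pow_le_pow_right hq0 hd3
    set j := Module.finrank F (singRadSub Q C)
    rcases (Nat.eq_zero_or_pos j).symm with hj | hj
    · -- a singular point
      obtain ⟨a, haR, ha0⟩ : ∃ a ∈ singRadSub Q C, a ≠ 0 := Submodule.exists_mem_ne_zero_of_ne_bot fun e => by
        rw [show j = 0 by simp [j, e]] at hj; omega
      let α := {x : side Q u z // x ≠ 0 ∧ Q (x : V) = 0}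
      have hc : Nat.card α ≤ I * (q - 1) := by
        refine card_le_imgs_rel (fun J (x : α) => (x.1 : V) ∈ singRad Q J) (fun x => ?_) fun g _ => ?_
        · obtain ⟨g, hg, hga⟩ := exists_pairFix_move hQ hn hp (hCW haR.1) x.1.2 ha0
            (fun e => x.2.1 (Subtype.ext e)) (haR.2.1.trans x.2.2.symm)
          exact ⟨g, hg, (singRad_image g (C : Set V)).symm.subset ⟨a, haR, hga⟩⟩
        · refine (Nat.card_le_card_of_injective
            (fun x : {x : α // (x.1 : V) ∈ singRad Q (act g '' (C : Set V))} =>
              (⟨act g⁻¹ x.1.1, by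
                obtain ⟨r, hr, e⟩ := (singRad_image g (C : Set V)).subset x.2
                rw [← e, act_inv_act]; exact ⟨hr, fun e0 => x.1.2.1 (Subtype.ext (by rw [← e, e0]; exact map_zero (g : qAut Q).1))⟩⟩ :
                {x : V // x ∈ singRadSub Q C ∧ x ≠ 0}))
            (fun x y e => Subtype.ext (Subtype.ext (Subtype.ext ((g⁻¹ : eichGroup Q).1.1.injective
              (congrArg Subtype.val e)))))).trans (le_of_eq ?_)
          change Nat.card {x : V | x ∈ singRadSub Q C ∧ x ≠ 0} = _
          rw [Nat.card_coe_set_eq, show {x : V | x ∈ singRadSub Q C ∧ x ≠ 0} =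
              (singRadSub Q C : Set V) \ {0} by ext v; simp,
            Set.ncard_sdiff_singleton_of_mem (singRadSub Q C).zero_mem (s := (singRadSub Q C : Set V)),
            ← Nat.card_coe_set_eq]
          have hRc : Nat.card (singRadSub Q C) = q ^ j := by
            rw [Module.natCard_eq_pow_finrank (K := F), Nat.card_eq_fintype_card]
          rw [show j = 1 by omega, pow_one] at hRc
          exact congrArg (· - 1) hRc
      have hkey := hcov hc
      have hS : (q - 1) * q ^ (n - 4) ≤ Nat.card α := by
        obtain ⟨a₁, ha₁, hQa₁⟩ := exists_singular _ hQW (by omega)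
        obtain ⟨a₂, hp₂⟩ := exists_pair hQW hQa₁ ha₁
        have h1 := singCount_lower hp₂
        rw [show Module.finrank F (side Q u z) - 2 = n - 4 by omega] at h1
        change _ ≤ singCount (Q.comp (side Q u z).subtype)
        change (q - 1) * q ^ (n - 4) + q ≤ _ at h1
        omega
      have h2 : q ^ 3 * ((q - 1) * q ^ (n - 4)) ≤ N * (q - 1) :=
        (Nat.mul_le_mul hq3 hS).trans hkey
      have h3 : q ^ (n - 1) ≤ q ^ 3 * ((q - 1) * q ^ (n - 4)) := by
        rw [show n - 1 = 3 + (n - 4) by omega, pow_add]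
        exact Nat.mul_le_mul_left _ (Nat.le_mul_of_pos_left _ (by omega))
      omega
    -- no singular radical
    by_cases hrad0 : ∃ b ∈ C, b ≠ 0 ∧ ∀ y ∈ C, pl b y = 0
    · obtain ⟨b, hb, hb0, hbC⟩ := hrad0
      have hQb : Q b ≠ 0 := fun e => hb0 (by
        have : b ∈ singRadSub Q C := ⟨hb, e, hbC⟩
        rwa [Submodule.finrank_eq_zero.1 hj, Submodule.mem_bot] at this)
      have hq2 : q = 2 := by
        rcases hq23 with e | e
        · exact e
        · exfalso
          have h2F : (2 : F) ≠ 0 := Ring.two_ne_zero fun hc => by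
            have := FiniteField.even_card_of_char_two hc
            change q % 2 = 0 at this
            omega
          have := hbC b hb
          rw [quad_polar_self] at this
          exact mul_ne_zero h2F hQb this
      let α := {x : side Q u z // Q (x : V) = Q b}
      have hc : Nat.card α ≤ I * 1 := by
        refine card_le_imgs_rel (fun J (x : α) => (x.1 : V) ∈ J ∧ ∀ y ∈ J, pl (x.1 : V) y = 0)
          (fun x => ?_) fun g _ => ?_
        · obtain ⟨g, hg, hga⟩ := exists_pairFix_move hQ hn hp (hCW hb) x.1.2 hb0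
            (fun e => hQb (by rw [← x.2, e, map_zero])) x.2.symm
          exact ⟨g, hg, ⟨b, hb, hga⟩, by rintro _ ⟨y, hy, rfl⟩; rw [← hga, act_polar]; exact hbC y hy⟩
        · refine Finite.card_le_one_iff_subsingleton.2 ⟨fun x y => ?_⟩
          obtain ⟨⟨r, hr, er⟩, hrp⟩ := x.2
          obtain ⟨⟨r', hr', er'⟩, hrp'⟩ := y.2
          have hd' : r - r' ∈ singRadSub Q C := by
            refine ⟨C.sub_mem hr hr', ?_, fun w hw => ?_⟩
            · have e0 : pl r r' = 0 := by
                have := hrp _ ⟨r', hr', rfl⟩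
                rwa [← er, act_polar] at this
              have h2F : (2 : F) = 0 := by
                have := FiniteField.cast_card_eq_zero F
                change ((q : ℕ) : F) = 0 at this
                rw [hq2] at this
                exact_mod_cast this
              rw [quad_sub, e0, sub_zero, ← act_quad g r, ← act_quad g r', er, er', x.1.2, y.1.2,
                ← two_mul, h2F, zero_mul]
            · have g1 := hrp _ ⟨w, hw, rfl⟩
              have g2 := hrp' _ ⟨w, hw, rfl⟩
              rw [← er, act_polar] at g1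
              rw [← er', act_polar] at g2
              rw [QuadraticMap.polar_sub_left, g1, g2, sub_zero]
          rw [Submodule.finrank_eq_zero.1 hj, Submodule.mem_bot, sub_eq_zero] at hd'
          exact Subtype.ext (Subtype.ext (Subtype.ext (er.symm.trans (hd' ▸ er'))))
      have hkey := hcov hc
      have hv := hval (Q b) hQb
      change q ^ (n - 3) ≤ Nat.card α + q ^ ((n - 3) / 2) at hv
      have h2 : q ^ 3 * Nat.card α ≤ N := by
        rw [← mul_one N]; exact (Nat.mul_le_mul_right _ hq3).trans hkey
      rw [hq2] at hv h2 hNb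
      have h4 : 2 ^ ((n - 3) / 2) ≤ 2 ^ (n - 4) := Nat.pow_le_pow_right (by omega) (by omega)
      have h5 : 2 ^ (n - 3) = 2 * 2 ^ (n - 4) := by rw [← pow_succ']; congr 1; omega
      have h6 : 2 ^ (n - 1) = 8 * 2 ^ (n - 4) := by
        rw [show n - 1 = 3 + (n - 4) by omega, pow_add]; rfl
      omega
    -- a nondegenerate dual
    push Not at hrad0
    let Lsub : ∀ v : V, Submodule F V := fun v => LinearMap.ker (QuadraticMap.polarBilin Q v)
    obtain ⟨s, hsW, hQs, hsC, y₀, hy₀, hy₀s, r, hr, hrK⟩ : ∃ s ∈ side Q u z, Q s = 0 ∧ s ∉ C ∧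
        ∃ y₀ ∈ C, pl y₀ s ≠ 0 ∧ ∃ r ≤ 1, (r = 0 → 3 ≤ d) ∧
          (d = 3 → r = 0) ∧ ∀ c ∈ C, pl s c = 0 → (∀ y ∈ C, pl s y = 0 → pl y c = 0) → r = 1 ∨ c = 0 := by
      by_cases hd4 : 4 ≤ d
      · obtain ⟨s, hsW, hQs, hsC, y₀, hy₀, hys⟩ : ∃ s ∈ side Q u z, Q s = 0 ∧ s ∉ C ∧
            ∃ y₀ ∈ C, pl y₀ s ≠ 0 := by
          obtain ⟨y₀, hy₀, hy₀0⟩ : ∃ y₀ ∈ C, y₀ ≠ 0 := Submodule.exists_mem_ne_zero_of_ne_bot fun e => by
            rw [show d = 0 by simp [d, e]] at hd4; omega
          by_contra hcon
          push Not at hcon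
          obtain ⟨s₁, hs₁, hy₁⟩ : ∃ s₁ : side Q u z, Q (s₁ : V) = 0 ∧ pl y₀ s₁ ≠ 0 := by
            by_contra hc
            push Not at hc
            exact hy₀0 (side_singular_perp hQ (by omega) hp (hCW hy₀) fun x hx hQx => hc ⟨x, hx⟩ hQx)
          have hs₁C : (s₁ : V) ∈ C := by
            by_contra hn'
            exact hy₁ (hcon _ s₁.2 hs₁ hn' y₀ hy₀)
          obtain ⟨s₀, hs₀W, hQs₀, hs₀C⟩ : ∃ s₀ ∈ side Q u z, Q s₀ = 0 ∧ s₀ ∉ C := by
            by_contra hc
            push Not at hc
            refine hne (le_antisymm hCW fun w hw => ?_)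
            let B : LinearMap.BilinForm F (side Q u z) := QuadraticMap.polarBilin (Q.comp (side Q u z).subtype)
            have : (⟨w, hw⟩ : side Q u z) ∈ C.comap (side Q u z).subtype := mem_of_perp_perp hQW fun e he => by
              have he0 : e = 0 := Subtype.ext (side_singular_perp hQ (by omega) hp e.2 fun x hx hQx => by
                rw [QuadraticMap.polar_comm]; exact he ⟨x, hx⟩ (hc x hx hQx))
              rw [he0, QuadraticMap.polar_zero_right]
            exact this
          have e1 := hcon _ hs₀W hQs₀ hs₀C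
          refine hy₁ ?_
          have := hcon (s₀ + s₁) (Submodule.add_mem _ hs₀W s₁.2)
            (by rw [quad_add, hQs₀, hs₁, QuadraticMap.polar_comm, e1 _ hs₁C, add_zero, add_zero])
            (fun hc => hs₀C (by simpa using C.sub_mem hc hs₁C)) y₀ hy₀
          rwa [QuadraticMap.polar_add_right, e1 y₀ hy₀, zero_add] at this
        exact ⟨s, hsW, hQs, hsC, y₀, hy₀, hys, 1, le_rfl, by omega, by omega, fun _ _ _ _ => Or.inl rfl⟩
      · have hd3' : d = 3 := by omega
        rcases hq23 with e2 | e3
        · exfalso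
          -- odd alternating forms are degenerate
          have h2F : (2 : F) = 0 := by
            have := FiniteField.cast_card_eq_zero F
            change ((q : ℕ) : F) = 0 at this
            rw [e2] at this
            exact_mod_cast this
          have halt : ∀ v : V, pl v v = 0 := fun v => by rw [quad_polar_self, h2F, zero_mul]
          let bs := Module.finBasisOfFinrankEq F C hd3'
          set x := (bs 0 : V)
          set y := (bs 1 : V)
          set w := (bs 2 : V)
          obtain ⟨e, he⟩ : ∃ e : C, e = (pl y w) • bs 0 + (pl w x) • bs 1 + (pl x y) • bs 2 := ⟨_, rfl⟩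
          have hspan : ∀ v ∈ C, pl (e : V) v = 0 := by
            intro v hv
            have hrepr := bs.sum_repr ⟨v, hv⟩
            rw [Fin.sum_univ_three] at hrepr
            have hv' : (bs.repr ⟨v, hv⟩ 0) • x + (bs.repr ⟨v, hv⟩ 1) • y + (bs.repr ⟨v, hv⟩ 2) • w = v :=
              congrArg Subtype.val hrepr
            rw [← hv', he]
            change pl (pl y w • x + pl w x • y + pl x y • w) _ = 0
            simp only [QuadraticMap.polar_add_left, QuadraticMap.polar_add_right, QuadraticMap.polar_smul_left,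
              QuadraticMap.polar_smul_right, halt, QuadraticMap.polar_comm Q y x, QuadraticMap.polar_comm Q w y,
              QuadraticMap.polar_comm Q w x, smul_eq_mul]
            linear_combination (bs.repr ⟨v, hv⟩ 0 * pl x y * pl x w + bs.repr ⟨v, hv⟩ 1 * pl x y * pl y w +
              bs.repr ⟨v, hv⟩ 2 * pl x w * pl y w) * h2F
          have he0 : e = 0 := by
            by_contra he0
            obtain ⟨v, hv, hv'⟩ := hrad0 e.1 e.2 (fun e' => he0 (Subtype.ext e'))
            exact hv' (hspan v hv)
          have hc0 := congrArg (fun v => bs.repr v) he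
          rw [he0] at hc0
          simp only [map_zero, map_add, map_smul, Module.Basis.repr_self] at hc0
          have k0 := congrArg (fun v => v 0) hc0
          have k1 := congrArg (fun v => v 1) hc0
          have k2 := congrArg (fun v => v 2) hc0
          simp at k0 k1 k2
          obtain ⟨v, hv, hv'⟩ := hrad0 x (bs 0).2 (fun e' => bs.ne_zero 0 (Subtype.ext e'))
          have hrepr := bs.sum_repr ⟨v, hv⟩
          rw [Fin.sum_univ_three] at hrepr
          refine hv' ?_
          rw [← show (bs.repr ⟨v, hv⟩ 0) • x + (bs.repr ⟨v, hv⟩ 1) • y + (bs.repr ⟨v, hv⟩ 2) • w = v from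
            congrArg Subtype.val hrepr]
          simp [QuadraticMap.polar_add_right, QuadraticMap.polar_smul_right, halt, QuadraticMap.polar_comm Q x w,
            ← k1, ← k2]
        · have h2F : (2 : F) ≠ 0 := Ring.two_ne_zero fun hc => by
            have := FiniteField.even_card_of_char_two hc
            change q % 2 = 0 at this
            omega
          set C' := C.comap (side Q u z).subtype
          have hC' : Module.finrank F C' = 3 := by
            rw [(Submodule.comapSubtypeEquivOfLe hCW).finrank_eq]; exact hd3'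
          let B : LinearMap.BilinForm F (side Q u z) := QuadraticMap.polarBilin (Q.comp (side Q u z).subtype)
          have hBn : B.Nondegenerate := PolarNondeg.nondegenerate hQW
          have hBr : B.IsRefl := fun a b e => (QuadraticMap.polar_comm Q b.1 a.1).trans e
          set D := B.orthogonal C'
          have hD : Module.finrank F D = Module.finrank F (side Q u z) - 3 := by
            rw [LinearMap.BilinForm.finrank_orthogonal hBn, hC']
          have hDn : PolarNondeg ((Q.comp (side Q u z).subtype).comp D.subtype) := by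
            intro v hv
            have hvC : (v : side Q u z) ∈ B.orthogonal D := fun d hd' =>
              (QuadraticMap.polar_comm Q d.1 v.1.1).trans (hv ⟨d, hd'⟩)
            rw [LinearMap.BilinForm.orthogonal_orthogonal hBn hBr] at hvC
            by_contra hv0
            obtain ⟨y, hy, hy'⟩ := hrad0 v.1.1 hvC (fun e => hv0 (Subtype.ext (Subtype.ext e)))
            exact hy' ((QuadraticMap.polar_comm Q v.1.1 y).trans (v.2 ⟨y, hCW hy⟩ hy))
          obtain ⟨v, hv, hQv⟩ : ∃ v ∈ C, Q v ≠ 0 := by
            by_contra hc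
            push Not at hc
            obtain ⟨v, hv, hv0⟩ : ∃ v ∈ C, v ≠ 0 := Submodule.exists_mem_ne_zero_of_ne_bot fun e => by
              rw [show d = 0 by simp [d, e]] at hd3'; omega
            obtain ⟨y, hy, hy'⟩ := hrad0 v hv hv0
            exact hy' (polar_eq_zero_of_singular hc hv hy)
          obtain ⟨w, hw⟩ := exists_value _ hDn (by omega) (c := -Q v) (neg_ne_zero.2 hQv)
          have hwC : ∀ c ∈ C, pl c w.1.1 = 0 := fun c hc => w.2 ⟨c, hCW hc⟩ hc
          have hvw : pl v w.1.1 = 0 := hwC v hv
          have hQw : Q w.1.1 = -Q v := hw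
          refine ⟨v + w.1.1, Submodule.add_mem _ (hCW hv) w.1.2,
            by rw [quad_add, hQw, hvw, add_zero, add_neg_cancel], fun hmem => ?_, v, hv, ?_, 0, by omega,
            fun _ => hd3, fun _ => rfl, fun c hc hsc hcon => Or.inr ?_⟩
          · have hwC' : w.1.1 ∈ C := by simpa using C.sub_mem hmem hv
            have := hwC _ hwC'
            rw [quad_polar_self, hQw] at this
            exact mul_ne_zero h2F (neg_ne_zero.2 hQv) this
          · rw [QuadraticMap.polar_add_right, hvw, add_zero, quad_polar_self]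
            exact mul_ne_zero h2F hQv
          · have hsy : ∀ y ∈ C, pl (v + w.1.1) y = pl v y := fun y hy => by
              rw [QuadraticMap.polar_add_left, QuadraticMap.polar_comm Q w.1.1 y, hwC y hy, add_zero]
            by_contra hc0
            obtain ⟨y, hy, hy'⟩ := hrad0 c hc hc0
            refine hy' ?_
            rw [QuadraticMap.polar_comm]
            set k := pl v y / pl v v
            have hvv : pl v v ≠ 0 := by rw [quad_polar_self]; exact mul_ne_zero h2F hQv
            have h1 := hcon (y - k • v) (C.sub_mem hy (C.smul_mem _ hv)) (by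
              rw [hsy _ (C.sub_mem hy (C.smul_mem _ hv)), QuadraticMap.polar_sub_right,
                QuadraticMap.polar_smul_right, smul_eq_mul, div_mul_cancel₀ _ hvv, sub_self])
            rw [hsy c hc] at hsc
            rwa [QuadraticMap.polar_sub_left, QuadraticMap.polar_smul_left, hsc, smul_zero, sub_zero] at h1
    obtain ⟨hr3, hrd, hrad⟩ := hrK
    -- the translations at the singular vector
    obtain ⟨hsu, hsz⟩ := mem_side.1 hsW
    set A := paramSub Q u z s s
    have hAmem : ∀ a ∈ A, eG Q s a ∈ pairFix Q u z := fun a ha => by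
      obtain ⟨⟨g1, g2⟩, g3, -⟩ := mem_paramSub.1 ha
      exact ⟨eG_fix_of hQs g3 hsu g1, eG_fix_of hQs g3 hsz g2⟩
    let img : A → imgs Q u z (C : Set V) := fun a => ⟨_, ⟨eG Q s a.1, hAmem a.1 a.2⟩, rfl⟩
    have hA : q ^ (n - 3) ≤ Nat.card A := by
      rw [Module.natCard_eq_pow_finrank (K := F), Nat.card_eq_fintype_card]
      refine Nat.pow_le_pow_right hq0 ?_
      have hd := finrank_side hp
      let L : side Q u z →ₗ[F] F := (QuadraticMap.polarBilin Q s).comp (side Q u z).subtype
      have g1 := LinearMap.finrank_range_add_finrank_ker L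
      have g2 := Submodule.finrank_le (LinearMap.range L)
      rw [Module.finrank_self] at g2
      refine le_trans (show n - 3 ≤ Module.finrank F (LinearMap.ker L) by omega) ?_
      refine LinearMap.finrank_le_finrank_of_injective
        (f := LinearMap.codRestrict A ((side Q u z).subtype.comp (LinearMap.ker L).subtype) fun y =>
          mem_paramSub.2 ⟨mem_side.1 y.1.2, LinearMap.mem_ker.1 y.2, LinearMap.mem_ker.1 y.2⟩) ?_
      intro y y' e
      exact Subtype.ext (Subtype.ext (congrArg (fun v : A => (v : V)) e))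
    have hfib : ∀ J : imgs Q u z (C : Set V), Nat.card {a : A // img a = J} ≤ q * q ^ r := by
      intro J
      by_cases hex : ∃ a₀, img a₀ = J
      swap
      · haveI : IsEmpty {a : A // img a = J} := ⟨fun a => hex ⟨a.1, a.2⟩⟩
        simp
      obtain ⟨a₀, ha₀⟩ := hex
      have hdiff : ∀ a : {a : A // img a = J}, ∃ k : F, ∃ c ∈ C, pl s c = 0 ∧
          (∀ y ∈ C, pl s y = 0 → pl y c = 0) ∧ (a.1.1 : V) - a₀.1 = c + k • s := by
        intro a
        obtain ⟨-, ga, -⟩ := mem_paramSub.1 a.1.2
        obtain ⟨-, ga₀, -⟩ := mem_paramSub.1 a₀.2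
        set b := (a.1.1 : V) - a₀.1
        have hb : pl s b = 0 := by simp [b, ga, ga₀]
        have hfix : ∀ y ∈ C, act (eG Q s b) y ∈ C := by
          intro y hy
          have e1 : act (eG Q s a.1.1) '' (C : Set V) = act (eG Q s a₀.1) '' (C : Set V) :=
            congrArg Subtype.val (a.2.trans ha₀.symm)
          obtain ⟨y', hy', e'⟩ := e1.subset ⟨y, hy, rfl⟩
          have h5 : act (eG Q s b) y = y' := by
            rw [show b = -a₀.1 + a.1.1 by simp [b]; abel,
              ← eG_mul hQs (by rw [QuadraticMap.polar_neg_right, ga₀, neg_zero]) ga, act_mul, ← e',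
              ← eG_inv hQs ga₀, act_inv_act]
          rw [h5]; exact hy'
        have hkill : ∀ y ∈ C, pl s y = 0 → pl y b = 0 := by
          intro y hy hsy
          by_contra hne'
          refine hsC ?_
          have h5 := C.sub_mem hy (hfix y hy)
          rw [eG_apply hQs hb, show pl y s = 0 from (QuadraticMap.polar_comm Q y s).trans hsy, zero_smul, add_zero,
            mul_zero, add_zero, sub_sub_cancel] at h5
          have h6 := C.smul_mem (pl y b)⁻¹ h5
          rwa [inv_smul_smul₀ hne'] at h6
        have h6 := C.smul_mem (pl y₀ s)⁻¹ (C.sub_mem (hfix y₀ hy₀) hy₀)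
        rw [eG_apply hQs hb] at h6
        set k := (pl y₀ b + Q b * pl y₀ s) * (pl y₀ s)⁻¹
        have hc : b - k • s ∈ C := by
          convert h6 using 1
          match_scalars <;> (try simp only [k]) <;> field_simp <;> ring
        refine ⟨k, b - k • s, hc, ?_, fun y hy hsy => ?_, (sub_add_cancel _ _).symm⟩
        · simp [hb, quad_polar_self, hQs]
        · rw [QuadraticMap.polar_sub_right, hkill y hy hsy, QuadraticMap.polar_smul_right,
            QuadraticMap.polar_comm, hsy, smul_zero, sub_zero]
      choose kk cc hcC hcs hcy hce using hdiff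
      rcases Nat.eq_zero_or_pos r with hr0 | hr0
      · subst hr0
        rw [pow_zero, mul_one, hq, ← Nat.card_eq_fintype_card]
        refine Nat.card_le_card_of_injective kk fun a a' e => ?_
        have h7 : ∀ a, cc a = 0 := fun a => (hrad _ (hcC a) (hcs a) (hcy a)).resolve_left (by omega)
        have e1 := hce a
        have e2 := hce a'
        rw [h7, e] at e1
        rw [h7] at e2
        exact Subtype.ext (Subtype.ext (sub_left_injective (e1.trans e2.symm)))
      · obtain rfl : r = 1 := by omega
        rw [pow_one]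
        -- one more parameter
        obtain ⟨c₁, hc₁⟩ : ∃ c₁ : V, ∀ a, ∃ l : F, cc a = l • c₁ := by
          by_cases hz : ∀ a, cc a = 0
          · exact ⟨0, fun a => ⟨0, by rw [hz a, zero_smul]⟩⟩
          push Not at hz
          obtain ⟨a₁, ha₁⟩ := hz
          refine ⟨cc a₁, fun a => ?_⟩
          have key : ∀ c ∈ C, (∀ y ∈ C, pl s y = 0 → pl y c = 0) → ∀ y ∈ C,
              pl y c = pl s y * (pl y₀ c / pl s y₀) := by
            intro c _ hcon y hy
            have hys : pl s y₀ ≠ 0 := by rwa [QuadraticMap.polar_comm]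
            have h1 := hcon (y - (pl s y / pl s y₀) • y₀) (C.sub_mem hy (C.smul_mem _ hy₀)) (by
              rw [QuadraticMap.polar_sub_right, QuadraticMap.polar_smul_right, smul_eq_mul,
                div_mul_cancel₀ _ hys, sub_self])
            rw [QuadraticMap.polar_sub_left, QuadraticMap.polar_smul_left, sub_eq_zero] at h1
            rw [h1, smul_eq_mul]
            field_simp
          have hne1 : pl y₀ (cc a₁) ≠ 0 := fun e => by
            obtain ⟨y, hy, hy'⟩ := hrad0 _ (hcC a₁) ha₁
            refine hy' ?_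
            rw [QuadraticMap.polar_comm, key _ (hcC a₁) (hcy a₁) y hy, e, zero_div, mul_zero]
          refine ⟨pl y₀ (cc a) / pl y₀ (cc a₁), ?_⟩
          by_contra hne2
          obtain ⟨y, hy, hy'⟩ := hrad0 _ (C.sub_mem (hcC a) (C.smul_mem (pl y₀ (cc a) / pl y₀ (cc a₁)) (hcC a₁)))
            (sub_ne_zero.2 hne2)
          refine hy' ?_
          rw [QuadraticMap.polar_comm, QuadraticMap.polar_sub_right, QuadraticMap.polar_smul_right,
            key _ (hcC a) (hcy a) y hy, key _ (hcC a₁) (hcy a₁) y hy, smul_eq_mul]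
          field_simp
          ring
        choose ll hll using hc₁
        refine (Nat.card_le_card_of_injective (fun a => (kk a, ll a)) fun a a' e => ?_).trans
          (by rw [Nat.card_prod, Nat.card_eq_fintype_card])
        obtain ⟨e1, e2⟩ := Prod.ext_iff.1 e
        have g1 := hce a
        have g2 := hce a'
        rw [hll, show kk a = kk a' from e1, show ll a = ll a' from e2] at g1
        rw [hll] at g2
        exact Subtype.ext (Subtype.ext (sub_left_injective (g1.trans g2.symm)))
    let _ : Fintype (imgs Q u z (C : Set V)) := Fintype.ofFinite _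
    have hbig : Nat.card A ≤ I * (q * q ^ r) := by
      rw [← Nat.card_congr (Equiv.sigmaFiberEquiv img), Nat.card_sigma]
      refine (Finset.sum_le_card_nsmul _ _ _ fun J _ => hfib J).trans ?_
      rw [smul_eq_mul, Finset.card_univ, ← Nat.card_eq_fintype_card, Nat.card_coe_set_eq]
    have hkey := hcov (hA.trans hbig)
    have hdr : r + 3 ≤ d := by
      rcases Nat.eq_zero_or_pos r with e | e
      · omega
      · rcases Nat.lt_or_ge d 4 with h4 | h4
        · have := hrd (by omega); omega
        · omega
    have h5 : q ^ (n - 1) * (q * q ^ r) ≤ q ^ d * q ^ (n - 3) := by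
      rw [← pow_succ', ← pow_add, ← pow_add]
      exact Nat.pow_le_pow_right hq0 (by omega)
    have h6 := Nat.le_of_mul_le_mul_right (h5.trans hkey) (Nat.mul_pos hq0 (Nat.pow_pos hq0))
    have h7 : N ≤ N * (q - 1) := Nat.le_mul_of_pos_right _ (by omega)
    omega
  -- a plane with an anisotropic vector
  obtain ⟨x, hx, hQx⟩ : ∃ x ∈ C, Q x ≠ 0 := by
    by_contra hc
    push Not at hc
    have hle : C ≤ singRadSub Q C := fun v hv => ⟨hv, hc v hv, fun y hy => polar_eq_zero_of_singular hc hv hy⟩
    have := Submodule.finrank_mono hle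
    omega
  have hx0 : x ≠ 0 := fun e => hQx (by rw [e, map_zero])
  obtain ⟨y, hy, hyx, hyo⟩ : ∃ y ∈ C, (q = 3 → n = 7 → pl x y = 0) ∧ ∀ k : F, y ≠ k • x := by
    by_cases h37 : q = 3 ∧ n = 7
    · have h2F : (2 : F) ≠ 0 := Ring.two_ne_zero fun hc => by
        have := FiniteField.even_card_of_char_two hc
        change q % 2 = 0 at this
        omega
      let L : C →ₗ[F] F := (QuadraticMap.polarBilin Q x).comp C.subtype
      have g1 := LinearMap.finrank_range_add_finrank_ker L
      have g2 := Submodule.finrank_le (LinearMap.range L)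
      rw [Module.finrank_self] at g2
      obtain ⟨y, hy, hy0⟩ : ∃ y ∈ LinearMap.ker L, y ≠ 0 := Submodule.exists_mem_ne_zero_of_ne_bot fun e => by
        rw [e, finrank_bot] at g1; omega
      refine ⟨y.1, y.2, fun _ _ => LinearMap.mem_ker.1 hy, fun k e => ?_⟩
      have h1 : pl x y.1 = 0 := LinearMap.mem_ker.1 hy
      rw [e, QuadraticMap.polar_smul_right, quad_polar_self, smul_eq_mul, mul_eq_zero] at h1
      rcases h1 with h1 | h1
      · exact hy0 (Subtype.ext (by rw [e, h1, zero_smul]; rfl))
      · exact mul_ne_zero h2F hQx h1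
    · by_contra hcon
      push Not at hcon
      have hle : C ≤ Submodule.span F {x} := fun y hy => by
        obtain ⟨k, rfl⟩ := hcon y hy fun a b => absurd ⟨a, b⟩ h37
        exact Submodule.smul_mem _ _ (Submodule.mem_span_singleton_self x)
      have := Submodule.finrank_mono hle
      rw [finrank_span_singleton hx0] at this
      omega
  obtain ⟨s, hsW, hQs, hsx, hys⟩ : ∃ s ∈ side Q u z, Q s = 0 ∧ pl s x = 0 ∧ pl y s = 1 := by
    obtain ⟨s₀, hs₀, hQs₀, hsx, hys⟩ : ∃ s ∈ side Q u z, Q s = 0 ∧ pl s x = 0 ∧ pl y s ≠ 0 := by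
      obtain ⟨a₁, hpa⟩ : ∃ a, SingPair Q u z ∧ a ∈ side Q u z ∧ pl x a = 0 ∧ pl y a ≠ 0 := by
        obtain ⟨a, h1, h2⟩ := exists_polar_sep (Q.comp (side Q u z).subtype) hQW
          (a := ⟨y, hCW hy⟩) (b := ⟨x, hCW hx⟩) (fun k e => hyo k (congrArg Subtype.val e).symm)
        exact ⟨a.1, hp, a.2, h1, h2⟩
      obtain ⟨-, haW, hxa, hya⟩ := hpa
      -- a singular vector orthogonal to x
      by_contra hcon
      push Not at hcon
      let B : LinearMap.BilinForm F V := QuadraticMap.polarBilin Q
      set P := side Q u z ⊓ LinearMap.ker (B x)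
      have hP : ∀ v, v ∈ P ↔ v ∈ side Q u z ∧ pl x v = 0 := fun v => by simp [P, B]
      obtain ⟨c, c', hc, hc', hcc⟩ : ∃ c c', c ∈ P ∧ c' ∈ P ∧ SingPair Q c c' := by
        obtain ⟨e₁, he₁, hQe₁, he₁0⟩ : ∃ e ∈ P, Q e = 0 ∧ e ≠ 0 := by
          obtain ⟨a', ha'0, ha'⟩ := exists_singular _ hQW (by omega)
          obtain ⟨a'', hp'⟩ := exists_pair hQW ha' ha'0
          set x₁ : side Q u z := a' + Q x • a''
          have hx₁ : Q (x₁ : V) = Q x := by
            change Q.comp (side Q u z).subtype (a' + Q x • a'') = _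
            rw [quad_add, quad_smul, ha', hp'.qz, QuadraticMap.polar_smul_right, hp'.uz]
            simp
          obtain ⟨g, hg, hgx⟩ := exists_pairFix_move hQ hn hp x₁.2 (hCW hx)
            (fun e => hQx (by rw [← hx₁, e, map_zero])) hx0 hx₁
          obtain ⟨e₂, he₂0, he₂⟩ := exists_singular _ (polarNondeg_side hQW hp')
            (by have := finrank_side hp'; omega)
          obtain ⟨f1, f2⟩ := mem_side.1 e₂.1.2
          obtain ⟨f3, f4⟩ := mem_side.1 e₂.2
          refine ⟨act g e₂.1.1, (hP _).2 ⟨mem_side.2 ⟨(congrArg (fun v => pl v _) hg.1).symm.trans ((act_polar g u _).trans f1),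
            (congrArg (fun v => pl v _) hg.2).symm.trans ((act_polar g z _).trans f2)⟩, ?_⟩, (act_quad g _).trans he₂, act_ne_zero g
            (fun e => he₂0 (Subtype.ext (Subtype.ext e)))⟩
          rw [← hgx, act_polar]
          change QuadraticMap.polar (Q.comp (side Q u z).subtype) (a' + Q x • a'') e₂.1 = 0
          rw [QuadraticMap.polar_add_left, QuadraticMap.polar_smul_left, f3, f4, smul_zero, add_zero]
        obtain ⟨hbW, hxb⟩ := (hP e₁).1 he₁
        obtain ⟨a₂, h1, h2⟩ := exists_polar_sep (Q.comp (side Q u z).subtype) hQW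
          (a := ⟨e₁, hbW⟩) (b := ⟨x, hCW hx⟩) (fun k e => by
            have e' : k • x = e₁ := congrArg Subtype.val e
            rw [← e', quad_smul] at hQe₁
            have := (mul_eq_zero.1 hQe₁).resolve_right hQx
            exact he₁0 (by rw [← e', mul_self_eq_zero.1 this, zero_smul]))
        have h1' : pl x a₂.1 = 0 := h1
        have h2' : pl e₁ a₂.1 ≠ 0 := h2
        set w := (pl e₁ a₂.1)⁻¹ • a₂.1
        have ew : pl e₁ w = 1 := by
          rw [QuadraticMap.polar_smul_right, smul_eq_mul, inv_mul_cancel₀ h2']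
        have hwP : w ∈ P := P.smul_mem _ ((hP _).2 ⟨a₂.2, h1'⟩)
        clear_value w
        refine ⟨e₁, w + (-Q w) • e₁, he₁, P.add_mem hwP (P.smul_mem _ he₁), hQe₁, ?_, ?_⟩
        · simp [quad_add, quad_smul, hQe₁, QuadraticMap.polar_smul_right, QuadraticMap.polar_comm Q w e₁, ew]
        · simp [QuadraticMap.polar_add_right, QuadraticMap.polar_smul_right, quad_polar_self, hQe₁, ew]
      have h0 : ∀ e ∈ P, Q e = 0 → pl y e = 0 := fun e he hQe => by
        obtain ⟨f1, f2⟩ := (hP e).1 he
        exact hcon e f1 hQe (by rw [QuadraticMap.polar_comm]; exact f2)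
      refine hya ?_
      obtain ⟨w, hw, e⟩ := exists_side_decomp hcc a₁
      obtain ⟨g1, g2⟩ := mem_side.1 hw
      have haP : a₁ ∈ P := (hP _).2 ⟨haW, hxa⟩
      have hwP : w ∈ P := by
        have e' : a₁ - pl a₁ c' • c - pl a₁ c • c' = w := by
          rw [sub_sub, sub_eq_iff_eq_add']; exact e
        rw [← e']
        exact P.sub_mem (P.sub_mem haP (P.smul_mem _ hc)) (P.smul_mem _ hc')
      have hs := h0 (c + w + (-Q w) • c') (P.add_mem (P.add_mem hc hwP) (P.smul_mem _ hc')) (by
        simp [quad_add, quad_smul, hcc.qu, hcc.qz, QuadraticMap.polar_add_left, QuadraticMap.polar_smul_right,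
          hcc.uz, g1, QuadraticMap.polar_comm Q w c', g2])
      have hc0 := h0 c hc hcc.qu
      have hc0' := h0 c' hc' hcc.qz
      rw [QuadraticMap.polar_add_right, QuadraticMap.polar_add_right, QuadraticMap.polar_smul_right, hc0, hc0',
        smul_zero, zero_add, add_zero] at hs
      rw [e, QuadraticMap.polar_add_right, QuadraticMap.polar_add_right, QuadraticMap.polar_smul_right,
        QuadraticMap.polar_smul_right, hc0, hc0', hs, smul_zero, smul_zero, add_zero, add_zero]
    refine ⟨(pl y s₀)⁻¹ • s₀, Submodule.smul_mem _ _ hs₀, by rw [quad_smul, hQs₀, mul_zero],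
      by rw [QuadraticMap.polar_smul_left, hsx, smul_zero],
      by rw [QuadraticMap.polar_smul_right, smul_eq_mul, inv_mul_cancel₀ hys]⟩
  -- translations of y fixing x
  obtain ⟨hsu, hsz⟩ := mem_side.1 hsW
  set A := paramSub Q u z s x
  have hAq : q ^ (n - 4) ≤ Nat.card A := by
    rw [Module.natCard_eq_pow_finrank (K := F), Nat.card_eq_fintype_card]
    exact Nat.pow_le_pow_right hq0 (finrank_paramSub_ge hp)
  have hAg : ∀ a : A, eG Q s a.1 ∈ pairFix Q u z ∧ act (eG Q s a.1) x = x := fun a => by
    obtain ⟨⟨g1, g2⟩, g3, g4⟩ := mem_paramSub.1 a.2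
    exact ⟨⟨eG_fix_of hQs g3 hsu g1, eG_fix_of hQs g3 hsz g2⟩,
      eG_fix_of hQs g3 (by rw [QuadraticMap.polar_comm]; exact hsx) g4⟩
  let Y := Set.range fun a : A => act (eG Q s a.1) y
  have hY : q ^ (n - 5) ≤ Nat.card Y := by
    have h1 : Nat.card A ≤ Nat.card (F × Y) := by
      refine Nat.card_le_card_of_injective
        (fun a : A => (pl y a.1 + Q a.1, (⟨_, a, rfl⟩ : Y))) fun a a' e => ?_
      obtain ⟨e1, e2⟩ := Prod.ext_iff.1 e
      have e3 : act (eG Q s a.1) y = act (eG Q s a'.1) y := congrArg Subtype.val e2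
      rw [eG_apply hQs (mem_paramSub.1 a.2).2.1, eG_apply hQs (mem_paramSub.1 a'.2).2.1, hys, one_smul, one_smul,
        mul_one, mul_one] at e3
      simp only at e1
      rw [e1] at e3
      exact Subtype.ext (by simpa using e3)
    rw [Nat.card_prod, Nat.card_eq_fintype_card (α := F)] at h1
    refine le_of_mul_le_mul_left ?_ hq0
    rw [← pow_succ', show n - 5 + 1 = n - 4 by omega]
    exact hAq.trans h1
  let X := {x' : side Q u z // Q (x' : V) = Q x}
  have hmv : ∀ x' : X, ∃ g ∈ pairFix Q u z, act g x = x'.1.1 := fun x' =>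
    exists_pairFix_move hQ hn hp (hCW hx) x'.1.2 hx0 (fun e => hQx (by rw [← x'.2, e, map_zero])) x'.2.symm
  choose mv hmv1 hmv2 using hmv
  -- pairs in the plane
  let P := if q = 3 ∧ n = 7 then 16 else (q ^ 2 - 1) * (q ^ 2 - q)
  have hcount : Nat.card (X × Y) ≤ I * P := by
    refine card_le_imgs_rel (fun J (a : X × Y) => (a.1.1 : V) ∈ J ∧ act (mv a.1) a.2.1 ∈ J) ?_ fun g _ => ?_
    · rintro ⟨x', yy, a, rfl⟩
      refine ⟨mv x' * eG Q s a.1, mul_mem (hmv1 x') (hAg a).1,
        ⟨x, hx, by rw [act_mul, (hAg a).2, hmv2]⟩, ⟨y, hy, act_mul _ _ _⟩⟩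
    · have hCc : Nat.card C = q ^ 2 := by rw [← hd2]; exact hCcard
      have hpre : ∀ a : {a : X × Y // (a.1.1 : V) ∈ act g '' (C : Set V) ∧
          act (mv a.1) a.2.1 ∈ act g '' (C : Set V)}, ∃ x₁ ∈ C, ∃ w₁ ∈ C, x₁ ≠ 0 ∧ (∀ k : F, w₁ ≠ k • x₁) ∧
            Q x₁ = Q x ∧ pl x₁ w₁ = pl x y ∧ act g x₁ = a.1.1.1.1 ∧ act g w₁ = act (mv a.1.1) a.1.2.1 := by
        rintro ⟨⟨x', yy⟩, ⟨x₁, hx₁, e1⟩, ⟨w₁, hw₁, e2⟩⟩
        obtain ⟨a, ea⟩ := yy.2
        have hfix := (hAg a).2
        have hQx₁ : Q x₁ = Q x := by rw [← act_quad g x₁, e1, x'.2]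
        have ew : act g w₁ = act (mv x' * eG Q s a.1) y := by
          rw [e2, act_mul]; exact congrArg (act (mv x')) ea.symm
        have ex : act g x₁ = act (mv x' * eG Q s a.1) x := by rw [e1, act_mul, hfix, hmv2]
        refine ⟨x₁, hx₁, w₁, hw₁, fun e => hQx (by rw [← hQx₁, e, map_zero]), fun k e => hyo k ?_, hQx₁, ?_, e1, e2⟩
        · rw [e] at ew
          have h8 : act g (k • x₁) = act (mv x' * eG Q s a.1) (k • x) := by
            change (g : qAut Q).1 (k • x₁) = (mv x' * eG Q s a.1 : eichGroup Q).1.1 (k • x)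
            rw [map_smul, map_smul]
            exact congrArg (k • ·) ex
          rw [h8] at ew
          exact ((mv x' * eG Q s a.1 : eichGroup Q).1.1.injective ew).symm
        · rw [← act_polar g x₁ w₁, ex, ew, act_polar]
      choose fx hfx fw hfw hf0 hfo hfQ hfp hfe1 hfe2 using hpre
      have hinj : ∀ a b, fx a = fx b → fw a = fw b → a = b := by
        intro a b e1 e2
        have g1 := hfe1 a
        have g2 := hfe2 a
        rw [e1, hfe1 b] at g1
        rw [e2, hfe2 b] at g2
        obtain ⟨⟨x', yy⟩, ha⟩ := a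
        obtain ⟨⟨x'', yy'⟩, hb⟩ := b
        obtain rfl : x'' = x' := Subtype.ext (Subtype.ext g1)
        obtain rfl : yy' = yy := Subtype.ext ((mv x'' : eichGroup Q).1.1.injective g2)
        rfl
      simp only [P]
      split_ifs with h37
      · refine le_trans (Nat.card_le_card_of_injective
          (fun a => (⟨⟨fx a, hfx a, hf0 a, hfQ a⟩, ⟨fw a, hfw a, by
            rw [hfp a]; exact hyx h37.1 h37.2, fun e => hfo a 0 (by rw [e, zero_smul])⟩⟩ :
            Σ x₁ : {v : V // v ∈ C ∧ v ≠ 0 ∧ Q v = Q x}, {w : V // w ∈ C ∧ pl x₁.1 w = 0 ∧ w ≠ 0}))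
          (fun a b e => hinj a b (congrArg (fun v => v.1.1) e) (congrArg (fun v => v.2.1) e))) ?_
        let _ : Fintype {v : V // v ∈ C ∧ v ≠ 0 ∧ Q v = Q x} := Fintype.ofFinite _
        rw [Nat.card_sigma]
        refine (Finset.sum_le_card_nsmul _ _ 2 fun x₁ _ => ?_).trans ?_
        · let L : C →ₗ[F] F := (QuadraticMap.polarBilin Q x₁.1).comp C.subtype
          have h2F : (2 : F) ≠ 0 := Ring.two_ne_zero fun hc => by
            have := FiniteField.even_card_of_char_two hc
            change q % 2 = 0 at this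
            omega
          have hLs : LinearMap.range L = ⊤ := by
            refine (Submodule.eq_top_iff_finrank_eq (K := F)).2 (le_antisymm (Submodule.finrank_le _) ?_)
            rw [Module.finrank_self]
            refine Submodule.one_le_finrank_iff.2 fun e => ?_
            have : L ⟨x₁.1, x₁.2.1⟩ = 0 := by
              have := LinearMap.mem_range_self L ⟨x₁.1, x₁.2.1⟩
              rwa [e, Submodule.mem_bot] at this
            change pl x₁.1 x₁.1 = 0 at this
            rw [quad_polar_self, x₁.2.2.2] at this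
            exact mul_ne_zero h2F hQx this
          have g1 := LinearMap.finrank_range_add_finrank_ker L
          rw [hLs, finrank_top, Module.finrank_self] at g1
          change 1 + _ = d at g1
          rw [hd2] at g1
          have hk : Nat.card (LinearMap.ker L) = 3 := by
            rw [Module.natCard_eq_pow_finrank (K := F), Nat.card_eq_fintype_card,
              show Module.finrank F (LinearMap.ker L) = 1 by omega, pow_one]
            exact h37.1
          have h3 := Nat.card_le_card_of_injective
            (fun o : Option {w : V // w ∈ C ∧ pl x₁.1 w = 0 ∧ w ≠ 0} => match o with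
              | none => (0 : LinearMap.ker L)
              | some w => ⟨⟨w.1, w.2.1⟩, LinearMap.mem_ker.2 w.2.2.1⟩)
            (by
              rintro (_ | a) (_ | b) e
              · rfl
              · exact absurd (congrArg (fun v : LinearMap.ker L => v.1.1) e).symm b.2.2.2
              · exact absurd (congrArg (fun v : LinearMap.ker L => v.1.1) e) a.2.2.2
              · exact congrArg some (Subtype.ext (congrArg (fun v : LinearMap.ker L => v.1.1) e)))
          rw [hk, Finite.card_option] at h3
          omega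
        · rw [smul_eq_mul, Finset.card_univ, ← Nat.card_eq_fintype_card]
          have h3 : Nat.card {v : V // v ∈ C ∧ v ≠ 0 ∧ Q v = Q x} + 1 ≤ q ^ 2 := by
            rw [← hCc, ← Finite.card_option]
            exact Nat.card_le_card_of_injective
              (fun o : Option {v : V // v ∈ C ∧ v ≠ 0 ∧ Q v = Q x} => match o with
                | none => (0 : C)
                | some v => ⟨v.1, v.2.1⟩)
              (by
                rintro (_ | a) (_ | b) e
                · rfl
                · exact absurd (congrArg Subtype.val e).symm b.2.2.1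
                · exact absurd (congrArg Subtype.val e) a.2.2.1
                · exact congrArg some (Subtype.ext (congrArg Subtype.val e :)))
          rw [h37.1] at h3
          omega
      · refine le_trans (Nat.card_le_card_of_injective
          (fun a => (⟨⟨fx a, hfx a, hf0 a⟩, ⟨fw a, hfw a, hfo a⟩⟩ :
            Σ x₁ : {v : V // v ∈ C ∧ v ≠ 0}, {w : V // w ∈ C ∧ ∀ k : F, w ≠ k • x₁.1}))
          (fun a b e => hinj a b (congrArg (fun v => v.1.1) e) (congrArg (fun v => v.2.1) e))) (le_of_eq ?_)
        let _ : Fintype {v : V // v ∈ C ∧ v ≠ 0} := Fintype.ofFinite _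
        rw [Nat.card_sigma, Finset.sum_congr rfl (g := fun _ => q ^ 2 - q), Finset.sum_const, smul_eq_mul,
          Finset.card_univ, ← Nat.card_eq_fintype_card]
        · congr 1
          change Nat.card {v : V | v ∈ C ∧ v ≠ 0} = _
          rw [Nat.card_coe_set_eq, show {v : V | v ∈ C ∧ v ≠ 0} = (C : Set V) \ {0} by ext v; simp,
            Set.ncard_sdiff_singleton_of_mem C.zero_mem (s := (C : Set V)), ← Nat.card_coe_set_eq]
          exact congrArg (· - 1) hCc
        · intro x₁ _
          change Nat.card {w : V | w ∈ C ∧ ∀ k : F, w ≠ k • x₁.1} = _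
          rw [Nat.card_coe_set_eq, show {w : V | w ∈ C ∧ ∀ k : F, w ≠ k • x₁.1} =
            (C : Set V) \ Set.range (fun k : F => k • x₁.1) by ext v; simp [eq_comm],
            Set.ncard_sdiff (Set.range_subset_iff.2 fun k => C.smul_mem k x₁.2.1), ← Nat.card_coe_set_eq,
            ← Nat.card_coe_set_eq, Nat.card_range_of_injective (smul_left_injective F x₁.2.2),
            Nat.card_eq_fintype_card (α := F)]
          exact congrArg (· - q) hCc
  have hkey := hcov hcount
  rw [hd2, Nat.card_prod] at hkey
  have hv := hval (Q x) hQx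
  change q ^ (n - 3) ≤ Nat.card X + q ^ ((n - 3) / 2) at hv
  have h1 : q ^ (n - 3) * Nat.card X ≤ N * P := by
    refine le_trans ?_ hkey
    rw [show n - 3 = 2 + (n - 5) by omega, pow_add, mul_assoc, mul_comm (q ^ (n - 5))]
    exact Nat.mul_le_mul_left _ (Nat.mul_le_mul_left _ hY)
  have h2 : 0 < q ^ (n - 3) := Nat.pow_pos hq0
  by_cases h37 : q = 3 ∧ n = 7
  · obtain ⟨e3, e7⟩ := h37
    simp only [P, e3, e7, and_self, if_true] at h1 hNb hv
    norm_num at h1 hNb hv
    omega
  · simp only [P, if_neg h37] at h1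
    have h3 : q ^ (n - 1) = q ^ 2 * q ^ (n - 3) := by rw [← pow_add]; congr 1; omega
    rw [h3] at hNb
    rcases hq23 with e | e
    · have h8 := h.dim2 e
      change 8 ≤ n at h8
      rw [e] at h1 hNb hv h2
      norm_num at h1 hNb
      have h4 : 2 ^ ((n - 3) / 2) ≤ 2 ^ (n - 6) := Nat.pow_le_pow_right (by omega) (by omega)
      have h5 : 2 ^ (n - 3) = 2 ^ 3 * 2 ^ (n - 6) := by rw [← pow_add]; congr 1; omega
      have h6 : 2 ^ 2 ≤ 2 ^ (n - 6) := Nat.pow_le_pow_right (by omega) (by omega)
      have hX : 24 ≤ Nat.card X := by omega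
      have := Nat.mul_le_mul_left (2 ^ (n - 3)) hX
      omega
    · rw [e] at h1 hNb hv h2
      norm_num at h1 hNb
      have h4 : 3 ^ ((n - 3) / 2) ≤ 3 ^ (n - 6) := Nat.pow_le_pow_right (by omega) (by omega)
      have h5 : 3 ^ (n - 3) = 3 ^ 3 * 3 ^ (n - 6) := by rw [← pow_add]; congr 1; omega
      have h6 : 3 ^ 2 ≤ 3 ^ (n - 6) := Nat.pow_le_pow_right (by omega) (by omega)
      have hX : 216 ≤ Nat.card X := by omega
      have := Nat.mul_le_mul_left (3 ^ (n - 3)) hX
      omega

end CfsgLib.OrthMinIndex
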