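/-
Over two and three elements too, no radical of a singular point fixes a point of a small action.
-/
import Cfsg.Agent.Lib.OrthMinIndex.PrimeSubspace

set_option autoImplicit false

namespace CfsgLib.OrthMinIndex

open CfsgLib.Classical

variable {F V : Type*} [Field F] [AddCommGroup V] [Module F V] {Q : QuadraticForm F V}

local notation "pl" => QuadraticMap.polar Q

theorem pairFix_mem_side {u z : V} {g : eichGroup Q} (hg : g ∈ pairFix Q u z) {x : V}
    (hx : x ∈ side Q u z) : act g x ∈ side Q u z := by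
  obtain ⟨h1, h2⟩ := mem_side.1 hx
  exact mem_side.2 ⟨(congrArg (fun v => pl v _) hg.1).symm.trans ((act_polar g u x).trans h1),
    (congrArg (fun v => pl v _) hg.2).symm.trans ((act_polar g z x).trans h2)⟩

variable {Ω : Type*} [MulAction (eichGroup Q) Ω]
variable [Fintype F] [FiniteDimensional F V] [Finite V] [Finite Ω]
variable [MulAction.IsPretransitive (eichGroup Q) Ω] [Nontrivial Ω]

/-- No point of a small action is fixed by the radical of a singular point. -/
theorem not_fullU_small (h : SmallN Q Ω) {ω : Ω} {u : V} (hu : Q u = 0) (hu0 : u ≠ 0) :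
    ¬ FullU Q ω u := by
  classical
  intro hfull
  have hQ := h.nondeg
  have hn : 7 ≤ Module.finrank F V := h.dim
  have hn6 : 6 ≤ Module.finrank F V := by omega
  set q := Fintype.card F with hqdef
  have hq1 : 1 < q := Fintype.one_lt_card
  set T := fullSpace hQ hn6 ω with hT
  set k := Module.finrank F T with hkdef
  have huT : u ∈ T := ⟨hu, hfull⟩
  have hTs : ∀ x ∈ T, Q x = 0 := fun x hx => hx.1
  have hk1 : 1 ≤ k := Nat.one_le_iff_ne_zero.2 fun e => hu0 (by
    have := Submodule.finrank_eq_zero.1 e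
    rwa [this, Submodule.mem_bot] at huT)
  let P : Ω → V → Prop := fun o x => x ≠ 0 ∧ Q x = 0 ∧ FullU Q o x
  have hPg : ∀ (g : eichGroup Q) o x, P o x → P (g • o) (act g x) := fun g o x hx =>
    ⟨act_ne_zero g hx.1, by rw [act_quad, hx.2.1], hx.2.2.map hx.2.1 g⟩
  have hdc := double_count_sing hQ hn6 P (fun _ _ hx => ⟨hx.1, hx.2.1⟩) hPg ω hu0 hu
  set m := Nat.card {o : Ω // P o u}
  set S := singCount Q
  set N := Nat.card Ω
  have hcardT : Nat.card T = q ^ k := by
    rw [Module.natCard_eq_pow_finrank (K := F), Nat.card_eq_fintype_card]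
  have hr : Nat.card {x : V // P ω x} = q ^ k - 1 := by
    have e : {x : V | P ω x} = (T : Set V) \ {0} := by
      ext x
      simp only [P, Set.mem_ofPred_eq, Set.mem_sdiff, SetLike.mem_coe, Set.mem_singleton_iff, hT, mem_fullSpace]
      tauto
    change Nat.card {x : V | P ω x} = _
    rw [Nat.card_coe_set_eq, e, Set.ncard_sdiff_singleton_of_mem (zero_mem T) (s := (T : Set V)),
      ← Nat.card_coe_set_eq]
    exact congrArg (· - 1) hcardT
  rw [hr] at hdc
  suffices hk : q ^ k - 1 ≤ m * (q - 1) by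
    have h1 : S * (q ^ k - 1) ≤ N * (q - 1) * (q ^ k - 1) := by
      calc S * (q ^ k - 1) ≤ S * (m * (q - 1)) := Nat.mul_le_mul_left _ hk
        _ = N * (q - 1) * (q ^ k - 1) := by rw [← mul_assoc, ← hdc]; ring
    have hpos : 0 < q ^ k - 1 := by
      have := Nat.one_lt_pow (show k ≠ 0 by omega) hq1
      omega
    exact absurd (Nat.le_of_mul_le_mul_right h1 hpos) (not_le.2 h.lt_sing)
  have hm1 : 1 ≤ m := Nat.card_pos_iff.2 ⟨⟨⟨ω, hu0, hu, hfull⟩⟩, inferInstance⟩
  rcases hk1.eq_or_lt with e | hk2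
  · rw [← e, pow_one]
    exact Nat.le_mul_of_pos_left _ hm1
  obtain ⟨z, hp⟩ := exists_pair hQ hu hu0
  have hQW := polarNondeg_side hQ hp
  have hdW := finrank_side hp
  set C := T ⊓ side Q u z
  have hCW : C ≤ side Q u z := inf_le_right
  set j := Module.finrank F C with hjdef
  have hkj : k ≤ j + 1 := by
    let L : T →ₗ[F] F := (QuadraticMap.polarBilin Q z).comp T.subtype
    have g1 := LinearMap.finrank_range_add_finrank_ker L
    have g2 := Submodule.finrank_le (LinearMap.range L)
    rw [Module.finrank_self] at g2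
    have g3 : Module.finrank F (LinearMap.ker L) ≤ j := by
      refine LinearMap.finrank_le_finrank_of_injective
        (f := LinearMap.codRestrict C (T.subtype.comp (LinearMap.ker L).subtype) fun y =>
          ⟨y.1.2, mem_side.2 ⟨polar_eq_zero_of_singular hTs huT y.1.2, LinearMap.mem_ker.1 y.2⟩⟩) ?_
      intro y y' e
      exact Subtype.ext (Subtype.ext (congrArg (fun v : C => (v : V)) e))
    omega
  have hCs : ∀ x ∈ C, Q x = 0 := fun x hx => hTs x hx.1
  have hj2 : 2 * j ≤ Module.finrank F V - 2 := by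
    have h1 := finrank_le_half hQW (C.comap (side Q u z).subtype) fun x hx => hCs _ hx
    rw [(Submodule.comapSubtypeEquivOfLe hCW).finrank_eq] at h1
    change 2 * j ≤ _ at h1
    omega
  have hrad : singRadSub Q C = C := le_antisymm (fun x hx => hx.1)
    fun x hx => ⟨hx, hCs x hx, fun y hy => polar_eq_zero_of_singular hCs hx hy⟩
  set I := (imgs Q u z (C : Set V)).ncard with hI
  have hIm : I ≤ m := by
    rw [hI, ← Nat.card_coe_set_eq]
    have hch : ∀ J : imgs Q u z (C : Set V), ∃ g : pairFix Q u z, act (g : eichGroup Q) '' C = J.1 :=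
      fun J => J.2
    choose g hg using hch
    refine Nat.card_le_card_of_injective (fun J => (⟨(g J : eichGroup Q) • ω, by
      have := hPg (g J : eichGroup Q) ω u ⟨hu0, hu, hfull⟩
      rwa [(g J).2.1] at this⟩ : {o : Ω // P o u})) ?_
    intro J J' e
    have e' : (g J : eichGroup Q) • ω = (g J' : eichGroup Q) • ω := congrArg Subtype.val e
    have key : ∀ {a b : pairFix Q u z}, (a : eichGroup Q) • ω = (b : eichGroup Q) • ω →
        act (a : eichGroup Q) '' (C : Set V) ⊆ act (b : eichGroup Q) '' C := by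
      rintro a b e _ ⟨v, hv, rfl⟩
      refine ⟨act (b : eichGroup Q)⁻¹ (act (a : eichGroup Q) v),
        ⟨⟨by rw [act_quad, act_quad, hCs v hv], ?_⟩,
          pairFix_mem_side (inv_mem b.2) (pairFix_mem_side a.2 hv.2)⟩, act_act_inv _ _⟩
      have h1 := (hv.1.2.map hv.1.1 (a : eichGroup Q)).map (by rw [act_quad, hv.1.1]) (b : eichGroup Q)⁻¹
      rwa [e, inv_smul_smul] at h1
    apply Subtype.ext
    rw [← hg J, ← hg J']
    exact Set.Subset.antisymm (key e') (key e'.symm)
  refine le_trans ?_ (Nat.mul_le_mul_right _ hIm)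
  rcases Nat.lt_or_ge j 2 with hj | hj
  · obtain ⟨hk2', hj1⟩ : k = 2 ∧ j = 1 := by omega
    obtain ⟨a, haC, ha0⟩ : ∃ a ∈ C, a ≠ 0 := Submodule.exists_mem_ne_zero_of_ne_bot fun e => by
      rw [show j = 0 by simp [j, e]] at hj1
      omega
    let α := {x : side Q u z // x ≠ 0 ∧ Q (x : V) = 0}
    have hc : Nat.card α ≤ I * (q - 1) := by
      refine card_le_imgs_rel (fun J (x : α) => (x.1 : V) ∈ J) (fun x => ?_) fun g _ => ?_
      · obtain ⟨g, hg, hga⟩ := exists_pairFix_move hQ hn hp (hCW haC) x.1.2 ha0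
          (fun e => x.2.1 (Subtype.ext e)) ((hCs a haC).trans x.2.2.symm)
        exact ⟨g, hg, a, haC, hga⟩
      · have hmem : ∀ x : {x : α // (x.1 : V) ∈ act g '' (C : Set V)}, act g⁻¹ x.1.1.1 ∈ C := fun x => by
          obtain ⟨v, hv, e⟩ := x.2
          rw [← e, act_inv_act]; exact hv
        refine (Nat.card_le_card_of_injective
          (fun x : {x : α // (x.1 : V) ∈ act g '' (C : Set V)} =>
            (⟨act g⁻¹ x.1.1.1, hmem x, act_ne_zero g⁻¹ fun e => x.1.2.1 (Subtype.ext e)⟩ :
              {v : V // v ∈ C ∧ v ≠ 0}))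
          (fun x y e => Subtype.ext (Subtype.ext (Subtype.ext ((g⁻¹ : eichGroup Q).1.1.injective
            (congrArg Subtype.val e)))))).trans (le_of_eq ?_)
        change Nat.card {v : V | v ∈ C ∧ v ≠ 0} = _
        rw [Nat.card_coe_set_eq, show {v : V | v ∈ C ∧ v ≠ 0} = (C : Set V) \ {0} by ext v; simp,
          Set.ncard_sdiff_singleton_of_mem C.zero_mem (s := (C : Set V)), ← Nat.card_coe_set_eq]
        have hRc : Nat.card C = q ^ j := by
          rw [Module.natCard_eq_pow_finrank (K := F), Nat.card_eq_fintype_card]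
        rw [hj1, pow_one] at hRc
        exact congrArg (· - 1) hRc
    refine le_trans ?_ hc
    change _ ≤ singCount (Q.comp (side Q u z).subtype)
    have h1 := singCount_side_ge hQ hp (y := ⟨a, hCW haC⟩) (hCs a haC)
      (fun e => ha0 (congrArg Subtype.val e))
    change (q - 1) * q ^ (Module.finrank F V - 4) + q ≤ _ at h1
    have h2 : q ^ 3 ≤ q ^ (Module.finrank F V - 4) := Nat.pow_le_pow_right (by omega) (by omega)
    have h3 : q ^ (Module.finrank F V - 4) ≤ (q - 1) * q ^ (Module.finrank F V - 4) :=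
      Nat.le_mul_of_pos_left _ (by omega)
    have h4 : q ^ 2 ≤ q ^ 3 := Nat.pow_le_pow_right (by omega) (by omega)
    rw [hk2']
    omega
  · have hlow := imgs_singRad_lower hQ hn hp hCW (by rw [hrad]; exact hj)
    rw [hrad, ← hjdef, ← hI] at hlow
    refine le_trans ?_ (Nat.mul_le_mul_right _ hlow)
    set n := Module.finrank F V
    change q ^ k - 1 ≤ (q ^ (n - 3 - j) + 1) * (q ^ (n - 4 - j) + 1) * (q - 1)
    by_cases h8 : n = 8 ∧ j = 3
    · obtain ⟨e8, e3⟩ := h8
      rw [e8, e3]
      have h5 : q ^ k ≤ q ^ 4 := Nat.pow_le_pow_right (by omega) (by omega)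
      rcases h.q23 with e | e
      · change q = 2 at e
        rw [e] at h5 ⊢
        norm_num at h5 ⊢
        omega
      · change q = 3 at e
        rw [e] at h5 ⊢
        norm_num at h5 ⊢
        omega
    · refine le_trans (Nat.sub_le _ _) (le_trans ?_ (Nat.le_mul_of_pos_right _ (by omega)))
      calc q ^ k ≤ q ^ (n - 3 - j + (n - 4 - j)) := Nat.pow_le_pow_right (by omega) (by omega)
        _ = q ^ (n - 3 - j) * q ^ (n - 4 - j) := pow_add _ _ _
        _ ≤ _ := Nat.mul_le_mul (Nat.le_succ _) (Nat.le_succ _)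

end CfsgLib.OrthMinIndex
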