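/-
Over two and three elements: an anisotropic vector in a dual forces a regular radical orbit.
-/
import Cfsg.Agent.Lib.OrthMinIndex.PrimeFull
import Cfsg.Agent.Lib.OrthMinIndex.AnisoGlobal

set_option autoImplicit false

namespace CfsgLib.OrthMinIndex

open CfsgLib.Classical

variable {F V : Type*} [Field F] [AddCommGroup V] [Module F V] {Q : QuadraticForm F V}
variable {Ω : Type*} [MulAction (eichGroup Q) Ω]

local notation "pl" => QuadraticMap.polar Q

variable [Fintype F] [FiniteDimensional F V] [Finite V] [Finite Ω]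
variable [MulAction.IsPretransitive (eichGroup Q) Ω] [Nontrivial Ω]
variable (p : ℕ) [Fact p.Prime] [Algebra (ZMod p) F] [Module (ZMod p) V]
include p

/-- A dual is a plane, unless the orbit is regular. -/
theorem exists_bfix_plane (hs : SmallN Q Ω) {u : V} (hu : Q u = 0) (hu0 : u ≠ 0) {ω : Ω}
    (hnr : ¬ IsReg Q u ω) :
    ∃ b ∈ bfix Q p u ω, (∀ s : F, b ≠ s • u) ∧ ∀ y ∈ bfix Q p u ω, ∃ k l : F, y = k • u + l • b := by
  have hQ := hs.nondeg
  obtain ⟨z, hp⟩ := exists_pair hQ hu hu0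
  set C := sideFix Q p hs.prime u z ω
  have h1 : Module.finrank F C ≤ 1 := by
    refine (sideFix_cases p hs hp ω).resolve_right fun e => hnr fun a ha => ?_
    obtain ⟨w, hw, ea⟩ := exists_side_decomp hp a
    rw [QuadraticMap.polar_comm Q a u, ha.1, zero_smul, add_zero] at ea
    refine ⟨pl a z, ?_⟩
    suffices w = 0 by exact ea.trans (by rw [this, add_zero])
    refine side_perp_eq_zero hQ hp hw fun x hx => ?_
    have hm : ∀ t : F, t • x ∈ bfix Q p u ω := fun t => by
      have : t • x ∈ sideFix Q p hs.prime u z ω := by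
        rw [e]; exact Submodule.smul_mem _ t hx
      exact this.2
    have h2 : pl a x = 0 := polar_eq_zero_of_trace p fun t => by
      rw [QuadraticMap.polar_comm]; exact hm t a ha
    rwa [ea, QuadraticMap.polar_add_left, QuadraticMap.polar_smul_left, (mem_side.1 hx).1, smul_zero,
      zero_add] at h2
  obtain ⟨b, hb, hb0⟩ : ∃ b ∈ C, b ≠ 0 := by
    by_contra hc
    push Not at hc
    refine not_fullU_small hs hu hu0 (ω := ω) fun a ha => ((mem_afix hu).1 (mem_afix_of_perp p hQ fun y hy => ?_)).2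
    obtain ⟨w, hw, e⟩ := exists_sideFix_decomp p hs.prime hp hy
    rw [e, hc w hw, add_zero, QuadraticMap.polar_smul_left, ha, smul_zero]
  refine ⟨b, hb.2, fun s e => hb0 ?_, fun y hy => ?_⟩
  · have h2 := (mem_side.1 hb.1).2
    rw [e, QuadraticMap.polar_smul_right, hp.zu, smul_eq_mul, mul_one] at h2
    rw [e, h2, zero_smul]
  · obtain ⟨w, hw, e⟩ := exists_sideFix_decomp p hs.prime hp hy
    have hspan : Submodule.span F {b} = C := Submodule.eq_of_le_of_finrank_le
      ((Submodule.span_singleton_le_iff_mem b C).2 hb) (by rw [finrank_span_singleton hb0]; exact h1)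
    have hw' : w ∈ Submodule.span F {b} := by rw [hspan]; exact hw
    obtain ⟨l, hl⟩ := Submodule.mem_span_singleton.1 hw'
    exact ⟨pl y z, l, by rw [hl]; exact e⟩

/-- Any vector of the dual off the point spans it. -/
theorem bfix_plane_of_mem (hs : SmallN Q Ω) {u : V} (hu : Q u = 0) (hu0 : u ≠ 0) {ω : Ω}
    (hnr : ¬ IsReg Q u ω) {v : V} (hv : v ∈ bfix Q p u ω) (hvu : ∀ s : F, v ≠ s • u) {y : V}
    (hy : y ∈ bfix Q p u ω) : ∃ k l : F, y = k • u + l • v := by
  obtain ⟨b, -, -, hB⟩ := exists_bfix_plane p hs hu hu0 hnr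
  obtain ⟨k₀, l₀, rfl⟩ := hB v hv
  have hl : l₀ ≠ 0 := fun e => hvu k₀ (by rw [e, zero_smul, add_zero])
  obtain ⟨k, l, rfl⟩ := hB y hy
  refine ⟨k - l / l₀ * k₀, l / l₀, ?_⟩
  match_scalars <;> field_simp <;> ring

namespace MidData

variable {u z b : V} (h : MidData Q u z b)
include h

omit [Finite Ω] [MulAction.IsPretransitive (eichGroup Q) Ω] [Nontrivial Ω] in
theorem not_isReg_mid {ω : Ω} (hB : ∀ y ∈ bfix Q p u ω, ∃ k l : F, y = k • u + l • b) {x : V}
    (hx : x ∈ mid Q u z b) (hQx : Q x = 0) : ¬ IsReg Q x ω := by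
  intro hreg
  obtain ⟨hxu, hxz, hxb⟩ := mem_mid.1 hx
  obtain ⟨t, ht⟩ := hreg u (by
    simpa using symm_mem_afix h.pair.qu hQx hxu (fun t => h.afix_of_plane p hB
      (by rw [QuadraticMap.polar_smul_right, hxu, smul_zero])
      (by rw [QuadraticMap.polar_smul_right, hxb, smul_zero])) 1)
  have := h.pair.uz
  rw [ht, QuadraticMap.polar_smul_left, QuadraticMap.polar_comm, hxz, smul_zero] at this
  exact zero_ne_one this

/-- The dual at a singular vector of the middle. -/
theorem bfix_mid_small (hs : SmallN Q Ω) {ω : Ω} (hB : ∀ y ∈ bfix Q p u ω, ∃ k l : F, y = k • u + l • b)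
    {x : V} (hx : x ∈ mid Q u z b) (hQx : Q x = 0) (hx0 : x ≠ 0) {y : V} (hy : y ∈ bfix Q p x ω) :
    ∃ α k l : F, y = α • u + k • b + l • x := by
  obtain ⟨hxu, hxz, hxb⟩ := mem_mid.1 hx
  have hu := h.pair.qu
  have hyu : ∀ y' ∈ bfix Q p x ω, pl y' u = 0 := fun y' hy' =>
    bfix_perp p (symm_mem_afix hu hQx hxu fun t => h.afix_of_plane p hB
      (by rw [QuadraticMap.polar_smul_right, hxu, smul_zero])
      (by rw [QuadraticMap.polar_smul_right, hxb, smul_zero])) hy'
  have hyc : ∀ c ∈ mid Q u z b, pl x c = 0 → pl y c = 0 := by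
    intro c hc hxc
    obtain ⟨huc, -, hbc⟩ := mem_mid.1 hc
    by_contra hne
    have hg : eG Q u c • ω = ω := ((mem_afix hu).1 (h.afix_of_plane p hB huc hbc)).2
    have h1 := act_mem_bfix p (eG Q u c) hQx hy
    rw [hg, eG_fix_of hu huc ((QuadraticMap.polar_comm Q x u).trans hxu) hxc, eG_apply hu huc, hyu y hy,
      zero_smul, add_zero, mul_zero, add_zero] at h1
    have h2 := (bfix Q p x ω).sub_mem hy h1
    rw [sub_sub_cancel] at h2
    have h3 : u ∈ bfix Q p x ω := by
      have := prime_smul_mem hs.prime _ h2 (pl y c)⁻¹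
      rwa [inv_smul_smul₀ hne] at this
    have hux : ∀ s : F, u ≠ s • x := fun s e => by
      have := h.pair.uz
      rw [e, QuadraticMap.polar_smul_left, QuadraticMap.polar_comm, hxz, smul_zero] at this
      exact zero_ne_one this
    obtain ⟨k, l, e⟩ := bfix_plane_of_mem p hs hQx hx0 (h.not_isReg_mid p hB hx hQx) h3 hux hy
    refine hne ?_
    rw [e, QuadraticMap.polar_add_left, QuadraticMap.polar_smul_left, QuadraticMap.polar_smul_left, hxc, huc]
    simp
  obtain ⟨x', hx', hp⟩ := h.exists_partner_mid hx hQx hx0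
  obtain ⟨y', hy', e⟩ := exists_side_decomp h.pair y
  rw [hyu y hy, zero_smul, add_zero] at e
  obtain ⟨k, hk⟩ : ∃ k : F, y' - pl y' x' • x = k • b := by
    refine h.perp_mid (Submodule.sub_mem _ hy' (Submodule.smul_mem _ _ (mem_side.2 ⟨hxu, hxz⟩))) fun d hd => ?_
    have hd' : d - pl d x • x' ∈ mid Q u z b := Submodule.sub_mem _ hd (Submodule.smul_mem _ _ hx')
    have hxd : pl x (d - pl d x • x') = 0 := by simp [hp.uz, QuadraticMap.polar_comm Q x d]
    have h1 := hyc _ hd' hxd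
    rw [e, QuadraticMap.polar_add_left, QuadraticMap.polar_smul_left, (mem_mid.1 hd').1, smul_zero, zero_add]
      at h1
    rw [← sub_add_cancel d (pl d x • x'), QuadraticMap.polar_add_right, QuadraticMap.polar_sub_left, h1,
      QuadraticMap.polar_smul_left, hxd, QuadraticMap.polar_smul_right, QuadraticMap.polar_sub_left,
      QuadraticMap.polar_smul_left, hp.uz]
    simp
  exact ⟨pl y z, k, pl y' x', e.trans (by rw [add_assoc, ← hk, sub_add_cancel])⟩

/-- The transformations of the middle fix the point. -/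
theorem root_fix_point_small (hs : SmallN Q Ω) {ω : Ω}
    (hB : ∀ y ∈ bfix Q p u ω, ∃ k l : F, y = k • u + l • b) {g : eichGroup Q}
    (hg : g ∈ rootGroup Q (mid Q u z b)) : g • ω = ω := by
  have hle : rootGroup Q (mid Q u z b) ≤ MulAction.stabilizer (eichGroup Q) ω := by
    refine (Subgroup.closure_le _).2 ?_
    rintro _ ⟨s, hsm, c, hcm, hQs, hsc, rfl⟩
    change eG Q s c • ω = ω
    by_cases hs0 : s = 0
    · have : eG Q s c = 1 := Subtype.ext (qAut_ext fun x => by
        change act (eG Q s c) x = x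
        rw [eG_apply hQs hsc]
        simp [hs0])
      rw [this, one_smul]
    refine ((mem_afix hQs).1 (mem_afix_of_perp p h.nondeg fun y hy => ?_)).2
    obtain ⟨α, k, l, rfl⟩ := h.bfix_mid_small p hs hB hsm hQs hs0 hy
    obtain ⟨g1, -, g3⟩ := mem_mid.1 hcm
    simp [QuadraticMap.polar_add_left, QuadraticMap.polar_smul_left, g1, g3, hsc]
  exact hle hg

/-- A change of the pair puts a singular vector of the middle on the same anisotropic line. -/
theorem exists_base_small (hs : SmallN Q Ω)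
    {ω : Ω} (hb : b ∈ bfix Q p u ω) (hB : ∀ y ∈ bfix Q p u ω, ∃ k l : F, y = k • u + l • b) :
    ∃ z' v, MidData Q u z' v ∧ v ∈ bfix Q p u ω ∧ (∀ y ∈ bfix Q p u ω, ∃ k l : F, y = k • u + l • v) ∧
      ∃ x ∈ mid Q u z' v, Q x = 0 ∧ x ≠ 0 ∧ ∀ y ∈ bfix Q p x ω, ∃ k l : F, y = k • x + l • v := by
  obtain ⟨x, hx, hQx, hx0⟩ := h.exists_singular_mid
  obtain ⟨x', hx', hp⟩ := h.exists_partner_mid hx hQx hx0
  obtain ⟨hxu, hxz, hxb⟩ := mem_mid.1 hx
  obtain ⟨hxu', hxz', hxb'⟩ := mem_mid.1 hx'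
  have hu := h.pair.qu
  obtain ⟨b'', hb1, hb2⟩ := exists_polar_sep (Q.comp (side Q u z).subtype)
    (polarNondeg_side h.nondeg h.pair) (a := ⟨b, h.b_mem⟩) (b := ⟨x, mem_side.2 ⟨hxu, hxz⟩⟩)
    (fun s e => h.aniso (by rw [← show s • x = b from congrArg Subtype.val e, quad_smul, hQx, mul_zero]))
  have hb1' : pl x b''.1 = 0 := hb1
  have hb2' : pl b b''.1 ≠ 0 := hb2
  obtain ⟨hub'', hzb''⟩ := mem_side.1 b''.2
  obtain ⟨α₀, k₀, l₀, hy₀, hk₀⟩ : ∃ α₀ k₀ l₀ : F, α₀ • u + k₀ • b + l₀ • x ∈ bfix Q p x ω ∧ k₀ ≠ 0 := by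
    by_contra hcon
    push Not at hcon
    have hA : b''.1 ∈ afix Q x ω := mem_afix_of_perp p h.nondeg fun y hy => by
      obtain ⟨α, k, l, rfl⟩ := h.bfix_mid_small p hs hB hx hQx hx0 hy
      rw [hcon α k l hy]
      simp [QuadraticMap.polar_add_left, QuadraticMap.polar_smul_left, hub'', hb1']
    rw [mem_afix hQx] at hA
    have h1 := act_mem_bfix p (eG Q x b''.1) hu hb
    rw [eG_fix_of hQx hA.1 hxu hub'', hA.2, eG_apply hQx hA.1] at h1
    obtain ⟨k, l, e⟩ := hB _ h1
    have h2 := congrArg (fun v => pl x' v) e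
    simp only [QuadraticMap.polar_add_right, QuadraticMap.polar_sub_right, QuadraticMap.polar_smul_right,
      hxb, hxb', QuadraticMap.polar_comm Q x' b, QuadraticMap.polar_comm Q x' u, hxu', hp.zu,
      smul_eq_mul, mul_zero, zero_mul, add_zero, zero_add, mul_one, zero_sub, neg_eq_zero] at h2
    exact hb2' h2
  set η := α₀ / k₀
  have hv₀ : k₀ • (b + η • u) ∈ bfix Q p x ω := by
    have h1 := (bfix Q p x ω).sub_mem hy₀ (smul_self_mem_bfix (u := x) p l₀)
    rwa [add_sub_cancel_right, show α₀ • u + k₀ • b = k₀ • (b + η • u) by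
      rw [smul_add, smul_smul, mul_div_cancel₀ _ hk₀, add_comm]] at h1
  set v := b + η • u with hv
  have huv : pl u v = 0 := by simp [hv, h.ub, h.pair.uu]
  have hxv : pl x v = 0 := by
    simp [hv, QuadraticMap.polar_comm Q x b, hxb, QuadraticMap.polar_comm Q x u, hxu]
  have hxv' : pl x' v = 0 := by
    simp [hv, QuadraticMap.polar_comm Q x' b, hxb', QuadraticMap.polar_comm Q x' u, hxu']
  have hQv : Q v = Q b := by
    simp [hv, quad_add, quad_smul, hu, QuadraticMap.polar_smul_right, QuadraticMap.polar_comm Q b u, h.ub]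
  have hk : MidData Q x x' (k₀ • v) := ⟨h.nondeg, h.dim, hp, by rw [QuadraticMap.polar_smul_right, hxv, smul_zero],
    by rw [QuadraticMap.polar_smul_right, hxv', smul_zero],
    by rw [quad_smul, hQv]; exact mul_ne_zero (mul_ne_zero hk₀ hk₀) h.aniso⟩
  have hplane : ∀ y ∈ bfix Q p x ω, ∃ k l : F, y = k • x + l • v := by
    have hnr : ¬ IsReg Q x ω := h.not_isReg_mid p hB hx hQx
    intro y hy
    obtain ⟨k, l, e⟩ := bfix_plane_of_mem p hs hQx hx0 hnr hv₀ hk.b_out hy
    exact ⟨k, l * k₀, by rw [e, smul_smul]⟩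
  set b₁ := (pl b b''.1)⁻¹ • b''.1
  have e1 : pl b b₁ = 1 := by rw [QuadraticMap.polar_smul_right, smul_eq_mul, inv_mul_cancel₀ hb2']
  have e2 : pl u b₁ = 0 ∧ pl z b₁ = 0 ∧ pl x b₁ = 0 := by simp [b₁, hub'', hzb'', hb1']
  clear_value b₁
  set z' := z + (-η) • b₁ + (-(η * η * Q b₁)) • u with hz'
  have hp' : SingPair Q u z' := by
    refine ⟨hu, ?_, ?_⟩
    · simp [hz', quad_add, quad_smul, hu, h.pair.qz, QuadraticMap.polar_add_left, QuadraticMap.polar_smul_left,
        QuadraticMap.polar_smul_right, e2.2.1, h.pair.zu, QuadraticMap.polar_comm Q b₁ u, e2.1]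
    · simp [hz', h.pair.uz, e2.1, h.pair.uu]
  have hz'v : pl z' v = 0 := by
    simp [hz', hv, QuadraticMap.polar_add_left, QuadraticMap.polar_smul_left, QuadraticMap.polar_smul_right,
      h.zb, h.pair.zu, h.pair.uu, h.ub, QuadraticMap.polar_comm Q b₁ b, e1, QuadraticMap.polar_comm Q b₁ u, e2.1]
  refine ⟨z', v, ⟨h.nondeg, h.dim, hp', huv, hz'v, by rw [hQv]; exact h.aniso⟩,
    (bfix Q p u ω).add_mem hb (smul_self_mem_bfix p η), fun y hy => ?_, x, ?_, hQx, hx0, hplane⟩
  · obtain ⟨k, l, e⟩ := hB y hy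
    exact ⟨k - l * η, l, by rw [e, hv]; module⟩
  · refine mem_mid.2 ⟨hxu, ?_, by rw [QuadraticMap.polar_comm]; exact hxv⟩
    simp [hz', QuadraticMap.polar_add_left, QuadraticMap.polar_smul_left, hxz, hxu,
      QuadraticMap.polar_comm Q b₁ x, e2.2.2]

/-- The point is fixed by everything inside the perp of an anisotropic vector. -/
theorem exists_fixesV_small (hsm : SmallN Q Ω)
    {ω : Ω} (hb : b ∈ bfix Q p u ω) (hB : ∀ y ∈ bfix Q p u ω, ∃ k l : F, y = k • u + l • b) :
    ∃ v, Q v ≠ 0 ∧ FixesV Q ω v := by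
  obtain ⟨z', v, h', hv, hB', x, hx, hQx, hx0, hBx⟩ := h.exists_base_small p hsm hb hB
  clear hB hb
  refine ⟨v, h'.aniso, ?_⟩
  obtain ⟨hu, hz, huz⟩ := h'.pair
  set z := z'
  have hK : ∀ g ∈ rootGroup Q (mid Q u z v), g • ω = ω := fun g hg => h'.root_fix_point_small p hsm hB' hg
  obtain ⟨hxu, hxz, hxv⟩ := mem_mid.1 hx
  let P : V → Prop := fun s => ∀ c, pl s c = 0 → pl c v = 0 → eG Q s c • ω = ω
  have hPu : P u := fun c h1 h2 => ((mem_afix hu).1 (h'.afix_of_plane p hB' h1
    (by rw [QuadraticMap.polar_comm]; exact h2))).2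
  have hxzA : ∀ t : F, t • z ∈ afix Q x ω := fun t => mem_afix_of_perp p h'.nondeg fun y hy => by
    obtain ⟨k, l, rfl⟩ := hBx y hy
    simp [QuadraticMap.polar_add_left, QuadraticMap.polar_smul_left, QuadraticMap.polar_comm Q x z, hxz,
      QuadraticMap.polar_comm Q v z, h'.zb]
  have hxA : x ∈ afix Q z ω := by
    simpa using symm_mem_afix hQx hz (by rw [QuadraticMap.polar_comm]; exact hxz) hxzA 1
  have hDz : ∀ d ∈ mid Q u z v, d ∈ afix Q z ω := h'.mid_le_stable
    (fun g hg y hy => by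
      have := act_mem_afix g hz hy
      rwa [(h'.root_fix hg).2.1, hK g hg] at this)
    (mem_side.2 ⟨hxu, hxz⟩) hxA
    (fun t e => hx0 (by
      rw [e, quad_smul] at hQx
      rw [e, mul_self_eq_zero.1 ((mul_eq_zero.1 hQx).resolve_right h'.aniso), zero_smul]))
  have hPz : P z := by
    intro c h1 h2
    obtain ⟨c', hc', e⟩ := exists_side_decomp h'.pair c
    rw [QuadraticMap.polar_comm Q c z, h1, zero_smul, zero_add] at e
    obtain ⟨g1, g2⟩ := mem_side.1 hc'
    have hc'v : c' ∈ mid Q u z v := mem_mid.2 ⟨g1, g2, by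
      rw [e, QuadraticMap.polar_add_left, QuadraticMap.polar_smul_left, h'.zb, smul_zero, zero_add] at h2
      rw [QuadraticMap.polar_comm]; exact h2⟩
    rw [e]
    exact ((mem_afix hz).1 (add_mem (smul_self_mem_afix hz ω _) (hDz _ hc'v))).2
  have hsmul : ∀ {s} (t : F), Q s = 0 → t ≠ 0 → P s → P (t • s) := by
    intro s t hs ht hP c h1 h2
    rw [QuadraticMap.polar_smul_left, smul_eq_mul] at h1
    have h1' := (mul_eq_zero.1 h1).resolve_left ht
    rw [eG_smul_left hs h1']
    exact hP _ (by rw [QuadraticMap.polar_smul_right, h1', smul_zero])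
      (by rw [QuadraticMap.polar_smul_left, h2, smul_zero])
  have key : ∀ u z, SingPair Q u z → pl u v = 0 → pl z v = 0 → P u → P z →
      ∀ s, Q s = 0 → pl s v = 0 → pl s u ≠ 0 → P s := by
    intro u z hp hu' hz' hPu hPz s hs hsv hsu
    set t := pl s u
    set s₁ := t⁻¹ • s
    have hs₁ : Q s₁ = 0 := by rw [quad_smul, hs, mul_zero]
    have hs₁v : pl s₁ v = 0 := by rw [QuadraticMap.polar_smul_left, hsv, smul_zero]
    have hs₁u : pl s₁ u = 1 := by
      rw [QuadraticMap.polar_smul_left, smul_eq_mul, inv_mul_cancel₀ hsu]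
    rw [show s = t • s₁ from (smul_inv_smul₀ hsu s).symm]
    refine hsmul t hs₁ hsu ?_
    clear_value s₁
    obtain ⟨d, hd, e⟩ := exists_side_decomp hp s₁
    rw [hs₁u, one_smul] at e
    obtain ⟨hud, hzd⟩ := mem_side.1 hd
    have hdv : pl d v = 0 := by
      rw [e] at hs₁v
      simpa [QuadraticMap.polar_add_left, QuadraticMap.polar_smul_left, hu', hz'] using hs₁v
    have hg := hPu d hud hdv
    have hgv : act (eG Q u d) v = v := eG_fix_of hp.qu hud (by rw [QuadraticMap.polar_comm]; exact hu')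
      (by rw [QuadraticMap.polar_comm]; exact hdv)
    have hgz : act (eG Q u d) z = s₁ := by
      have hα : pl s₁ z = -Q d := by
        have := congrArg Q e
        rw [hs₁, quad_add, quad_add, quad_smul, hp.qu, hp.qz] at this
        simp [QuadraticMap.polar_add_left, QuadraticMap.polar_smul_left, hp.uz, hud, hzd] at this
        linear_combination -this
      rw [eG_apply hp.qu hud, hp.zu, hzd]
      conv_rhs => rw [e, hα]
      module
    intro c h1 h2
    obtain ⟨c, rfl⟩ : ∃ x, c = act (eG Q u d) x := ⟨_, (act_act_inv _ c).symm⟩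
    rw [← hgz, act_polar] at h1
    rw [← hgv, act_polar] at h2
    rw [← hgz]
    conv_lhs => rw [← hg, ← mul_smul, ← eG_conj' _ hp.qz h1, mul_smul, hPz c h1 h2, hg]
  intro s c hs hsc hsv hcv
  by_cases hsu : pl s u = 0
  swap
  · exact key u z h'.pair h'.ub h'.zb hPu hPz s hs hsv hsu c hsc hcv
  by_cases hsz : pl s z = 0
  swap
  · exact key z u h'.pair.symm h'.zb h'.ub hPz hPu s hs hsv hsz c hsc hcv
  have hus : pl u s = 0 := by rw [QuadraticMap.polar_comm]; exact hsu
  have hzs : pl z s = 0 := by rw [QuadraticMap.polar_comm]; exact hsz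
  have hsD : s ∈ mid Q u z v := mem_mid.2 ⟨hus, hzs, by rw [QuadraticMap.polar_comm]; exact hsv⟩
  have hA1 : ∀ t : F, t • u ∈ afix Q s ω := symm_mem_afix hu hs hus fun t =>
    h'.afix_of_plane p hB' (by rw [QuadraticMap.polar_smul_right, hus, smul_zero])
      (by rw [QuadraticMap.polar_smul_right, QuadraticMap.polar_comm, hsv, smul_zero])
  have hA2 : ∀ t : F, t • z ∈ afix Q s ω := symm_mem_afix hz hs hzs fun t =>
    hDz _ (Submodule.smul_mem _ _ hsD)
  obtain ⟨c', hc', e⟩ := exists_side_decomp h'.pair c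
  obtain ⟨g1, g2⟩ := mem_side.1 hc'
  have hc'D : c' ∈ mid Q u z v := mem_mid.2 ⟨g1, g2, by
    rw [e] at hcv
    rw [QuadraticMap.polar_comm]
    simpa [QuadraticMap.polar_add_left, QuadraticMap.polar_smul_left, h'.ub, h'.zb] using hcv⟩
  have hsc' : pl s c' = 0 := by
    rw [e] at hsc
    simpa [hsu, hsz] using hsc
  rw [e]
  exact ((mem_afix hs).1 (add_mem (add_mem (hA1 _) (hA2 _))
    ((mem_afix hs).2 ⟨hsc', hK _ (eG_mem_rootGroup hsD hc'D hs hsc')⟩))).2

end MidData

omit p [Fact p.Prime] [Algebra (ZMod p) F] [Module (ZMod p) V] in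
/-- At most one anisotropic line is fixed at a point. -/
theorem FixesV.line_small (hs : SmallN Q Ω) {ω : Ω} {v v' : V} (hv : Q v ≠ 0)
    (h : FixesV Q ω v) (h' : FixesV Q ω v') : ∃ t : F, v' = t • v := by
  have hQ := hs.nondeg
  have hn := hs.dim
  by_contra hc
  push Not at hc
  obtain ⟨x, hQx, hx0, hxv, hxv', hout⟩ := exists_singular_perp_two hQ hn hv hc
  refine not_fullU_small hs hQx hx0 (ω := ω) fun w hw => ?_
  obtain ⟨a, ha1, ha2, ha3⟩ : ∃ a, pl x a = 0 ∧ pl v a = 0 ∧ pl v' a ≠ 0 := by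
    by_contra hcon
    push Not at hcon
    let f := QuadraticMap.polarBilin Q
    have hker : ⨅ i : Fin 2, LinearMap.ker (![f x, f v] i) ≤ LinearMap.ker (f v') := fun a ha => by
      simp only [Submodule.mem_iInf, Fin.forall_fin_two, LinearMap.mem_ker] at ha
      exact LinearMap.mem_ker.2 (hcon a ha.1 ha.2)
    have hsp := mem_span_of_iInf_ker_le_ker hker
    rw [Matrix.range_cons, Matrix.range_cons, Matrix.range_empty, Set.union_empty, Set.singleton_union,
      Submodule.mem_span_pair] at hsp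
    obtain ⟨l, k, e⟩ := hsp
    refine hout k l (sub_eq_zero.1 (hQ _ fun y => ?_))
    have := LinearMap.congr_fun e y
    simp only [f, LinearMap.add_apply, LinearMap.smul_apply, QuadraticMap.polarBilin_apply_apply] at this
    simp only [QuadraticMap.polar_sub_left, QuadraticMap.polar_add_left, QuadraticMap.polar_smul_left]
    linear_combination -this
  set k := pl v' w / pl v' a
  have hka : pl x (k • a) = 0 := by rw [QuadraticMap.polar_smul_right, ha1, smul_zero]
  have hrest : pl x (w - k • a) = 0 := by rw [QuadraticMap.polar_sub_right, hw, hka, sub_zero]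
  rw [← sub_add_cancel w (k • a), ← eG_mul hQx hrest hka, mul_smul,
    h x (k • a) hQx hka hxv (by rw [QuadraticMap.polar_smul_left, QuadraticMap.polar_comm, ha2, smul_zero]),
    h' x (w - k • a) hQx hrest hxv' (by
      rw [QuadraticMap.polar_comm, QuadraticMap.polar_sub_right, QuadraticMap.polar_smul_right, smul_eq_mul,
        div_mul_cancel₀ _ ha3, sub_self])]

omit p [Fact p.Prime] [Algebra (ZMod p) F] [Module (ZMod p) V] in
/-- A small action fixes no anisotropic line. -/
theorem not_fixesV_small (hs : SmallN Q Ω) {ω : Ω} {v : V} (hv : Q v ≠ 0) : ¬ FixesV Q ω v := by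
  classical
  intro hfix
  have hex : ∀ x : {x : V // Q x = Q v}, ∃ o : Ω, FixesV Q o x.1 := by
    rintro ⟨x, hx⟩
    obtain ⟨k, hk, hkv⟩ := exists_move_level Q hs.nondeg (by have := hs.dim; omega) hv hx.symm
    refine ⟨(⟨k, hk⟩ : eichGroup Q) • ω, ?_⟩
    have := hfix.map (⟨k, hk⟩ : eichGroup Q)
    rwa [show act (⟨k, hk⟩ : eichGroup Q) v = x from hkv] at this
  choose φ hφ using hex
  let base : Ω → V := fun o => if h : ∃ x, φ x = o then (h.choose : V) else 0
  have hbase : ∀ x : {x : V // Q x = Q v}, ∃ t : {t : F // t ≠ 0}, (x : V) = t.1 • base (φ x) := by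
    intro x
    have h : ∃ y, φ y = φ x := ⟨x, rfl⟩
    simp only [base, dif_pos h]
    have hy := hφ h.choose
    rw [h.choose_spec] at hy
    obtain ⟨t, ht⟩ := hy.line_small hs (by rw [h.choose.2]; exact hv) (hφ x)
    refine ⟨⟨t, fun e => hv ?_⟩, ht⟩
    rw [← x.2, ht, e, zero_smul, map_zero]
  choose sc hsc using hbase
  have hcard := Nat.card_le_card_of_injective (fun x => (φ x, sc x)) (fun x y e => by
    obtain ⟨e1, e2⟩ := Prod.ext_iff.1 e
    exact Subtype.ext (by rw [hsc x, hsc y, show φ x = φ y from e1, show sc x = sc y from e2]))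
  rw [Nat.card_prod, Nat.card_eq_fintype_card (α := {t : F // t ≠ 0}), Fintype.card_subtype_compl,
    Fintype.card_subtype_eq] at hcard
  exact absurd hcard (not_le.2 (hs.lt_val (Q v) hv))

/-- An anisotropic vector in a dual forces regularity. -/
theorem isReg_of_aniso_small (hs : SmallN Q Ω) {ω : Ω} {u b : V} (hu : Q u = 0) (hu0 : u ≠ 0)
    (hb : b ∈ bfix Q p u ω) (hQb : Q b ≠ 0) : IsReg Q u ω := by
  by_contra hnr
  have hub := bfix_polar p hu hb
  have hout : ∀ s : F, b ≠ s • u := fun s e => hQb (by rw [e, quad_smul, hu, mul_zero])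
  obtain ⟨z, hp, hbz⟩ := exists_pair_perp hs.nondeg hu hub hout hu0
  have h : MidData Q u z b := ⟨hs.nondeg, hs.dim, hp, hub, by rw [QuadraticMap.polar_comm]; exact hbz, hQb⟩
  obtain ⟨v, hv, hf⟩ := h.exists_fixesV_small p hs hb fun y hy => bfix_plane_of_mem p hs hu hu0 hnr hb hout hy
  exact not_fixesV_small hs hv hf

end CfsgLib.OrthMinIndex
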