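/-
Over two and three elements every radical orbit is regular.
-/
import Cfsg.Agent.Lib.OrthMinIndex.PrimeAniso
import Cfsg.Agent.Lib.OrthMinIndex.Singular

set_option autoImplicit false

namespace CfsgLib.OrthMinIndex

open CfsgLib.Classical

variable {F V : Type*} [Field F] [AddCommGroup V] [Module F V] {Q : QuadraticForm F V}
variable {Ω : Type*} [MulAction (eichGroup Q) Ω]

local notation "pl" => QuadraticMap.polar Q

variable [Fintype F] [FiniteDimensional F V] [Finite V] [Finite Ω]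
variable [MulAction.IsPretransitive (eichGroup Q) Ω] [Nontrivial Ω]
variable (p : ℕ) [Fact p.Prime] [Algebra (ZMod p) F] [Module (ZMod p) V]
include p

omit [MulAction.IsPretransitive (eichGroup Q) Ω] [Nontrivial Ω] [Finite Ω] [Finite V] [FiniteDimensional F V] in
theorem mem_tspan_iff (hF : IsPrimeF F) {u y : V} {ω : Ω} :
    y ∈ tspan Q p u ω ↔ y ∈ bfix Q p u ω := by
  refine ⟨fun hy => ?_, fun hy => Submodule.subset_span hy⟩
  induction hy using Submodule.span_induction with
  | mem y hy => exact hy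
  | zero => exact zero_mem _
  | add y y' _ _ e e' => exact add_mem e e'
  | smul t y _ e => exact prime_smul_mem hF _ e t

/-- The duals of orbits that are not regular are singular lines through the point. -/
theorem exists_singular_plane (hs : SmallN Q Ω) {u : V} (hu : Q u = 0) (hu0 : u ≠ 0) {ω : Ω}
    (hnr : ¬ IsReg Q u ω) : ∃ b ∈ tspan Q p u ω, (∀ s : F, b ≠ s • u) ∧ Q b = 0 ∧ pl u b = 0 ∧
      ∀ y ∈ tspan Q p u ω, ∃ k l : F, y = k • u + l • b := by
  obtain ⟨b, hb, hbu, hB⟩ := exists_bfix_plane p hs hu hu0 hnr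
  exact ⟨b, Submodule.subset_span hb, hbu,
    by_contra fun h => hnr (isReg_of_aniso_small p hs hu hu0 hb h), bfix_polar p hu hb,
    fun y hy => hB y ((mem_tspan_iff p hs.prime).1 hy)⟩

/-- Vectors in a singular plane see the point, and each other. -/
theorem plane_symm (hs : SmallN Q Ω) {u : V} (hu : Q u = 0) (hu0 : u ≠ 0) {ω : Ω}
    (hnr : ¬ IsReg Q u ω) {x : V} (hx : x ∈ tspan Q p u ω) (hxu : ∀ s : F, x ≠ s • u) :
    Q x = 0 ∧ ¬ IsReg Q x ω ∧ u ∈ tspan Q p x ω ∧ ∀ y, y ∈ tspan Q p x ω → y ∈ tspan Q p u ω := by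
  have hQ := hs.nondeg
  obtain ⟨b, hb, hbu, hQb, hub, hB⟩ := exists_singular_plane p hs hu hu0 hnr
  have hperp : ∀ y ∈ tspan Q p u ω, ∀ y' ∈ tspan Q p u ω, pl y y' = 0 := fun y hy y' hy' => by
    obtain ⟨k, l, rfl⟩ := hB y hy
    obtain ⟨k', l', rfl⟩ := hB y' hy'
    simp [QuadraticMap.polar_add_left, QuadraticMap.polar_smul_left, QuadraticMap.polar_comm Q b u, hub,
      quad_polar_self, hu, hQb]
  have hQx : Q x = 0 := by
    obtain ⟨k, l, rfl⟩ := hB x hx
    simp [quad_add, quad_smul, hu, hQb, QuadraticMap.polar_smul_left, hub]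
  have hux := hperp u (self_mem_tspan p) x hx
  have hnrx : ¬ IsReg Q x ω := fun hreg => by
    obtain ⟨t, ht⟩ := hreg u (by
      simpa using symm_mem_afix hu hQx hux (fun t => mem_afix_of_span p hQ fun y hy => by
        rw [QuadraticMap.polar_smul_right, hperp y hy x hx, smul_zero]) 1)
    rcases eq_or_ne t 0 with rfl | ht0
    · exact hu0 (by rw [ht, zero_smul])
    · exact hxu t⁻¹ (by rw [ht, inv_smul_smul₀ ht0])
  have hx0 : x ≠ 0 := fun e => hxu 0 (by rw [e, zero_smul])
  have hmem : u ∈ tspan Q p x ω := by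
    by_contra hnu
    have hle : ∀ y ∈ tspan Q p x ω, y ∈ tspan Q p u ω := fun y hy => mem_of_perp_perp hQ fun e he =>
      tspan_move p hQ hu hQx (fun y' hy' => hperp y' hy' x hx) hnu he (he x hx) hy
    obtain ⟨c, hc, hcx, -, -, -⟩ := exists_singular_plane p hs hQx hx0 hnrx
    obtain ⟨k, l, ec⟩ := hB c (hle c hc)
    obtain ⟨k₀, l₀, ex⟩ := hB x hx
    have hl₀ : l₀ ≠ 0 := fun e => hxu k₀ (by rw [ex, e, zero_smul, add_zero])
    have e2 : c - (l / l₀) • x = (k - l / l₀ * k₀) • u := by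
      rw [ec, ex]; match_scalars <;> field_simp <;> ring
    have h2 : (k - l / l₀ * k₀) • u ∈ tspan Q p x ω := by
      rw [← e2]; exact Submodule.sub_mem _ hc (Submodule.smul_mem _ _ (self_mem_tspan p))
    rcases eq_or_ne (k - l / l₀ * k₀) 0 with e0 | e0
    · rw [e0, zero_smul, sub_eq_zero] at e2
      exact hcx _ e2
    · exact hnu (by simpa [inv_smul_smul₀ e0] using (tspan Q p x ω).smul_mem (k - l / l₀ * k₀)⁻¹ h2)
  refine ⟨hQx, hnrx, hmem, fun y hy => ?_⟩
  obtain ⟨k, l, rfl⟩ := bfix_plane_of_mem p hs hQx hx0 hnrx ((mem_tspan_iff p hs.prime).1 hmem)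
    (fun s e => by
      rcases eq_or_ne s 0 with rfl | h0
      · exact hu0 (by rw [e, zero_smul])
      · exact hxu s⁻¹ (by rw [e, inv_smul_smul₀ h0]))
    ((mem_tspan_iff p hs.prime).1 hy)
  exact Submodule.add_mem _ (Submodule.smul_mem _ _ hx) (Submodule.smul_mem _ _ (self_mem_tspan p))

/-- All radical orbits are regular. -/
theorem isReg_small (hs : SmallN Q Ω) {u : V} (hu : Q u = 0) (hu0 : u ≠ 0) (ω : Ω) : IsReg Q u ω := by
  by_contra hnr
  have hQ := hs.nondeg
  have hn := hs.dim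
  obtain ⟨b, hb, hbu, hQb, hub, hB⟩ := exists_singular_plane p hs hu hu0 hnr
  set U := tspan Q p u ω
  obtain ⟨z, hp, hbz⟩ := exists_pair_perp hQ hu hub hbu hu0
  have hbW : b ∈ side Q u z := mem_side.2 ⟨hub, by rw [QuadraticMap.polar_comm]; exact hbz⟩
  have hQW := polarNondeg_side hQ hp
  obtain ⟨b', hpb⟩ := exists_pair hQW (u := (⟨b, hbW⟩ : side Q u z)) hQb
    (fun e => hbu 0 (by rw [zero_smul]; exact congrArg Subtype.val e))
  obtain ⟨x, hx0, hQx⟩ := exists_singular _ (polarNondeg_side hQW hpb)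
    (by have := finrank_side hp; have := finrank_side hpb; omega)
  have hxu : pl u x.1.1 = 0 := (mem_side.1 x.1.2).1
  have hxz : pl z x.1.1 = 0 := (mem_side.1 x.1.2).2
  have hxb : pl b x.1.1 = 0 := (mem_side.1 x.2).1
  have hxb' : pl b'.1 x.1.1 = 0 := (mem_side.1 x.2).2
  have hbb' : pl b'.1 b = 1 := hpb.zu
  have hx0' : x.1.1 ≠ 0 := fun e => hx0 (Subtype.ext (Subtype.ext e))
  have hQx' : Q x.1.1 = 0 := hQx
  set X := x.1.1
  have hperp : ∀ c ∈ U, pl c X = 0 := fun c hc => by
    obtain ⟨k, l, rfl⟩ := hB c hc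
    simp [QuadraticMap.polar_add_left, QuadraticMap.polar_smul_left, hxu, hxb]
  have hXU : X ∉ U := fun hX => by
    obtain ⟨k, l, e⟩ := hB X hX
    have h1 := congrArg (fun v => pl z v) e
    have h3 := congrArg (fun v => pl b'.1 v) e
    simp only [QuadraticMap.polar_add_right, QuadraticMap.polar_smul_right, hxz, hp.zu,
      QuadraticMap.polar_comm Q z b, hbz, smul_eq_mul, mul_one, mul_zero, add_zero] at h1
    simp only [QuadraticMap.polar_add_right, QuadraticMap.polar_smul_right, hxb', hbb',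
      smul_eq_mul, mul_one, ← h1, zero_mul, zero_add] at h3
    exact hx0' (by rw [e, ← h1, ← h3, zero_smul, zero_smul, add_zero])
  have hnrX : ¬ IsReg Q X ω := fun hreg => by
    obtain ⟨t, ht⟩ := hreg u (by
      simpa using symm_mem_afix hu hQx' hxu (fun t => mem_afix_of_span p hQ fun y hy => by
        rw [QuadraticMap.polar_smul_right, hperp y hy, smul_zero]) 1)
    rcases eq_or_ne t 0 with rfl | ht0
    · exact hu0 (by rw [ht, zero_smul])
    · refine hXU ?_
      rw [show X = t⁻¹ • u by rw [ht, inv_smul_smul₀ ht0]]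
      exact U.smul_mem _ (self_mem_tspan p)
  have huX : ∀ s : F, u ≠ s • X := fun s e => by
    rcases eq_or_ne s 0 with rfl | h0
    · exact hu0 (by rw [e, zero_smul])
    · refine hXU ?_
      rw [show X = s⁻¹ • u by rw [e, inv_smul_smul₀ h0]]
      exact U.smul_mem _ (self_mem_tspan p)
  have hnu : u ∉ tspan Q p X ω := fun h => hXU ((plane_symm p hs hQx' hx0' hnrX h huX).2.2.1)
  obtain ⟨y, hy, hyX, -, -, -⟩ := exists_singular_plane p hs hQx' hx0' hnrX
  have hyU : y ∈ U ⊔ Submodule.span F {X} := mem_of_perp_perp hQ fun d hd =>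
    tspan_move p hQ hu hQx' hperp hnu (fun c hc => hd c (Submodule.mem_sup_left hc))
      (hd X (Submodule.mem_sup_right (Submodule.mem_span_singleton_self X))) hy
  obtain ⟨v, hv, w, hw, e⟩ := Submodule.mem_sup.1 hyU
  obtain ⟨l, rfl⟩ := Submodule.mem_span_singleton.1 hw
  have hvT : v ∈ tspan Q p X ω := by
    have := (tspan Q p X ω).sub_mem hy ((tspan Q p X ω).smul_mem l (self_mem_tspan p))
    rwa [← e, add_sub_cancel_right] at this
  by_cases hvu : ∃ s : F, v = s • u
  · obtain ⟨s, rfl⟩ := hvu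
    rcases eq_or_ne s 0 with rfl | h0
    · exact hyX l (by rw [← e, zero_smul, zero_add])
    · exact hnu (by simpa [inv_smul_smul₀ h0] using (tspan Q p X ω).smul_mem s⁻¹ hvT)
  push Not at hvu
  obtain ⟨-, -, -, hsub⟩ := plane_symm p hs hu hu0 hnr hv hvu
  have hvX : ∀ s : F, v ≠ s • X := fun s e' => hyX (s + l) (by rw [← e, e', add_smul])
  exact hXU (hsub X (plane_symm p hs hQx' hx0' hnrX hvT hvX).2.2.1)

end CfsgLib.OrthMinIndex
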