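/-
Over two and three elements the regular radical orbits are impossible: no action is that small.
-/
import Cfsg.Agent.Lib.OrthMinIndex.PrimeLines

set_option autoImplicit false

namespace CfsgLib.OrthMinIndex

open CfsgLib.Classical

variable {F V : Type*} [Field F] [AddCommGroup V] [Module F V] {Q : QuadraticForm F V}
variable {Ω : Type*} [MulAction (eichGroup Q) Ω]

local notation "pl" => QuadraticMap.polar Q

variable [Fintype F] [FiniteDimensional F V] [Finite V] [Finite Ω]
variable [MulAction.IsPretransitive (eichGroup Q) Ω] [Nontrivial Ω]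
variable (p : ℕ) [Fact p.Prime] [Algebra (ZMod p) F] [Module (ZMod p) V]
include p

/-- The parameters in the complement act simply transitively. -/
theorem reg_orbit_small (hs : SmallN Q Ω) {u z : V} (hp : SingPair Q u z) (ω ω' : Ω) :
    ∃ w ∈ side Q u z, eG Q u w • ω = ω' := by
  classical
  have hu := hp.qu
  have hu0 := hp.ne_zero
  have hQ := hs.nondeg
  by_contra hc
  let _ : Fintype (Cls Ω u hu) := Fintype.ofFinite _
  have hcard : ∀ o : Ω,
      Nat.card (bcls Q p hu (Quotient.mk (clsSetoid Q u hu) o)) * Fintype.card F = Nat.card V := by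
    intro o
    have ho := isReg_small p hs hu hu0 o
    rw [bcls_mk, bfix, ← card_mul_card_dualV p hQ (afix Q u o), mul_comm]
    congr 1
    rw [← Nat.card_eq_fintype_card]
    exact Nat.card_congr (Equiv.ofBijective
      (fun t : F => (⟨t • u, smul_self_mem_afix hu o t⟩ : afix Q u o))
      ⟨fun t t' e => smul_left_injective F hu0 (congrArg Subtype.val e),
       fun a => ⟨(ho a.1 a.2).choose, Subtype.ext (ho a.1 a.2).choose_spec.symm⟩⟩)
  have hne : (Quotient.mk (clsSetoid Q u hu) ω : Cls Ω u hu) ≠ Quotient.mk _ ω' := fun e => by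
    obtain ⟨w, hw, e'⟩ := Quotient.exact e
    obtain ⟨d, hd, ed⟩ := exists_side_decomp hp w
    rw [QuadraticMap.polar_comm Q w u, hw, zero_smul, add_zero] at ed
    refine hc ⟨d, hd, ?_⟩
    rw [← e', ed, add_comm, eG_add_self hu (mem_side.1 hd).1]
  have hsum := card_mul_eq_sum (Ω := Ω) p hQ hu hu0
  have h2 : Nat.card (bcls Q p hu (Quotient.mk (clsSetoid Q u hu) ω)) +
      Nat.card (bcls Q p hu (Quotient.mk (clsSetoid Q u hu) ω')) ≤ Nat.card Ω * Nat.card F := by
    rw [hsum, ← Finset.sum_pair (f := fun c => Nat.card (bcls Q p hu c)) hne]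
    exact Finset.sum_le_sum_of_subset (Finset.subset_univ _)
  have e1 := hcard ω
  have e2 := hcard ω'
  rw [Nat.card_eq_fintype_card (α := F)] at h2
  have hV : Nat.card V = Fintype.card F ^ Module.finrank F V := by
    rw [Module.natCard_eq_pow_finrank (K := F), Nat.card_eq_fintype_card]
  have hN := hs.lt_pow
  have hn := hs.dim
  set q := Fintype.card F
  set m := Module.finrank F V - 2
  rw [show Module.finrank F V - 1 = m + 1 by omega, pow_succ] at hN
  have hB : ∀ B, B * q = Nat.card V → B = q * q ^ m := by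
    intro B hB
    rw [hV, show Module.finrank F V = m + 1 + 1 by omega, pow_succ, pow_succ'] at hB
    exact Nat.eq_of_mul_eq_mul_right Fintype.card_pos hB
  rw [hB _ e1, hB _ e2, ← Nat.mul_add, mul_comm _ q] at h2
  have h5 : 2 * q ^ m ≤ Nat.card Ω := by
    rw [two_mul]; exact Nat.le_of_mul_le_mul_left h2 Fintype.card_pos
  have h6 : q ^ m * q ≤ 2 * q ^ m * (q - 1) := by
    rw [mul_comm 2, mul_assoc]
    exact Nat.mul_le_mul_left _ (by have := Fintype.one_lt_card (α := F); omega)
  exact absurd (h6.trans (Nat.mul_le_mul_right _ h5)) (not_le.2 hN)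

theorem reg_inj_small (hs : SmallN Q Ω) {u z : V} (hp : SingPair Q u z) {ω : Ω} {w w' : V}
    (hw : w ∈ side Q u z) (hw' : w' ∈ side Q u z) (e : eG Q u w • ω = eG Q u w' • ω) : w = w' := by
  obtain ⟨h1, h2⟩ := mem_side.1 hw
  obtain ⟨h1', h2'⟩ := mem_side.1 hw'
  have hn : pl u (-w') = 0 := by rw [QuadraticMap.polar_neg_right, h1', neg_zero]
  have hA : -w' + w ∈ afix Q u ω := (mem_afix hp.qu).2 ⟨by simp [h1, h1'], by
    rw [← eG_mul hp.qu hn h1, mul_smul, e, ← eG_inv hp.qu h1', inv_smul_smul]⟩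
  obtain ⟨t, ht⟩ := isReg_small p hs hp.qu hp.ne_zero ω _ hA
  have h3 := congrArg (fun v => pl z v) ht
  simp only [QuadraticMap.polar_add_right, QuadraticMap.polar_neg_right, QuadraticMap.polar_smul_right, h2, h2',
    hp.zu, smul_eq_mul, mul_one, neg_zero, add_zero] at h3
  rw [← h3, zero_smul, neg_add_eq_zero] at ht
  exact ht.symm

/-- There is no small action. -/
theorem false_small (hs : SmallN Q Ω) : False := by
  classical
  have hQ := hs.nondeg
  have hn := hs.dim
  obtain ⟨ω⟩ : Nonempty Ω := inferInstance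
  obtain ⟨u, hu0, hu⟩ := exists_singular Q hQ (by omega)
  obtain ⟨z, hp⟩ := exists_pair hQ hu hu0
  have hQW := polarNondeg_side hQ hp
  have hdW := finrank_side hp
  obtain ⟨xW, hxW0, hQxW⟩ := exists_singular _ hQW (by omega)
  obtain ⟨xW', hpxW⟩ := exists_pair hQW hQxW hxW0
  have hQ1 := polarNondeg_side hQW hpxW
  have hd1 := finrank_side hpxW
  obtain ⟨a₁, ha₁0, hQa₁⟩ := exists_singular _ hQ1 (by omega)
  obtain ⟨b₁, hpab₁⟩ := exists_pair hQ1 hQa₁ ha₁0
  have hQU := polarNondeg_side hQ1 hpab₁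
  have hdU := finrank_side hpab₁
  obtain ⟨cU, hcU0, hcU⟩ : ∃ c : side (((Q.comp (side Q u z).subtype)).comp
      (side (Q.comp (side Q u z).subtype) xW xW').subtype) a₁ b₁,
      Q c.1.1.1 ≠ 0 ∧ (Q c.1.1.1 = 1 ∨ Module.finrank F V = 7) := by
    rcases Nat.lt_or_ge (Module.finrank F V) 8 with h8 | h8
    · obtain ⟨c, -, hc0⟩ := Submodule.exists_mem_ne_zero_of_ne_bot (p := (⊤ : Submodule F
        (side (((Q.comp (side Q u z).subtype)).comp
          (side (Q.comp (side Q u z).subtype) xW xW').subtype) a₁ b₁))) (fun e => by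
        have := finrank_top F (side (((Q.comp (side Q u z).subtype)).comp
          (side (Q.comp (side Q u z).subtype) xW xW').subtype) a₁ b₁)
        rw [e, finrank_bot] at this
        omega)
      refine ⟨c, fun e => hc0 (hQU c fun y => ?_), Or.inr (by omega)⟩
      obtain ⟨t, rfl⟩ := exists_smul_eq_of_finrank_eq_one (K := F) (show Module.finrank F _ = 1 by omega) hc0 y
      rw [QuadraticMap.polar_smul_right]
      change t • pl c.1.1.1 c.1.1.1 = 0
      rw [quad_polar_self, e, mul_zero, smul_zero]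
    · obtain ⟨c, hc⟩ := exists_value _ hQU (by omega) (c := (1 : F)) one_ne_zero
      have hc' : Q c.1.1.1 = 1 := hc
      exact ⟨c, by rw [hc']; exact one_ne_zero, Or.inl hc'⟩
  set x : V := xW.1
  set x' : V := xW'.1
  set a : V := a₁.1.1
  set a' : V := b₁.1.1
  set c : V := cU.1.1.1
  have hpx : SingPair Q x x' := ⟨hQxW, hpxW.qz, hpxW.uz⟩
  have hpa : SingPair Q a a' := ⟨hQa₁, hpab₁.qz, hpab₁.uz⟩
  let P : V → Prop := fun b => (pl u b = 0 ∧ pl z b = 0) ∧ pl x b = 0 ∧ pl x' b = 0
  have hPa : P a := ⟨mem_side.1 a₁.1.2, (mem_side.1 a₁.2).1, (mem_side.1 a₁.2).2⟩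
  have hPa' : P a' := ⟨mem_side.1 b₁.1.2, (mem_side.1 b₁.2).1, (mem_side.1 b₁.2).2⟩
  have hPc : P c := ⟨mem_side.1 cU.1.1.2, (mem_side.1 cU.1.2).1, (mem_side.1 cU.1.2).2⟩
  have hac : pl a c = 0 := (mem_side.1 cU.2).1
  have ha'c : pl a' c = 0 := (mem_side.1 cU.2).2
  have hxs : pl u x = 0 ∧ pl z x = 0 := mem_side.1 xW.2
  have hxs' : pl u x' = 0 ∧ pl z x' = 0 := mem_side.1 xW'.2
  have hW0 : ∀ y, P y → pl y a = 0 → pl y a' = 0 → (Module.finrank F V = 7 → pl y c = 0) →
      (Module.finrank F V = 7) → y = 0 := by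
    intro y hy h1 h2 h3 h7
    let yW : side Q u z := ⟨y, mem_side.2 hy.1⟩
    let y1 : side (Q.comp (side Q u z).subtype) xW xW' := ⟨yW, mem_side.2 hy.2⟩
    suffices h : (⟨y1, mem_side.2 ⟨(QuadraticMap.polar_comm Q a y).trans h1,
        (QuadraticMap.polar_comm Q a' y).trans h2⟩⟩ :
        side (((Q.comp (side Q u z).subtype)).comp
          (side (Q.comp (side Q u z).subtype) xW xW').subtype) a₁ b₁) = 0 by
      exact congrArg (fun v : side (((Q.comp (side Q u z).subtype)).comp
          (side (Q.comp (side Q u z).subtype) xW xW').subtype) a₁ b₁ => v.1.1.1) h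
    refine hQU _ fun d => ?_
    have hc0 : cU ≠ 0 := fun e => hcU0 (by
      change Q cU.1.1.1 = 0
      rw [e]; exact map_zero Q)
    obtain ⟨t, rfl⟩ := exists_smul_eq_of_finrank_eq_one (K := F) (show Module.finrank F _ = 1 by omega) hc0 d
    rw [QuadraticMap.polar_smul_right]
    change t • pl y c = 0
    rw [h3 h7, smul_zero]
  clear_value x x' a a' c
  obtain ⟨hux, hzx⟩ := hxs
  obtain ⟨hux', hzx'⟩ := hxs'
  have hx : Q x = 0 := hpx.qu
  have hxu : pl x u = 0 := (QuadraticMap.polar_comm Q x u).trans hux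
  have hxz : pl x z = 0 := (QuadraticMap.polar_comm Q x z).trans hzx
  -- the map of parameters
  have hfix : ∀ b, P b → act (eG Q x b) u = u ∧ act (eG Q x b) z = z := fun b hb =>
    ⟨eG_fix_of hx hb.2.1 hux hb.1.1, eG_fix_of hx hb.2.1 hzx hb.1.2⟩
  have hex : ∀ b : V, ∃ w, P b → w ∈ side Q u z ∧ eG Q u w • ω = eG Q x b • ω := fun b => by
    by_cases hb : P b
    · obtain ⟨w, hw, e⟩ := reg_orbit_small p hs hp ω (eG Q x b • ω)
      exact ⟨w, fun _ => ⟨hw, e⟩⟩
    · exact ⟨0, fun h => absurd h hb⟩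
  choose f hf using hex
  have hinj : ∀ {w w' : V}, w ∈ side Q u z → w' ∈ side Q u z →
      eG Q u w • ω = eG Q u w' • ω → w = w' := fun hw hw' e => reg_inj_small p hs hp hw hw' e
  have hmove : ∀ (g : eichGroup Q) (w : V), act g u = u → pl u w = 0 →
      ∀ o : Ω, g • eG Q u w • o = eG Q u (act g w) • g • o := fun g w hg hw o => by
    rw [← mul_smul, eG_conj' g hu hw, hg, mul_smul]
  have hside : ∀ {g : eichGroup Q}, act g u = u → act g z = z → ∀ {w : V}, w ∈ side Q u z →
      act g w ∈ side Q u z := fun h1 h2 _ hw => pairFix_mem_side ⟨h1, h2⟩ hw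
  -- conjugation
  have hconj : ∀ (g : eichGroup Q) (e : V), act g u = u → act g z = z → e ∈ side Q u z →
      eG Q u e • ω = g • ω → ∀ b d, P b → P d → g * eG Q x b = eG Q x d * g →
      f d + act (eG Q x d) e = act g (f b) + e := by
    intro g e hgu hgz he hge b d hb hd hgd
    obtain ⟨hfb, efb⟩ := hf b hb
    obtain ⟨hfd, efd⟩ := hf d hd
    obtain ⟨hu1, hz1⟩ := hfix d hd
    have h1 := hside hu1 hz1 he
    have h2 := hside hgu hgz hfb
    refine hinj (Submodule.add_mem _ hfd h1) (Submodule.add_mem _ h2 he) ?_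
    rw [add_comm (f d), ← eG_mul hu (mem_side.1 h1).1 (mem_side.1 hfd).1, mul_smul, efd,
      ← hmove _ e hu1 (mem_side.1 he).1, hge, ← mul_smul, ← hgd, mul_smul, ← efb,
      hmove g _ hgu (mem_side.1 hfb).1, ← hge, ← mul_smul, eG_mul hu (mem_side.1 h2).1 (mem_side.1 he).1]
  have hcomm : ∀ b d, pl x b = 0 → pl x d = 0 → eG Q x b * eG Q x d = eG Q x d * eG Q x b :=
    fun b d hb hd => by rw [eG_mul hx hb hd, eG_mul hx hd hb, add_comm]
  -- the images are orthogonal to `x`
  have hfx : ∀ b, P b → pl (f b) x = 0 := by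
    intro b hb
    obtain ⟨d, hd, hdb⟩ : ∃ d, P d ∧ ∀ s : F, d ≠ s • b := by
      by_contra hcon
      push Not at hcon
      obtain ⟨s, hs1⟩ := hcon a hPa
      obtain ⟨t, ht1⟩ := hcon a' hPa'
      have h1 := hpa.uz
      have h2 := hpa.uu
      rw [hs1, QuadraticMap.polar_smul_left, QuadraticMap.polar_smul_right] at h2
      rw [hs1, ht1, QuadraticMap.polar_smul_left, QuadraticMap.polar_smul_right] at h1
      simp only [smul_eq_mul] at h1 h2
      rcases mul_eq_zero.1 h2 with e | e
      · rw [e, zero_mul] at h1; exact zero_ne_one h1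
      · rcases mul_eq_zero.1 e with e | e <;> rw [e] at h1 <;> simp at h1
    obtain ⟨hfd, efd⟩ := hf d hd
    have e := hconj (eG Q x d) (f d) (hfix d hd).1 (hfix d hd).2 hfd efd b b hb hb (hcomm d b hd.2.1 hb.2.1)
    rw [eG_apply hx hb.2.1, eG_apply hx hd.2.1] at e
    set β := pl (f d) x
    by_contra hne
    refine hdb (β / pl (f b) x) ?_
    have e' : β • b - (pl (f d) b + Q b * β) • x = pl (f b) x • d - (pl (f b) d + Q d * pl (f b) x) • x := by
      linear_combination (norm := module) e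
    have h3 := congrArg (fun v => pl x' v) e'
    simp only [QuadraticMap.polar_sub_right, QuadraticMap.polar_smul_right, hb.2.2, hd.2.2, hpx.zu, smul_eq_mul,
      mul_zero, mul_one, zero_sub, neg_inj] at h3
    rw [h3, sub_left_inj] at e'
    rw [div_eq_inv_mul, mul_smul, e', inv_smul_smul₀ hne]
  -- additivity
  have hadd : ∀ b d, P b → P d → f (b + d) = f b + f d - pl (f d) b • x := by
    intro b d hb hd
    have hbd : P (b + d) := ⟨⟨by simp [hb.1.1, hd.1.1], by simp [hb.1.2, hd.1.2]⟩,
      by simp [hb.2.1, hd.2.1], by simp [hb.2.2, hd.2.2]⟩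
    obtain ⟨hfb, efb⟩ := hf b hb
    obtain ⟨hfd, efd⟩ := hf d hd
    obtain ⟨hfs, efs⟩ := hf _ hbd
    obtain ⟨hu1, hz1⟩ := hfix b hb
    have h1 := hside hu1 hz1 hfd
    have e : f (b + d) = act (eG Q x b) (f d) + f b := by
      refine hinj hfs (Submodule.add_mem _ h1 hfb) ?_
      rw [efs, ← eG_mul hx hb.2.1 hd.2.1, mul_smul, ← efd, hmove _ _ hu1 (mem_side.1 hfd).1, ← efb,
        ← mul_smul, eG_mul hu (mem_side.1 h1).1 (mem_side.1 hfb).1]
    rw [e, eG_apply hx hb.2.1, hfx d hd]
    module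
  let M : V → V := fun b => f b - pl (f b) x' • x
  have hsymm : ∀ b d, P b → P d → pl (M b) d = pl (M d) b := by
    intro b d hb hd
    have h1 := hadd b d hb hd
    have h2 := hadd d b hd hb
    rw [add_comm d b, h1, add_comm (f b), sub_right_inj] at h2
    have h3 : pl (f d) b = pl (f b) d := smul_left_injective F hpx.ne_zero h2
    simp only [M, QuadraticMap.polar_sub_left, QuadraticMap.polar_smul_left, hb.2.1, hd.2.1, h3, smul_zero,
      sub_zero]
  have hMadd : ∀ b d, P b → P d → M (b + d) = M b + M d := by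
    intro b d hb hd
    simp only [M, hadd b d hb hd, QuadraticMap.polar_add_left, QuadraticMap.polar_sub_left,
      QuadraticMap.polar_smul_left, hpx.uz, smul_eq_mul, mul_one]
    module
  have hPsmul : ∀ (t : F) b, P b → P (t • b) := fun t b hb =>
    ⟨⟨by simp [hb.1.1], by simp [hb.1.2]⟩, by simp [hb.2.1], by simp [hb.2.2]⟩
  have hMsmul : ∀ (t : F) b, P b → M (t • b) = t • M b := by
    intro t b hb
    obtain ⟨k, rfl⟩ := hs.prime t
    induction k with
    | zero =>
      have h0 := hMadd _ _ (hPsmul 0 b hb) (hPsmul 0 b hb)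
      rw [← add_smul, add_zero, left_eq_add] at h0
      simpa using h0
    | succ k ih => rw [Nat.cast_succ, add_smul, add_smul, one_smul, one_smul,
        hMadd _ _ (hPsmul _ b hb) hb, ih]
  have hMP : ∀ b, P b → P (M b) := by
    intro b hb
    obtain ⟨g1, g2⟩ := mem_side.1 (hf b hb).1
    refine ⟨⟨by simp [M, g1, hux], by simp [M, g2, hzx]⟩, ?_, ?_⟩
    · simp [M, QuadraticMap.polar_comm Q x (f b), hfx b hb, hpx.uu]
    · simp [M, QuadraticMap.polar_comm Q x' (f b), hpx.zu]
  -- equivariance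
  have hequiv : ∀ g : eichGroup Q, act g u = u → act g z = z → act g x = x → act g x' = x' →
      ∃ μ : F, ∀ b, P b → M (act g b) = act g (M b) + μ • act g b := by
    intro g hgu hgz hgx hgx'
    obtain ⟨e, he, ee⟩ := reg_orbit_small p hs hp ω (g • ω)
    refine ⟨-pl e x, fun b hb => ?_⟩
    have hgb : P (act g b) := ⟨⟨by rw [← hgu, act_polar, hb.1.1], by rw [← hgz, act_polar, hb.1.2]⟩,
      by rw [← hgx, act_polar, hb.2.1], by rw [← hgx', act_polar, hb.2.2]⟩
    have h := hconj g e hgu hgz he ee b (act g b) hb hgb (by rw [eG_conj' g hx hb.2.1, hgx])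
    rw [eG_apply hx hgb.2.1] at h
    set K := pl e (act g b) + Q (act g b) * pl e x
    have h' : f (act g b) = act g (f b) - pl e x • act g b + K • x := by
      linear_combination (norm := module) h
    have h1 : pl (act g (f b)) x' = pl (f b) x' := by conv_lhs => rw [← hgx', act_polar]
    have h2 : act g (f b - pl (f b) x' • x) = act g (f b) - pl (f b) x' • x := by
      change (g : qAut Q).1 _ = _
      rw [map_sub, map_smul]
      exact congrArg (fun v => act g (f b) - pl (f b) x' • v) hgx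
    simp only [M, h', h2, QuadraticMap.polar_add_left, QuadraticMap.polar_sub_left,
      QuadraticMap.polar_smul_left, h1, QuadraticMap.polar_comm Q (act g b) x', hgb.2.2, hpx.uz, smul_eq_mul,
      mul_zero, mul_one, sub_zero]
    module
  have hc0 : c ≠ 0 := fun e => hcU0 (by rw [e, map_zero])
  -- the two transformations
  have hstep : ∀ a a' : V, P a → P a' → SingPair Q a a' → pl a c = 0 → pl a' c = 0 →
      pl (M a) a = 0 ∧
      M c - Q c • M a = (pl (M a') a + pl (M a) c) • c -
        (pl (M a') c + Q c * pl (M a') a + Q c * pl (M a) c) • a + pl (M a) c • a' := by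
    intro a a' hPa hPa' hpa hac ha'c
    have hfixv : ∀ v : V, pl v a = 0 → pl v c = 0 → act (eG Q a c) v = v := fun v h1 h2 =>
      eG_fix_of hpa.qu hac h1 h2
    obtain ⟨μ, hμ⟩ := hequiv (eG Q a c) (hfixv u hPa.1.1 hPc.1.1) (hfixv z hPa.1.2 hPc.1.2)
      (hfixv x hPa.2.1 hPc.2.1) (hfixv x' hPa.2.2 hPc.2.2)
    have e1 := hμ a hPa
    rw [hfixv a hpa.uu hac, eG_apply hpa.qu hac] at e1
    have e1' : pl (M a) a • c = (pl (M a) c + Q c * pl (M a) a - μ) • a := by
      linear_combination (norm := module) -e1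
    have h3 := congrArg (fun v => pl a' v) e1'
    simp only [QuadraticMap.polar_smul_right, ha'c, hpa.zu, smul_eq_mul, mul_zero, mul_one] at h3
    rw [← h3, zero_smul] at e1'
    have h4 : pl (M a) a = 0 := (smul_eq_zero.1 e1').resolve_right hc0
    rw [h4, mul_zero, add_zero, eq_comm, sub_eq_zero] at h3
    subst h3
    refine ⟨h4, ?_⟩
    have e2 := hμ a' hPa'
    rw [eG_apply hpa.qu hac, eG_apply hpa.qu hac, hpa.zu, ha'c, one_smul, zero_add, mul_one] at e2
    have hca : P ((-Q c) • a) := hPsmul _ a hPa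
    have hsum : P (a' + c) := ⟨⟨by simp [hPa'.1.1, hPc.1.1], by simp [hPa'.1.2, hPc.1.2]⟩,
      by simp [hPa'.2.1, hPc.2.1], by simp [hPa'.2.2, hPc.2.2]⟩
    rw [sub_eq_add_neg (a' + c), ← neg_smul, hMadd _ _ hsum hca, hMadd _ _ hPa' hPc, hMsmul _ a hPa] at e2
    linear_combination (norm := module) e2
  obtain ⟨hMaa, hE1⟩ := hstep a a' hPa hPa' hpa hac ha'c
  obtain ⟨hMa'a', hE2⟩ := hstep a' a hPa' hPa hpa.symm ha'c hac
  set A := pl (M a) a'
  set μ := pl (M a) c
  set μ' := pl (M a') c
  have hA : pl (M a') a = A := hsymm _ _ hPa' hPa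
  rw [hA] at hE1
  have k1 := congrArg (fun v => pl v a') hE1
  have k2 := congrArg (fun v => pl v a) hE2
  simp only [QuadraticMap.polar_sub_left, QuadraticMap.polar_add_left, QuadraticMap.polar_smul_left,
    hpa.uz, hpa.zu, hpa.uu, hpa.zz, (QuadraticMap.polar_comm Q c a').trans ha'c,
    (QuadraticMap.polar_comm Q c a).trans hac, hsymm c a' hPc hPa', hsymm c a hPc hPa, hA, smul_eq_mul,
    mul_zero, mul_one, add_zero, zero_sub, zero_add] at k1 k2
  change μ' - Q c * A = _ at k1
  change μ - Q c * A = _ at k2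
  have hκ : Q c = 1 ∨ (Q c = 2 ∧ (3 : F) = 0 ∧ Module.finrank F V = 7) := by
    rcases hcU with h | h7
    · exact Or.inl h
    · rcases hs.q23 with e | e
      · have := hs.dim2 e; omega
      · have h3 : (3 : F) = 0 := by
          have := FiniteField.cast_card_eq_zero F
          rw [e] at this
          exact_mod_cast this
        have h2 : (2 : F) ≠ 0 := fun h2 => one_ne_zero (show (1 : F) = 0 by linear_combination h3 - h2)
        have hall : ∀ t : F, t = 0 ∨ t = 1 ∨ t = 2 := fun t => by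
          obtain ⟨k, rfl⟩ := hs.prime t
          rw [← Nat.div_add_mod k 3]
          have : k % 3 = 0 ∨ k % 3 = 1 ∨ k % 3 = 2 := by omega
          rcases this with e | e | e <;> simp [e, h3]
        rcases hall (Q c) with h | h | h
        · exact absurd h hcU0
        · exact Or.inl h
        · exact Or.inr ⟨h, h3, h7⟩
  obtain ⟨b, hPb, hb0, lam, hlam⟩ : ∃ b, P b ∧ b ≠ 0 ∧ ∃ lam : F, M b = lam • b := by
    rcases hκ with hk | ⟨hk, h3, h7⟩
    · have hmu : μ' = μ := by rw [hk] at k1 k2; linear_combination k1 - k2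
      refine ⟨a + (-1 : F) • a', ⟨⟨by simp [hPa.1.1, hPa'.1.1], by simp [hPa.1.2, hPa'.1.2]⟩,
        by simp [hPa.2.1, hPa'.2.1], by simp [hPa.2.2, hPa'.2.2]⟩, fun e => ?_, A, ?_⟩
      · have h := congrArg (fun v => pl a v) e
        simp [hpa.uu, hpa.uz] at h
      · rw [hMadd _ _ hPa (hPsmul _ _ hPa'), hMsmul _ _ hPa']
        rw [hk, hmu] at hE1 hE2
        rw [hk] at k1 k2
        have hc1 : μ + A + μ = A - μ := by rw [hmu] at k1; linear_combination k1
        linear_combination (norm := match_scalars <;> first | ring1 | linear_combination -hc1 | linear_combination hc1) hE2 - hE1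
    · have hsum : μ + μ' = 0 := by rw [hk] at k1; linear_combination -k1 + (μ + μ') * h3
      refine ⟨a + a', ⟨⟨by simp [hPa.1.1, hPa'.1.1], by simp [hPa.1.2, hPa'.1.2]⟩,
        by simp [hPa.2.1, hPa'.2.1], by simp [hPa.2.2, hPa'.2.2]⟩, fun e => ?_, A, ?_⟩
      · have h := congrArg (fun v => pl a v) e
        simp [hpa.uu, hpa.uz] at h
      · rw [hMadd _ _ hPa hPa', ← sub_eq_zero]
        have hM1 := hMP a hPa
        have hM2 := hMP a' hPa'
        refine hW0 _ ⟨⟨by simp [hM1.1.1, hM2.1.1, hPa.1.1, hPa'.1.1], by simp [hM1.1.2, hM2.1.2, hPa.1.2, hPa'.1.2]⟩,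
          by simp [hM1.2.1, hM2.2.1, hPa.2.1, hPa'.2.1], by simp [hM1.2.2, hM2.2.2, hPa.2.2, hPa'.2.2]⟩
          ?_ ?_ (fun _ => ?_) h7
        · simp [QuadraticMap.polar_sub_left, QuadraticMap.polar_add_left, QuadraticMap.polar_smul_left, hMaa, hA,
            hpa.uu, hpa.zu]
        · simp [QuadraticMap.polar_sub_left, QuadraticMap.polar_add_left, QuadraticMap.polar_smul_left, hMa'a',
            hpa.zz, hpa.uz, A]
        · simp only [QuadraticMap.polar_sub_left, QuadraticMap.polar_add_left, QuadraticMap.polar_smul_left,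
            hac, ha'c, smul_zero, add_zero, sub_zero]
          exact hsum
  -- the eigenvector
  set k := pl (f b) x'
  have hfb : f b = lam • b + k • x := by
    rw [← hlam]; simp only [M]; rw [sub_add_cancel]
  obtain ⟨hub, hzb⟩ := hPb.1
  have hbu : pl b u = 0 := (QuadraticMap.polar_comm Q b u).trans hub
  have hfix1 : (eG Q u (-lam • b + -k • x) * eG Q x b) • ω = ω := by
    have h1 := (hf b hPb).2
    rw [mul_smul, ← h1, hfb, ← mul_smul, eG_mul hu (by simp [hub, hux]) (by simp [hub, hux]),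
      show -lam • b + -k • x + (lam • b + k • x) = 0 by module, eG_zero hu, one_smul]
  set x'' := x + -lam • u
  have hQx'' : Q x'' = 0 := by simp [x'', quad_add, quad_smul, hx, hu, hxu]
  set d := b + (k + lam * Q b) • u
  have hxd : pl x'' d = 0 := by
    simp [x'', d, QuadraticMap.polar_add_left, QuadraticMap.polar_smul_left, hPb.2.1, hub, hxu, hp.uu]
  have heq : eG Q u (-lam • b + -k • x) * eG Q x b = eG Q x'' d := by
    refine Subtype.ext (qAut_ext fun y => ?_)
    change act (eG Q u (-lam • b + -k • x) * eG Q x b) y = act (eG Q x'' d) y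
    rw [act_mul, eG_apply hu (by simp [hub, hux]), eG_apply hx hPb.2.1, eG_apply hQx'' hxd]
    have hbb : pl b b = 2 * Q b := quad_polar_self Q b
    simp only [x'', d, QuadraticMap.polar_add_left, QuadraticMap.polar_sub_left, QuadraticMap.polar_smul_left,
      QuadraticMap.polar_add_right, QuadraticMap.polar_smul_right, quad_add, quad_smul, hu, hx, hxu, hux,
      hbu, hub, hpx.uu, hPb.2.1, (QuadraticMap.polar_comm Q b x).trans hPb.2.1, hbb, smul_eq_mul]
    match_scalars <;> ring
  rw [heq] at hfix1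
  obtain ⟨t, ht⟩ := isReg_small p hs hQx'' (fun e => by
    have := congrArg (fun v => pl x' v) e
    simp [x'', hpx.zu, (QuadraticMap.polar_comm Q x' u).trans hux'] at this) ω d
    ((mem_afix hQx'').2 ⟨hxd, hfix1⟩)
  have h5 := congrArg (fun v => pl x' v) ht
  simp only [x'', d, QuadraticMap.polar_add_right, QuadraticMap.polar_smul_right, hPb.2.2, hpx.zu,
    (QuadraticMap.polar_comm Q x' u).trans hux', smul_eq_mul, mul_zero, add_zero, mul_one] at h5
  rw [← h5, zero_smul] at ht
  have h6 := congrArg (fun v => pl z v) ht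
  simp only [d, QuadraticMap.polar_add_right, QuadraticMap.polar_smul_right, hzb, hp.zu, smul_eq_mul,
    mul_one, zero_add, QuadraticMap.polar_zero_right] at h6
  exact hb0 (by simpa [d, h6] using ht)

end CfsgLib.OrthMinIndex
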