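/-
The least index of a proper subgroup of the orthogonal groups over two and three elements.
-/
import Cfsg.Agent.Lib.OrthMinIndex.PrimeRegular
import Cfsg.Agent.Lib.OrthMinIndex.Bridge

set_option autoImplicit false

namespace CfsgLib.OrthMinIndex

open CfsgLib.Classical Cfsg

section levels

variable {F : Type*} [Field F] [Fintype F]

theorem valCard_congr {V V' : Type*} [AddCommGroup V] [Module F V] [AddCommGroup V'] [Module F V']
    {Q : QuadraticForm F V} {Q' : QuadraticForm F V'} (e : V ≃ₗ[F] V') (he : ∀ v, Q' (e v) = Q v) (c : F) :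
    valCard Q' c = valCard Q c :=
  (Nat.card_congr (e.toEquiv.subtypeEquiv (p := fun v => Q v = c) (q := fun v => Q' v = c)
    fun v => by simp [he])).symm

theorem valCard_hypSum {V : Type*} [AddCommGroup V] [Module F V] [Finite V] (Q : QuadraticForm F V) {c : F}
    (hc : c ≠ 0) :
    valCard (hypSum Q) c = (Fintype.card F - 1) * Nat.card V + Fintype.card F * valCard Q c := by
  classical
  have hF : Nat.card {t : F // t ≠ 0} = Fintype.card F - 1 := by
    rw [Nat.card_eq_fintype_card, Fintype.card_subtype_compl, Fintype.card_subtype_eq]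
  rw [← hF, ← Nat.card_eq_fintype_card (α := F), ← Nat.card_prod, valCard, valCard,
    ← Nat.card_prod, ← Nat.card_sum]
  refine (Nat.card_congr (Equiv.ofBijective
    (fun x : ({t : F // t ≠ 0} × V) ⊕ (F × {w : V // Q w = c}) =>
      match x with
      | Sum.inl y => (⟨((y.1.1, (c - Q y.2) / y.1.1), y.2), by
          rw [hypSum_apply]; simp [mul_div_cancel₀ _ y.1.2]⟩ : {x : (F × F) × V // hypSum Q x = c})
      | Sum.inr y => ⟨((0, y.1), y.2.1), by rw [hypSum_apply]; simp [y.2.2]⟩) ⟨?_, ?_⟩)).symm
  · rintro (⟨⟨α, hα⟩, w⟩ | ⟨t, w, hw⟩) (⟨⟨α', hα'⟩, w'⟩ | ⟨t', w', hw'⟩) e <;>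
      have e' := congrArg Subtype.val e <;>
      simp only [Prod.mk.injEq] at e'
    · obtain ⟨⟨rfl, -⟩, rfl⟩ := e'
      rfl
    · exact absurd e'.1.1 hα
    · exact absurd e'.1.1.symm hα'
    · obtain ⟨⟨-, rfl⟩, rfl⟩ := e'
      rfl
  · rintro ⟨⟨⟨α, γ⟩, w⟩, hx⟩
    rw [hypSum_apply] at hx
    rcases eq_or_ne α 0 with rfl | hα
    · exact ⟨Sum.inr ⟨γ, w, by simpa using hx⟩, rfl⟩
    · refine ⟨Sum.inl ⟨⟨α, hα⟩, w⟩, Subtype.ext ?_⟩
      change ((α, (c - Q w) / α), w) = _
      congr 2
      rw [div_eq_iff hα]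
      have hx' : α * γ + Q w = c := hx
      linear_combination -hx'

/-- The odd-dimensional form over three elements takes the value two least often. -/
theorem valCard_line_two (hF : Fintype.card F = 3) :
    ∀ m : ℕ, valCard (qExt m (qLine F)) (2 : F) + 3 ^ m = 3 ^ (2 * m) := by
  have h3 : (3 : F) = 0 := by
    have := FiniteField.cast_card_eq_zero F
    rw [hF] at this
    exact_mod_cast this
  have h2 : (2 : F) ≠ 0 := fun h2 => one_ne_zero (show (1 : F) = 0 by linear_combination h3 - h2)
  intro m
  induction m with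
  | zero =>
    rw [valCard_congr extZero (qExt_extZero (qLine F))]
    haveI : IsEmpty {v : Unit → F // qLine F v = 2} := ⟨fun v => by
      have hv := v.2
      rw [qLine_apply] at hv
      haveI : Fact (Nat.Prime 3) := ⟨by norm_num⟩
      obtain ⟨k, hk⟩ := isPrimeF_of_card (p := 3) hF (v.1 ())
      have h0 : (0 : F) ≠ 2 := fun e => h2 e.symm
      have h1 : (1 : F) ≠ 2 := fun e => one_ne_zero (show (1 : F) = 0 by linear_combination -e)
      rw [← hk, ← Nat.div_add_mod k 3] at hv
      have : k % 3 = 0 ∨ k % 3 = 1 ∨ k % 3 = 2 := by omega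
      rcases this with e | e | e
      · exact h0 (by simpa [e, h3] using hv)
      · exact h1 (by simpa [e, h3] using hv)
      · exact h1 (by
          have hv' : (2 : F) * 2 = 2 := by simpa [e, h3] using hv
          linear_combination hv' - h3)⟩
    rw [valCard, Nat.card_of_isEmpty]
    simp
  | succ m ih =>
    rw [valCard_congr (Q := hypSum (qExt m (qLine F))) (Q' := qExt (m + 1) (qLine F)) (extSucc m)
      (qExt_extSucc m (qLine F)), valCard_hypSum _ h2, hF, Nat.card_eq_fintype_card, Fintype.card_fun,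
      Fintype.card_sum, Fintype.card_sum, Fintype.card_fin, Fintype.card_unit, hF,
      show m + m + 1 = 2 * m + 1 by omega, show 2 * (m + 1) = 2 * m + 1 + 1 by omega]
    simp only [pow_succ]
    omega

end levels

variable {F : Type*} [Field F] [Fintype F] {ι : Type} [Fintype ι] [DecidableEq ι]

/-- The lower bound in coordinates. -/
theorem index_lower_small (Q : QuadraticForm F (ι → F)) (hQ : PolarNondeg Q) (hn : 7 ≤ Fintype.card ι)
    (hq : Fintype.card F = 2 ∨ Fintype.card F = 3) (h2 : Fintype.card F = 2 → 8 ≤ Fintype.card ι) (B : ℕ)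
    (hpow : B * (Fintype.card F - 1) ≤ Fintype.card F ^ (Fintype.card ι - 1))
    (h7 : Fintype.card ι = 7 → B * (Fintype.card F - 1) ≤ 720)
    (h82 : Fintype.card ι = 8 → Fintype.card F = 2 → B ≤ 120)
    (h83 : Fintype.card ι = 8 → Fintype.card F = 3 → B * 2 ≤ 2160)
    (hsing : B * (Fintype.card F - 1) ≤ singCount Q)
    (hval : ∀ c : F, c ≠ 0 → B * (Fintype.card F - 1) ≤ valCard Q c)
    (H : Subgroup (POmega F ⇑Q)) (hH : H ≠ ⊤) : B ≤ H.index := by
  classical
  have hprime : (Fintype.card F).Prime := by rcases hq with e | e <;> rw [e] <;> norm_num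
  haveI : Fact (Fintype.card F).Prime := ⟨hprime⟩
  haveI : CharP F (Fintype.card F) := charP_of_card_eq_prime rfl
  letI := ZMod.algebra F (Fintype.card F)
  have hfr : Module.finrank F (ι → F) = Fintype.card ι := Module.finrank_pi F
  obtain ⟨e, he⟩ := exists_omega_equiv Q hQ (by omega)
  haveI : Finite (eichGroup Q) := Finite.of_equiv _ e.toEquiv
  set K : Subgroup (Omega F ⇑Q) := H.comap (QuotientGroup.mk' (Subgroup.center (Omega F ⇑Q)))
  have hi : K.index = H.index := H.index_comap_of_surjective (QuotientGroup.mk'_surjective _)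
  have hK : K ≠ ⊤ := fun h => hH (Subgroup.index_eq_one.mp (by rw [← hi, h, Subgroup.index_top]))
  set K' := K.map e.toMonoidHom
  have hi' : K'.index = K.index := Subgroup.index_map_equiv K e
  haveI : Nontrivial (eichGroup Q ⧸ K') := by
    rw [← Finite.one_lt_card_iff_nontrivial, ← Subgroup.index_eq_card, hi']
    exact Subgroup.one_lt_index_of_ne_top hK
  by_contra hlt
  push Not at hlt
  have hN : Nat.card (eichGroup Q ⧸ K') < B := by rw [← Subgroup.index_eq_card, hi', hi]; exact hlt
  have hq0 : 0 < Fintype.card F - 1 := by rcases hq with e | e <;> omega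
  have hmul : Nat.card (eichGroup Q ⧸ K') * (Fintype.card F - 1) < B * (Fintype.card F - 1) :=
    (Nat.mul_lt_mul_right hq0).2 hN
  refine false_small (Q := Q) (Ω := eichGroup Q ⧸ K') (Fintype.card F)
    ⟨hQ, by omega, hq, fun e => by have := h2 e; omega, isPrimeF_of_card (p := Fintype.card F) rfl,
      by rw [hfr]; exact hmul.trans_le hpow, fun e => hmul.trans_le (h7 (by omega)),
      fun e e' => hN.trans_le (h82 (by omega) e'), fun e e' => ?_, hmul.trans_le hsing,
      fun c hc => hmul.trans_le (hval c hc)⟩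
  have := h83 (by omega) e'
  omega

/-- The singular points give a subgroup. -/
theorem exists_index_sing (Q : QuadraticForm F (ι → F)) (hQ : PolarNondeg Q) (hn : 7 ≤ Fintype.card ι) :
    ∃ H : Subgroup (POmega F ⇑Q), H.index = singCount Q / (Fintype.card F - 1) := by
  classical
  obtain ⟨e, he⟩ := exists_omega_equiv Q hQ (by omega)
  have hfr : 7 ≤ Module.finrank F (ι → F) := by rwa [Module.finrank_pi]
  haveI : Finite (eichGroup Q) := Finite.of_equiv _ e.toEquiv
  obtain ⟨u, hu0, hu⟩ := exists_singular Q hQ (by omega)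
  set P := singMk Q hu0 hu
  haveI := eichGroup_isPretransitive Q hQ (by omega)
  set K := (MulAction.stabilizer (eichGroup Q) P).comap e.toMonoidHom
  have hq1 : 0 < Fintype.card F - 1 := Nat.sub_pos_of_lt Fintype.one_lt_card
  have hK : K.index = singCount Q / (Fintype.card F - 1) := by
    rw [Subgroup.index_comap_of_surjective _ e.surjective, MulAction.index_stabilizer,
      MulAction.orbit_eq_univ, Set.ncard_univ, ← card_singPts_mul, Nat.mul_div_cancel _ hq1]
  have hle : Subgroup.center (Omega F ⇑Q) ≤ K := by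
    intro g hg
    have hval : ∀ x, (e g : qAut Q).1 x = x ∨ (e g : qAut Q).1 x = (-1 : F) • x := by
      intro x
      rcases Omega_central_eq Q hQ (by omega) hg with h | h
      · left; rw [he, h, isoApply_one]
      · right; rw [he, h, negIso_apply, neg_one_smul]
    change ((e g : eichGroup Q) : qAut Q) • P = P
    rcases hval u with h | h
    · exact smul_singMk_eq Q hu0 hu hu0 hu 1 (by rw [h, one_smul])
    · exact smul_singMk_eq Q hu0 hu hu0 hu (-1) h
  refine ⟨K.map (QuotientGroup.mk' _), ?_⟩
  rw [Subgroup.index_map_eq K (QuotientGroup.mk'_surjective _) (by rw [QuotientGroup.ker_mk']; exact hle), hK]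

/-- The non-singular points give a subgroup. -/
theorem exists_index_level (Q : QuadraticForm F (ι → F)) (hQ : PolarNondeg Q) (hn : 7 ≤ Fintype.card ι)
    {v : ι → F} (hv : Q v ≠ 0) :
    ∃ H : Subgroup (POmega F ⇑Q), H.index * ({v, -v} : Set (ι → F)).ncard = valCard Q (Q v) := by
  classical
  obtain ⟨e, he⟩ := exists_omega_equiv Q hQ (by omega)
  have hfr : 7 ≤ Module.finrank F (ι → F) := by rwa [Module.finrank_pi]
  haveI : Finite (eichGroup Q) := Finite.of_equiv _ e.toEquiv
  let instA : MulAction (eichGroup Q) (ι → F) :=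
    { smul := fun g x => act g x
      one_smul := act_one
      mul_smul := act_mul }
  have hneg : ∀ (g : eichGroup Q) (x : ι → F), act g (-x) = -act g x := fun g x => map_neg (g : qAut Q).1 x
  let K₀ : Subgroup (eichGroup Q) :=
    { carrier := {g | act g v = v ∨ act g v = -v}
      one_mem' := Or.inl (act_one v)
      mul_mem' := by
        rintro g h (hg | hg) (hh | hh)
        · exact Or.inl (by rw [act_mul, hh, hg])
        · exact Or.inr (by rw [act_mul, hh, hneg, hg])
        · exact Or.inr (by rw [act_mul, hh, hg])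
        · exact Or.inl (by rw [act_mul, hh, hneg, hg, neg_neg])
      inv_mem' := by
        rintro g (hg | hg)
        · exact Or.inl (by conv_lhs => rw [← hg, act_inv_act])
        · refine Or.inr ?_
          conv_lhs => rw [← neg_neg v, ← hg, hneg, act_inv_act] }
  set S := MulAction.stabilizer (eichGroup Q) v
  have hSK : S ≤ K₀ := fun g hg => Or.inl hg
  have horb : MulAction.orbit (eichGroup Q) v = {x | Q x = Q v} := by
    ext x
    refine ⟨?_, fun hx => ?_⟩
    · rintro ⟨g, rfl⟩
      exact act_quad g v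
    · obtain ⟨g, hg, hgv⟩ := exists_move_level Q hQ (by omega) hv (v' := x) hx.symm
      exact ⟨⟨g, hg⟩, hgv⟩
  have hS : S.index = valCard Q (Q v) := by
    rw [MulAction.index_stabilizer, horb, ← Nat.card_coe_set_eq]
    rfl
  have hrel : S.relIndex K₀ = ({v, -v} : Set (ι → F)).ncard := by
    have e1 : S.subgroupOf K₀ = MulAction.stabilizer K₀ v := rfl
    rw [Subgroup.relIndex, e1, MulAction.index_stabilizer]
    congr 1
    ext x
    refine ⟨?_, fun hx => ?_⟩
    · rintro ⟨⟨g, hg | hg⟩, rfl⟩
      · exact Or.inl hg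
      · exact Or.inr hg
    · rcases hx with hx | hx
      · exact ⟨1, (act_one v).trans hx.symm⟩
      · obtain ⟨g, hg, hgv⟩ := exists_move_level Q hQ (by omega) hv (v' := -v) (QuadraticMap.map_neg Q v).symm
        exact ⟨⟨⟨g, hg⟩, Or.inr hgv⟩, hgv.trans hx.symm⟩
  set K := K₀.comap e.toMonoidHom
  have hle : Subgroup.center (Omega F ⇑Q) ≤ K := by
    intro g hg
    change act (e g) v = v ∨ act (e g) v = -v
    rcases Omega_central_eq Q hQ (by omega) hg with h | h
    · left
      change (e g : qAut Q).1 v = v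
      rw [he, h, isoApply_one]
    · right
      change (e g : qAut Q).1 v = -v
      rw [he, h, negIso_apply]
  refine ⟨K.map (QuotientGroup.mk' _), ?_⟩
  rw [Subgroup.index_map_eq K (QuotientGroup.mk'_surjective _) (by rw [QuotientGroup.ker_mk']; exact hle),
    Subgroup.index_comap_of_surjective _ e.surjective, ← hrel, ← hS, mul_comm,
    Subgroup.relIndex_mul_index hSK]

end CfsgLib.OrthMinIndex
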